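import Mathlib
import Cfsg.Prelude.Def_Characters

set_option autoImplicit false

namespace Cfsg.Agent.Helper15

open Cfsg

/-- trace is multiplicative on endomorphisms of a one-dimensional coordinate space -/
lemma trace_mul_fin_one (f g : (Fin 1 → ℂ) →ₗ[ℂ] (Fin 1 → ℂ)) :
    LinearMap.trace ℂ _ (f * g) = LinearMap.trace ℂ _ f * LinearMap.trace ℂ _ g := by
  rw [LinearMap.trace_eq_matrix_trace ℂ (Pi.basisFun ℂ (Fin 1)),
    LinearMap.trace_eq_matrix_trace ℂ (Pi.basisFun ℂ (Fin 1)),
    LinearMap.trace_eq_matrix_trace ℂ (Pi.basisFun ℂ (Fin 1)), LinearMap.toMatrix_mul]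
  simp [Matrix.trace_fin_one, Matrix.mul_apply]

/-- A character of degree one is multiplicative. -/
lemma linear_char_mul {G : Type*} [Group G] (lam : G → ℂ)
    (hlam : Cfsg.IsCharacter G lam ∧ lam 1 = 1) (x y : G) : lam (x * y) = lam x * lam y := by
  obtain ⟨⟨n, ρ, hρ⟩, h1⟩ := hlam
  have hn : n = 1 := by
    have : ρ.character 1 = 1 := by rw [hρ]; exact h1
    rw [Representation.char_one] at this
    simpa using this
  subst hn
  rw [← hρ]
  simp only [Representation.character, map_mul]
  exact trace_mul_fin_one _ _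

lemma linear_char_inv {G : Type*} [Group G] (lam : G → ℂ)
    (hlam : Cfsg.IsCharacter G lam ∧ lam 1 = 1) (x : G) : lam x⁻¹ = (lam x)⁻¹ := by
  have h := linear_char_mul lam hlam x⁻¹ x
  rw [inv_mul_cancel, hlam.2] at h
  exact eq_inv_of_mul_eq_one_left h.symm

lemma linear_char_ne_zero {G : Type*} [Group G] (lam : G → ℂ)
    (hlam : Cfsg.IsCharacter G lam ∧ lam 1 = 1) (x : G) : lam x ≠ 0 := by
  intro h0
  have h := linear_char_mul lam hlam x⁻¹ x
  rw [inv_mul_cancel, hlam.2, h0, mul_zero] at h
  exact one_ne_zero h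

/-- The monoid hom underlying a linear character. -/
noncomputable def linearCharHom {G : Type*} [Group G] (lam : G → ℂ)
    (hlam : Cfsg.IsCharacter G lam ∧ lam 1 = 1) : G →* ℂ where
  toFun := lam
  map_one' := hlam.2
  map_mul' := linear_char_mul lam hlam

/-- The kernel of a linear character, as a subgroup. -/
def linearCharKer {G : Type*} [Group G] (lam : G → ℂ)
    (hlam : Cfsg.IsCharacter G lam ∧ lam 1 = 1) : Subgroup G where
  carrier := {x | lam x = 1}
  one_mem' := hlam.2
  mul_mem' := by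
    intro a b ha hb
    show lam (a * b) = 1
    rw [linear_char_mul lam hlam, ha, hb, mul_one]
  inv_mem' := by
    intro a ha
    show lam a⁻¹ = 1
    rw [linear_char_inv lam hlam, ha, inv_one]

lemma mem_linearCharKer {G : Type*} [Group G] (lam : G → ℂ)
    (hlam : Cfsg.IsCharacter G lam ∧ lam 1 = 1) (x : G) :
    x ∈ linearCharKer lam hlam ↔ lam x = 1 := Iff.rfl

end Cfsg.Agent.Helper15
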