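import Mathlib
import Cfsg.Prelude.Def_Characters
import Cfsg.Agent.Lib.Helper15.LinearChar

set_option autoImplicit false

namespace Cfsg.Agent.Helper15

open Cfsg

universe u

variable {G : Type u} [Group G]

/-- the hom into the units attached to a linear character -/
noncomputable def toUnitsHom (lam : G → ℂ) (hlam : Cfsg.IsCharacter G lam ∧ lam 1 = 1) : G →* ℂˣ :=
  (linearCharHom lam hlam).toHomUnits

@[simp] lemma coe_toUnitsHom (lam : G → ℂ) (hlam : Cfsg.IsCharacter G lam ∧ lam 1 = 1) (g : G) :
    ((toUnitsHom lam hlam g : ℂˣ) : ℂ) = lam g := rfl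

/-- the function underlying a hom into the units, as a monoid hom -/
def coeFunHom (G : Type u) [Group G] : (G →* ℂˣ) →* (G → ℂ) where
  toFun l := fun g => ((l g : ℂˣ) : ℂ)
  map_one' := by ext g; simp
  map_mul' a b := by ext g; simp

@[simp] lemma coeFunHom_apply (l : G →* ℂˣ) (g : G) : coeFunHom G l g = ((l g : ℂˣ) : ℂ) := rfl

lemma coeFunHom_injective : Function.Injective (coeFunHom G) := by
  intro a b h
  ext g
  have := congrFun h g
  simpa using this

lemma coeFunHom_toUnitsHom (lam : G → ℂ) (hlam : Cfsg.IsCharacter G lam ∧ lam 1 = 1) :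
    coeFunHom G (toUnitsHom lam hlam) = lam := by
  ext g; simp

lemma orderOf_coeFunHom (l : G →* ℂˣ) : orderOf (coeFunHom G l) = orderOf l :=
  orderOf_injective (coeFunHom G) coeFunHom_injective l

/-- the one-dimensional representation attached to a hom into the units -/
noncomputable def homRep (l : G →* ℂˣ) : Representation ℂ G (Fin 1 → ℂ) where
  toFun g := ((l g : ℂˣ) : ℂ) • LinearMap.id
  map_one' := by simp; rfl
  map_mul' a b := by
    ext v i
    simp [mul_smul]
    ring

lemma homRep_character (l : G →* ℂˣ) : (homRep l).character = coeFunHom G l := by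
  ext g
  simp [Representation.character, homRep]

lemma isLinear_coeFunHom (l : G →* ℂˣ) :
    Cfsg.IsCharacter G (coeFunHom G l) ∧ coeFunHom G l 1 = 1 :=
  ⟨⟨1, homRep l, homRep_character l⟩, by simp⟩

/-- Transfer of an element all of whose conjugates lie in `H` and have the same image. -/
theorem transfer_eq_pow_of_const {H : Subgroup G} [H.FiniteIndex] {A : Type*} [CommGroup A]
    (ϕ : H →* A) (g : G) (hg : ∀ x : G, x⁻¹ * g * x ∈ H) (c : A)
    (hc : ∀ x : G, ϕ ⟨x⁻¹ * g * x, hg x⟩ = c) : MonoidHom.transfer ϕ g = c ^ H.index := by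
  classical
  let T : H.LeftTransversal := default
  rw [MonoidHom.transfer_def ϕ T g]
  unfold Subgroup.leftTransversals.diff
  simp only
  let _ := H.fintypeQuotientOfFiniteIndex
  have hfix : ∀ q : G ⧸ H, g⁻¹ • q = q := by
    intro q
    induction q using QuotientGroup.induction_on with
    | H x =>
      show ((g⁻¹ * x : G) : G ⧸ H) = (x : G ⧸ H)
      rw [QuotientGroup.eq]
      have := hg x
      simpa [mul_assoc] using this
  have hterm : ∀ q : G ⧸ H,
      ((T.2.leftQuotientEquiv q : G))⁻¹ * ((g • T).2.leftQuotientEquiv q : G) =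
      ((T.2.leftQuotientEquiv q : G))⁻¹ * g * (T.2.leftQuotientEquiv q : G) := by
    intro q
    rw [Subgroup.smul_apply_eq_smul_apply_inv_smul, hfix q, smul_eq_mul, mul_assoc]
  rw [Finset.prod_congr rfl (fun q _ => ?_), Finset.prod_const, Finset.card_univ,
    Subgroup.index_eq_card, Nat.card_eq_fintype_card]
  rw [← hc (T.2.leftQuotientEquiv q : G)]
  congr 1
  exact Subtype.ext (hterm q)

end Cfsg.Agent.Helper15
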