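import Mathlib
import Cfsg.Prelude.Def_Characters
import Cfsg.Agent.Lib.Helper15.LinearHom

set_option autoImplicit false

namespace Cfsg.Agent.Helper15

open Cfsg

universe u

variable {G : Type u} [Group G]

/-- transfer of an extension of an invariant hom, evaluated on the normal subgroup -/
theorem transfer_restrict (N : Subgroup G) [hN : N.Normal] (L : N →* ℂˣ)
    (hL : ∀ (g : G) (n : N), L ⟨g * n * g⁻¹, hN.conj_mem (n : G) n.2 g⟩ = L n)
    (H : Subgroup G) [H.FiniteIndex] (hNH : N ≤ H) (ν : H →* ℂˣ)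
    (hν : ∀ n : N, ν ⟨(n : G), hNH n.2⟩ = L n) (n : N) :
    MonoidHom.transfer ν (n : G) = L n ^ H.index := by
  have hmem : ∀ x : G, x⁻¹ * (n : G) * x ∈ N := fun x => by
    have := hN.conj_mem (n : G) n.2 x⁻¹
    simpa using this
  apply transfer_eq_pow_of_const ν (n : G) (fun x => hNH (hmem x)) (L n)
  intro x
  have h1 := hν ⟨x⁻¹ * (n : G) * x, hmem x⟩
  have h2 := hL x⁻¹ n
  have h3 : (⟨x⁻¹ * (n : G) * x⁻¹⁻¹, hN.conj_mem (n : G) n.2 x⁻¹⟩ : N) = ⟨x⁻¹ * (n : G) * x, hmem x⟩ :=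
    Subtype.ext (by simp)
  rw [h3] at h2
  rw [← h2, ← h1]

lemma isOfFinOrder_hom [Finite G] (L : G →* ℂˣ) : IsOfFinOrder L := by
  rw [isOfFinOrder_iff_pow_eq_one]
  refine ⟨Nat.card G, Nat.card_pos, ?_⟩
  ext g
  rw [MonoidHom.pow_apply, ← map_pow, pow_card_eq_one', map_one, MonoidHom.one_apply]

/-- hom-level version of the Sylow extension criterion for linear characters -/
theorem exists_extension_of_sylow [Finite G] (N : Subgroup G) [hN : N.Normal] (L : N →* ℂˣ)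
    (hL : ∀ (g : G) (n : N), L ⟨g * n * g⁻¹, hN.conj_mem (n : G) n.2 g⟩ = L n)
    (hsyl : ∀ p : ℕ, p.Prime → p ∣ orderOf L → ∃ (H : Subgroup G) (hNH : N ≤ H) (ν : H →* ℂˣ),
      Nat.Coprime H.index p ∧ ∀ n : N, ν ⟨(n : G), hNH n.2⟩ = L n) :
    ∃ μ : G →* ℂˣ, ∀ n : N, μ (n : G) = L n := by
  classical
  let I : AddSubgroup ℤ :=
    { carrier := {e | ∃ μ : G →* ℂˣ, ∀ n : N, μ (n : G) = L n ^ e}
      zero_mem' := ⟨1, fun n => by simp⟩
      add_mem' := by
        rintro a b ⟨μ₁, h₁⟩ ⟨μ₂, h₂⟩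
        exact ⟨μ₁ * μ₂, fun n => by rw [MonoidHom.mul_apply, h₁, h₂, zpow_add]⟩
      neg_mem' := by
        rintro a ⟨μ₁, h₁⟩
        exact ⟨μ₁⁻¹, fun n => by rw [MonoidHom.inv_apply, h₁, zpow_neg]⟩ }
  obtain ⟨d, hd⟩ : ∃ d : ℤ, I = AddSubgroup.zmultiples d := by
    obtain ⟨d, hd⟩ := Int.subgroup_cyclic I
    exact ⟨d, by rw [hd, AddSubgroup.zmultiples_eq_closure]⟩
  have hdvd : ∀ e ∈ I, d ∣ e := by
    intro e he
    rw [hd, AddSubgroup.mem_zmultiples_iff] at he
    obtain ⟨k, hk⟩ := he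
    exact ⟨k, by rw [← hk]; simp [mul_comm]⟩
  set m := orderOf L with hm
  have hmpos : 0 < m := (isOfFinOrder_hom L).orderOf_pos
  have hmI : (m : ℤ) ∈ I := by
    refine ⟨1, fun n => ?_⟩
    rw [MonoidHom.one_apply, zpow_natCast, ← MonoidHom.pow_apply, hm, pow_orderOf_eq_one,
      MonoidHom.one_apply]
  have hdm : d ∣ (m : ℤ) := hdvd _ hmI
  have hdI : d ∈ I := by rw [hd]; exact AddSubgroup.mem_zmultiples d
  by_cases h1 : d.natAbs = 1
  · have h1I : (1 : ℤ) ∈ I := by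
      rcases Int.natAbs_eq d with h | h
      · rw [h1] at h; rw [h] at hdI; exact_mod_cast hdI
      · rw [h1] at h
        have := I.neg_mem hdI
        rw [h] at this
        simpa using this
    obtain ⟨μ, hμ⟩ := h1I
    exact ⟨μ, fun n => by rw [hμ n, zpow_one]⟩
  · exfalso
    obtain ⟨q, hq, hqd⟩ := Nat.exists_prime_and_dvd h1
    have hqd' : (q : ℤ) ∣ d := by
      rw [← Int.natAbs_dvd_natAbs]; simpa using hqd
    have hqm : q ∣ m := by exact_mod_cast hqd'.trans hdm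
    obtain ⟨H, hNH, ν, hcop, hν⟩ := hsyl q hq hqm
    have hidx : (H.index : ℤ) ∈ I := by
      refine ⟨MonoidHom.transfer ν, fun n => ?_⟩
      rw [transfer_restrict N L hL H hNH ν hν n, zpow_natCast]
    have hq2 : (q : ℤ) ∣ (H.index : ℤ) := hqd'.trans (hdvd _ hidx)
    have hq3 : q ∣ H.index := by exact_mod_cast hq2
    have hq4 : q ∣ Nat.gcd H.index q := Nat.dvd_gcd hq3 dvd_rfl
    rw [hcop] at hq4
    exact hq.one_lt.ne' (Nat.dvd_one.mp hq4)

/-- hom-level version of the coprime unique extension of an invariant linear character -/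
theorem exists_unique_extension_of_coprime [Finite G] (N : Subgroup G) [hN : N.Normal]
    (L : N →* ℂˣ)
    (hL : ∀ (g : G) (n : N), L ⟨g * n * g⁻¹, hN.conj_mem (n : G) n.2 g⟩ = L n)
    (hcop : Nat.Coprime N.index (orderOf L)) :
    ∃ μ : G →* ℂˣ, (∀ n : N, μ (n : G) = L n) ∧ orderOf μ = orderOf L ∧
      ∀ μ' : G →* ℂˣ, (∀ n : N, μ' (n : G) = L n) → Nat.Coprime N.index (orderOf μ') → μ' = μ := by
  classical
  set m := orderOf L with hm
  set k := N.index with hk
  have hLm : ∀ n : N, L n ^ m = 1 := fun n => by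
    rw [← MonoidHom.pow_apply, hm, pow_orderOf_eq_one, MonoidHom.one_apply]
  -- Bezout
  have hbez : (k : ℤ) * Nat.gcdA k m + (m : ℤ) * Nat.gcdB k m = 1 := by
    have := Nat.gcd_eq_gcd_ab k m
    rw [hcop] at this
    exact_mod_cast this.symm
  set a := Nat.gcdA k m with ha
  set b := Nat.gcdB k m with hb
  let τ : G →* ℂˣ := MonoidHom.transfer L
  have hτN : ∀ n : N, τ (n : G) = L n ^ k := fun n =>
    transfer_restrict N L hL N le_rfl L (fun _ => rfl) n
  -- elements trivial on N are killed by k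
  have hkill : ∀ δ : G →* ℂˣ, (∀ n : N, δ (n : G) = 1) → δ ^ k = 1 := by
    intro δ hδ
    ext g
    rw [MonoidHom.pow_apply, ← map_pow, MonoidHom.one_apply]
    have := hδ ⟨g ^ k, Subgroup.pow_index_mem N g⟩
    rw [this]
  let μ : G →* ℂˣ := τ ^ (a * a * k)
  have hμN : ∀ n : N, μ (n : G) = L n := by
    intro n
    show (τ ^ (a * a * k)) (n : G) = L n
    rw [MonoidHom.zpow_apply, hτN, ← zpow_natCast, ← zpow_mul]
    have hexp : (k : ℤ) * (a * a * k) = 1 + m * (-2 * b + m * b * b) := by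
      have : (k : ℤ) * a = 1 - m * b := by linarith
      calc (k : ℤ) * (a * a * k) = (k * a) * (k * a) := by ring
        _ = (1 - m * b) * (1 - m * b) := by rw [this]
        _ = _ := by ring
    rw [hexp, zpow_add, zpow_one, zpow_mul, zpow_natCast, hLm, one_zpow, mul_one]
  have hμm : μ ^ m = 1 := by
    -- τ^(k m) = 1
    have h1 : ∀ g : G, τ g ^ (k * m) = 1 := by
      intro g
      rw [pow_mul, ← map_pow]
      have := hτN ⟨g ^ k, Subgroup.pow_index_mem N g⟩
      simp only at this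
      rw [this, ← pow_mul, mul_comm, pow_mul, hLm, one_pow]
    refine MonoidHom.ext (fun g => ?_)
    rw [MonoidHom.pow_apply, MonoidHom.one_apply]
    show ((τ ^ (a * a * k)) g) ^ m = 1
    rw [MonoidHom.zpow_apply, ← zpow_natCast, ← zpow_mul]
    have : a * a * k * (m : ℤ) = ((k * m : ℕ) : ℤ) * (a * a) := by push_cast; ring
    rw [this, zpow_mul, zpow_natCast, h1, one_zpow]
  have hord : orderOf μ = m := by
    apply Nat.dvd_antisymm
    · exact orderOf_dvd_of_pow_eq_one hμm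
    · -- restriction is a hom
      rw [hm]
      apply orderOf_dvd_of_pow_eq_one
      ext n
      rw [MonoidHom.pow_apply, ← hμN, ← MonoidHom.pow_apply, pow_orderOf_eq_one]
      rfl
  refine ⟨μ, hμN, hord, ?_⟩
  intro μ' hμ'N hcop'
  set δ := μ' * μ⁻¹ with hδ
  have hδN : ∀ n : N, δ (n : G) = 1 := by
    intro n
    rw [hδ, MonoidHom.mul_apply, MonoidHom.inv_apply, hμ'N, hμN, mul_inv_cancel]
  have hδk : δ ^ k = 1 := hkill δ hδN
  have hδm : δ ^ (orderOf μ' * m) = 1 := by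
    refine MonoidHom.ext (fun g => ?_)
    rw [MonoidHom.pow_apply, MonoidHom.one_apply, hδ, MonoidHom.mul_apply, MonoidHom.inv_apply,
      mul_pow, inv_pow]
    have e1 : (μ' g) ^ (orderOf μ' * m) = 1 := by
      rw [pow_mul, ← MonoidHom.pow_apply, pow_orderOf_eq_one, MonoidHom.one_apply, one_pow]
    have e2 : (μ g) ^ (orderOf μ' * m) = 1 := by
      rw [mul_comm, pow_mul, ← MonoidHom.pow_apply, hμm, MonoidHom.one_apply, one_pow]
    rw [e1, e2, inv_one, mul_one]
  have hcop2 : Nat.Coprime k (orderOf μ' * m) := Nat.Coprime.mul_right hcop' hcop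
  have hδ1 : δ = 1 := by
    have h1 : orderOf δ ∣ k := orderOf_dvd_of_pow_eq_one hδk
    have h2 : orderOf δ ∣ orderOf μ' * m := orderOf_dvd_of_pow_eq_one hδm
    have h3 : orderOf δ ∣ Nat.gcd k (orderOf μ' * m) := Nat.dvd_gcd h1 h2
    rw [hcop2] at h3
    exact orderOf_eq_one_iff.mp (Nat.dvd_one.mp h3)
  rw [hδ] at hδ1
  exact mul_inv_eq_one.mp hδ1

end Cfsg.Agent.Helper15
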