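import Mathlib
import Cfsg.Prelude.Def_Characters
import Cfsg.Agent.Lib.Helper81.CharInd

set_option autoImplicit false

namespace Cfsg.Agent.Helper15

open Cfsg Cfsg.Agent.Helper81
open scoped ComplexConjugate

universe u

/-- A character of norm one is irreducible. -/
theorem isIrrCharacter_of_classInner_eq_one {G : Type u} [Group G] [Fintype G] {ψ : G → ℂ}
    (hψ : IsCharacter G ψ) (h1 : classInner ψ ψ = 1) : IsIrrCharacter G ψ := by
  classical
  have : Fintype (IrrCharacter G) := @Fintype.ofFinite _ irr_finite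
  obtain ⟨m, hm⟩ := exists_nat_decomp hψ
  have hnorm : classInner ψ ψ = ((∑ χ, m χ * m χ : ℕ) : ℂ) := by
    conv_lhs => rw [hm]
    rw [classInner_sum_right]
    push_cast
    apply Finset.sum_congr rfl
    intro χ _
    rw [classInner_smul_right, classInner_nat_decomp (fun χ' => (m χ' : ℂ)) χ, Complex.conj_natCast]
  rw [hnorm] at h1
  have h2 : ∑ χ, m χ * m χ = 1 := by exact_mod_cast h1
  -- exactly one m χ is nonzero, and it is one
  have hex : ∃ χ₀, m χ₀ ≠ 0 := by
    by_contra hcon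
    push Not at hcon
    simp [hcon] at h2
  obtain ⟨χ₀, hχ₀⟩ := hex
  have hsplit := Finset.add_sum_erase Finset.univ (fun χ => m χ * m χ) (Finset.mem_univ χ₀)
  rw [h2] at hsplit
  have hm0 : m χ₀ * m χ₀ ≥ 1 := Nat.mul_pos (Nat.pos_of_ne_zero hχ₀) (Nat.pos_of_ne_zero hχ₀)
  have hrest : ∑ χ ∈ Finset.univ.erase χ₀, m χ * m χ = 0 := by omega
  have hm1 : m χ₀ * m χ₀ = 1 := by omega
  have hm1' : m χ₀ = 1 := by
    exact Nat.eq_one_of_mul_eq_one_right hm1
  have hzero : ∀ χ, χ ≠ χ₀ → m χ = 0 := by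
    intro χ hχ
    have := (Finset.sum_eq_zero_iff.mp hrest) χ (Finset.mem_erase.mpr ⟨hχ, Finset.mem_univ _⟩)
    exact (Nat.mul_eq_zero.mp this).elim id id
  have : ψ = (χ₀ : G → ℂ) := by
    rw [hm, Finset.sum_eq_single χ₀]
    · rw [hm1']; simp
    · intro b _ hb; rw [hzero b hb]; simp
    · intro h; exact absurd (Finset.mem_univ _) h
  rw [this]
  exact χ₀.2

end Cfsg.Agent.Helper15
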