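import Mathlib

set_option autoImplicit false

namespace Cfsg.Agent.Helper15

open MonoidAlgebra

variable (F : Type*) [Field F] {G : Type*} [Group G]

/-- the `F`-span of the elements `u - 1`, `u ∈ N`, of the group algebra -/
noncomputable def augSpan (N : Subgroup G) : Submodule F (MonoidAlgebra F G) :=
  Submodule.span F ((fun u : G => (single u (1 : F) - 1 : MonoidAlgebra F G)) '' (N : Set G))

lemma single_sub_one_mem_augSpan (N : Subgroup G) {u : G} (hu : u ∈ N) :
    (single u (1 : F) - 1 : MonoidAlgebra F G) ∈ augSpan F N :=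
  Submodule.subset_span ⟨u, hu, rfl⟩

/-- Kernel of the projection to the quotient group algebra is contained in `⊤ * augSpan N`. -/
lemma ker_le_top_mul_augSpan (N : Subgroup G) [N.Normal] (α : MonoidAlgebra F G)
    (hα : mapDomainAlgHom F F (QuotientGroup.mk' N) α = 0) :
    α ∈ (⊤ : Submodule F (MonoidAlgebra F G)) * augSpan F N := by
  classical
  let s : G ⧸ N → G := Quotient.out
  have hs : ∀ c : G ⧸ N, (QuotientGroup.mk (s c) : G ⧸ N) = c := fun c => Quotient.out_eq' c
  have key : ∀ β : MonoidAlgebra F G,
      β - mapDomain s (mapDomain (QuotientGroup.mk' N) β) ∈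
        (⊤ : Submodule F (MonoidAlgebra F G)) * augSpan F N := by
    intro β
    induction β using MonoidAlgebra.induction_linear with
    | zero => simp
    | add x y hx hy =>
      rw [mapDomain_add, mapDomain_add]
      have : x + y - (mapDomain s (mapDomain (QuotientGroup.mk' N) x) +
          mapDomain s (mapDomain (QuotientGroup.mk' N) y)) =
          (x - mapDomain s (mapDomain (QuotientGroup.mk' N) x)) +
          (y - mapDomain s (mapDomain (QuotientGroup.mk' N) y)) := by abel
      rw [this]
      exact Submodule.add_mem _ hx hy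
    | single x r =>
      rw [mapDomain_single, mapDomain_single]
      set y := s (QuotientGroup.mk' N x) with hy
      have hu : y⁻¹ * x ∈ N := by
        rw [← QuotientGroup.eq]
        exact hs _
      have : (single x r - single y r : MonoidAlgebra F G) =
          single y r * (single (y⁻¹ * x) (1 : F) - 1) := by
        rw [mul_sub, single_mul_single, mul_one, mul_one, mul_inv_cancel_left]
      rw [this]
      exact Submodule.mul_mem_mul Submodule.mem_top (single_sub_one_mem_augSpan F N hu)
  have h := key α
  have hα' : mapDomain (QuotientGroup.mk' N) α = 0 := hα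
  rw [hα', mapDomain_zero, sub_zero] at h
  exact h


/-- normality: `augSpan N * ⊤ ≤ ⊤ * augSpan N` -/
lemma augSpan_mul_top_le (N : Subgroup G) [hN : N.Normal] :
    augSpan F N * (⊤ : Submodule F (MonoidAlgebra F G)) ≤ ⊤ * augSpan F N := by
  rw [Submodule.mul_le]
  suffices key : ∀ b ∈ augSpan F N, ∀ a : MonoidAlgebra F G, b * a ∈
      (⊤ : Submodule F (MonoidAlgebra F G)) * augSpan F N from fun b hb a _ => key b hb a
  intro b hb a
  induction hb using Submodule.span_induction with
  | mem b hb =>
    obtain ⟨u, hu, rfl⟩ := hb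
    induction a using MonoidAlgebra.induction_linear with
    | zero => simp
    | add x y hx hy => rw [mul_add]; exact Submodule.add_mem _ hx hy
    | single x r =>
      have : (single u (1 : F) - 1 : MonoidAlgebra F G) * single x r =
          single x r * (single (x⁻¹ * u * x) (1 : F) - 1) := by
        rw [sub_mul, mul_sub, single_mul_single, single_mul_single, one_mul, mul_one, one_mul,
          mul_one]
        congr 2
        group
      rw [this]
      refine Submodule.mul_mem_mul Submodule.mem_top (single_sub_one_mem_augSpan F N ?_)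
      have := hN.conj_mem u hu x⁻¹
      simpa using this
  | zero => simp
  | add x y _ _ hx hy => rw [add_mul]; exact Submodule.add_mem _ hx hy
  | smul c x _ hx => rw [smul_mul_assoc]; exact Submodule.smul_mem _ c hx

lemma augSpan_pow_mul_top_le (N : Subgroup G) [hN : N.Normal] (k : ℕ) :
    augSpan F N ^ k * (⊤ : Submodule F (MonoidAlgebra F G)) ≤ ⊤ * augSpan F N ^ k := by
  induction k with
  | zero =>
    rw [pow_zero, one_mul, mul_one]
  | succ k ih =>
    calc augSpan F N ^ (k + 1) * ⊤ = augSpan F N ^ k * (augSpan F N * ⊤) := by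
          rw [pow_succ, mul_assoc]
      _ ≤ augSpan F N ^ k * (⊤ * augSpan F N) :=
          mul_le_mul' le_rfl (augSpan_mul_top_le F N)
      _ = (augSpan F N ^ k * ⊤) * augSpan F N := by rw [mul_assoc]
      _ ≤ (⊤ * augSpan F N ^ k) * augSpan F N := mul_le_mul' ih le_rfl
      _ = ⊤ * augSpan F N ^ (k + 1) := by rw [mul_assoc, ← pow_succ]

lemma top_mul_augSpan_pow_le (N : Subgroup G) [hN : N.Normal] (k : ℕ) :
    ((⊤ : Submodule F (MonoidAlgebra F G)) * augSpan F N) ^ k ≤ ⊤ * augSpan F N ^ k := by
  induction k with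
  | zero =>
    rw [pow_zero, pow_zero, mul_one]
    exact le_top
  | succ k ih =>
    calc ((⊤ : Submodule F (MonoidAlgebra F G)) * augSpan F N) ^ (k + 1)
        = (⊤ * augSpan F N) ^ k * (⊤ * augSpan F N) := pow_succ _ _
      _ ≤ (⊤ * augSpan F N ^ k) * (⊤ * augSpan F N) := mul_le_mul' ih le_rfl
      _ = ⊤ * ((augSpan F N ^ k * ⊤) * augSpan F N) := by simp only [mul_assoc]
      _ ≤ ⊤ * ((⊤ * augSpan F N ^ k) * augSpan F N) :=
          mul_le_mul' le_rfl (mul_le_mul' (augSpan_pow_mul_top_le F N k) le_rfl)
      _ = (⊤ * ⊤) * augSpan F N ^ (k + 1) := by simp only [mul_assoc, pow_succ]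
      _ ≤ ⊤ * augSpan F N ^ (k + 1) := mul_le_mul' le_top le_rfl

/-- If `augSpan N ^ m = ⊥` then every element of `⊤ * augSpan N` has vanishing `m`-th power. -/
lemma pow_eq_zero_of_mem (N : Subgroup G) [hN : N.Normal] (m : ℕ)
    (hm : augSpan F N ^ m = ⊥) (α : MonoidAlgebra F G)
    (hα : α ∈ (⊤ : Submodule F (MonoidAlgebra F G)) * augSpan F N) : α ^ m = 0 := by
  have h1 := Submodule.pow_mem_pow _ hα m
  have h2 := top_mul_augSpan_pow_le F N m h1
  rw [hm, Submodule.mul_bot] at h2
  exact (Submodule.mem_bot F).mp h2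


/-- right multiples of a fixed element -/
noncomputable def rightMul (c : MonoidAlgebra F G) : Submodule F (MonoidAlgebra F G) :=
  LinearMap.range (LinearMap.mulRight F c)

lemma mem_rightMul (c x : MonoidAlgebra F G) : x ∈ rightMul F c ↔ ∃ a, a * c = x := by
  simp [rightMul, LinearMap.mem_range]

lemma rightMul_pow_le (c : MonoidAlgebra F G) (hc : ∀ b : MonoidAlgebra F G, Commute c b) (k : ℕ) :
    rightMul F c ^ k ≤ rightMul F (c ^ k) := by
  induction k with
  | zero =>
    rw [pow_zero, pow_zero, Submodule.one_le, mem_rightMul]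
    exact ⟨1, one_mul 1⟩
  | succ k ih =>
    rw [pow_succ]
    refine (mul_le_mul' ih le_rfl).trans ?_
    rw [Submodule.mul_le]
    intro x hx y hy
    rw [mem_rightMul] at hx hy ⊢
    obtain ⟨a, rfl⟩ := hx
    obtain ⟨b, rfl⟩ := hy
    refine ⟨a * b, ?_⟩
    have h : Commute (c ^ k) b := (hc b).pow_left k
    calc a * b * c ^ (k + 1) = a * (b * c ^ k) * c := by rw [pow_succ]; simp only [mul_assoc]
      _ = a * (c ^ k * b) * c := by rw [h.eq]
      _ = a * c ^ k * (b * c) := by simp only [mul_assoc]

lemma top_mul_augSpan_zpowers_le (z : G) (hz : IsOfFinOrder z) :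
    (⊤ : Submodule F (MonoidAlgebra F G)) * augSpan F (Subgroup.zpowers z) ≤
      rightMul F (single z (1 : F) - 1) := by
  rw [Submodule.mul_le]
  intro a _ b hb
  induction hb using Submodule.span_induction with
  | mem b hb =>
    obtain ⟨u, hu, rfl⟩ := hb
    have hu' : u ∈ Submonoid.powers z := hz.mem_powers_iff_mem_zpowers.mpr hu
    obtain ⟨n, rfl⟩ := hu'
    rw [mem_rightMul]
    refine ⟨a * ∑ i ∈ Finset.range n, (single z (1 : F)) ^ i, ?_⟩
    rw [mul_assoc, geom_sum_mul, single_pow, one_pow]
  | zero => simp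
  | add x y _ _ hx hy => rw [mul_add]; exact Submodule.add_mem _ hx hy
  | smul c x _ hx => rw [mul_smul_comm]; exact Submodule.smul_mem _ c hx

/-- the augmentation ideal of a finite `p`-group in characteristic `p` is nilpotent -/
theorem augSpan_top_pow_eq_bot (p : ℕ) [Fact p.Prime] [CharP F p] :
    ∀ (n : ℕ) (N : Type*) [Group N] [Finite N], Nat.card N = p ^ n →
      augSpan F (⊤ : Subgroup N) ^ (p ^ n) = ⊥ := by
  intro n
  induction n with
  | zero =>
    intro N _ _ hcard
    rw [pow_zero] at hcard ⊢
    rw [pow_one, eq_bot_iff]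
    apply Submodule.span_le.mpr
    rintro _ ⟨u, -, rfl⟩
    have : Subsingleton N := (Nat.card_eq_one_iff_unique.mp hcard).1
    have hu : u = 1 := Subsingleton.elim _ _
    simp [hu, one_def]
  | succ n ih =>
    intro N _ _ hcard
    have hp : p.Prime := Fact.out
    have hN : IsPGroup p N := IsPGroup.of_card hcard
    have : Nontrivial N := by
      rw [← Finite.one_lt_card_iff_nontrivial, hcard]
      exact Nat.one_lt_pow (Nat.succ_ne_zero n) hp.one_lt
    -- central element of order p
    have hcent : Nontrivial (Subgroup.center N) := hN.center_nontrivial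
    have hpdvd : p ∣ Nat.card (Subgroup.center N) := by
      obtain ⟨k, hk0, hk⟩ := (hN.to_subgroup (Subgroup.center N)).nontrivial_iff_card.mp hcent
      rw [hk]
      exact dvd_pow_self p (Nat.pos_iff_ne_zero.mp hk0)
    obtain ⟨z', hz'⟩ := exists_prime_orderOf_dvd_card' p hpdvd
    set z : N := (z' : N) with hz
    have hzord : orderOf z = p := by rw [hz, Subgroup.orderOf_coe]; exact hz'
    have hzc : ∀ m' : N, Commute z m' := fun m' =>
      (Subgroup.mem_center_iff.mp z'.2 m').symm
    let Z : Subgroup N := Subgroup.zpowers z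
    have hZn : Z.Normal := by
      constructor
      intro u hu g
      have : u ∈ Subgroup.center N := by
        have hle : Z ≤ Subgroup.center N := by
          rw [Subgroup.zpowers_le]; exact z'.2
        exact hle hu
      have hcomm : g * u = u * g := Subgroup.mem_center_iff.mp this g
      rw [hcomm, mul_inv_cancel_right]
      exact hu
    have hZcard : Nat.card Z = p := by rw [Nat.card_zpowers, hzord]
    have hQcard : Nat.card (N ⧸ Z) = p ^ n := by
      have h1 := Subgroup.card_eq_card_quotient_mul_card_subgroup Z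
      rw [hcard, hZcard, pow_succ] at h1
      exact (Nat.eq_of_mul_eq_mul_right hp.pos h1).symm
    have ihQ := ih (N ⧸ Z) hQcard
    -- the projection
    let π := mapDomainAlgHom F F (QuotientGroup.mk' Z)
    have hmap : Submodule.map π.toLinearMap (augSpan F (⊤ : Subgroup N)) ≤
        augSpan F (⊤ : Subgroup (N ⧸ Z)) := by
      rw [augSpan, Submodule.map_span]
      apply Submodule.span_mono
      rintro _ ⟨_, ⟨u, -, rfl⟩, rfl⟩
      refine ⟨QuotientGroup.mk' Z u, Subgroup.mem_top _, ?_⟩
      show _ = π (single u (1 : F) - 1)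
      rw [map_sub, map_one]
      simp [π]
    have hker : augSpan F (⊤ : Subgroup N) ^ (p ^ n) ≤ rightMul F (single z (1 : F) - 1) := by
      intro x hx
      have h1 : π.toLinearMap x ∈ Submodule.map π.toLinearMap (augSpan F (⊤ : Subgroup N) ^ (p ^ n)) :=
        Submodule.mem_map_of_mem hx
      rw [Submodule.map_pow] at h1
      have h2 := pow_le_pow_left' hmap (p ^ n) h1
      rw [ihQ, Submodule.mem_bot] at h2
      have h3 := ker_le_top_mul_augSpan F Z x h2
      exact top_mul_augSpan_zpowers_le F z (isOfFinOrder_of_finite z) h3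
    have hcentral : ∀ b : MonoidAlgebra F N, Commute (single z (1 : F) - 1) b := by
      intro b
      exact (single_commute hzc (fun r' => Commute.one_left r') b).sub_left (Commute.one_left b)
    have hCharP : CharP (MonoidAlgebra F N) p := charP_of_injective_algebraMap' F p
    have hzero : (single z (1 : F) - 1 : MonoidAlgebra F N) ^ p = 0 := by
      rw [sub_pow_char_of_commute _ (Commute.one_right _), single_pow, one_pow, one_pow, ← hzord,
        pow_orderOf_eq_one, one_def, sub_self]
    rw [eq_bot_iff]
    calc augSpan F (⊤ : Subgroup N) ^ (p ^ (n + 1))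
        = (augSpan F (⊤ : Subgroup N) ^ (p ^ n)) ^ p := by rw [pow_succ, pow_mul]
      _ ≤ (rightMul F (single z (1 : F) - 1 : MonoidAlgebra F N)) ^ p := pow_le_pow_left' hker p
      _ ≤ rightMul F ((single z (1 : F) - 1 : MonoidAlgebra F N) ^ p) := rightMul_pow_le F _ hcentral p
      _ = ⊥ := by
          rw [hzero, eq_bot_iff]
          intro x hx
          rw [mem_rightMul] at hx
          obtain ⟨a, rfl⟩ := hx
          simp


/-- transfer to a subgroup of a bigger group -/
theorem augSpan_pow_eq_bot (p : ℕ) [Fact p.Prime] [CharP F p] [Finite G] (N : Subgroup G) (n : ℕ)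
    (hcard : Nat.card N = p ^ n) : augSpan F N ^ (p ^ n) = ⊥ := by
  let ι := mapDomainAlgHom F F N.subtype
  have h1 : augSpan F N = Submodule.map ι.toLinearMap (augSpan F (⊤ : Subgroup N)) := by
    rw [augSpan, augSpan, Submodule.map_span]
    congr 1
    ext x
    constructor
    · rintro ⟨u, hu, rfl⟩
      refine ⟨single (⟨u, hu⟩ : N) (1 : F) - 1, ⟨⟨u, hu⟩, Subgroup.mem_top _, rfl⟩, ?_⟩
      show ι (single (⟨u, hu⟩ : N) (1 : F) - 1) = _
      rw [map_sub, map_one]
      simp [ι]
    · rintro ⟨_, ⟨u, -, rfl⟩, rfl⟩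
      refine ⟨(u : G), u.2, ?_⟩
      show _ = ι (single u (1 : F) - 1)
      rw [map_sub, map_one]
      simp [ι]
  rw [h1, ← Submodule.map_pow, augSpan_top_pow_eq_bot F p n N hcard, Submodule.map_bot]

end Cfsg.Agent.Helper15
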