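import Mathlib

set_option autoImplicit false
set_option linter.unusedSectionVars false
set_option linter.style.haveILetI false

namespace Cfsg.Agent.Helper15.BL

universe u

section grp

variable {G : Type u} [Group G] {p : ℕ} [hp : Fact p.Prime] (P : Sylow p G)

/-- The uniform-centralizer hypothesis of Brauer--Leonard. -/
def UC (P : Sylow p G) : Prop :=
  ∀ x ∈ (P : Subgroup G), x ≠ 1 →
    Subgroup.centralizer ({x} : Set G) = Subgroup.centralizer ((P : Subgroup G) : Set G)

/-- the centralizer of `P` -/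
abbrev Cc (P : Sylow p G) : Subgroup G := Subgroup.centralizer ((P : Subgroup G) : Set G)

/-- the normalizer of `P` -/
abbrev Nn (P : Sylow p G) : Subgroup G := Subgroup.normalizer ((P : Subgroup G) : Set G)

variable {P}

theorem le_Cc (h : UC P) : (P : Subgroup G) ≤ Cc P := by
  intro x hx
  by_cases hx1 : x = 1
  · subst hx1; exact Subgroup.one_mem _
  · have : x ∈ Subgroup.centralizer ({x} : Set G) := by
      rw [Subgroup.mem_centralizer_iff]
      intro y hy; rw [Set.mem_singleton_iff] at hy; subst hy; rfl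
    rwa [h x hx hx1] at this

theorem comm_of_mem (h : UC P) {x y : G} (hx : x ∈ (P : Subgroup G)) (hy : y ∈ (P : Subgroup G)) :
    x * y = y * x := by
  have := le_Cc h hy
  rw [Subgroup.mem_centralizer_iff] at this
  exact this x hx

theorem mem_Cc_of_comm (h : UC P) {u g : G} (hu : u ∈ (P : Subgroup G)) (hu1 : u ≠ 1)
    (hg : g * u = u * g) : g ∈ Cc P := by
  show g ∈ Subgroup.centralizer ((P : Subgroup G) : Set G)
  rw [← h u hu hu1, Subgroup.mem_centralizer_iff]
  intro y hy; rw [Set.mem_singleton_iff] at hy; subst hy; exact hg.symm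

theorem Cc_le_Nn : Cc P ≤ Nn P := by
  intro c hc
  rw [Subgroup.mem_normalizer_iff]
  intro x
  rw [Subgroup.mem_centralizer_iff] at hc
  constructor
  · intro hx
    have : c * x * c⁻¹ = x := by rw [← hc x hx, mul_inv_cancel_right]
    rwa [this]
  · intro hx
    have h1 := hc _ hx
    have : x = c * x * c⁻¹ := by
      have h2 : c * x * c⁻¹ * c = c * (c * x * c⁻¹) := h1
      have h3 : c * x = c * (c * x * c⁻¹) := by simpa using h2
      exact mul_left_cancel h3
    rw [this]; exact hx

theorem conj_mem_Cc {g c : G} (hg : g ∈ Nn P) (hc : c ∈ Cc P) : g * c * g⁻¹ ∈ Cc P := by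
  rw [Subgroup.mem_centralizer_iff] at hc ⊢
  intro x hx
  have hx' : g⁻¹ * x * g ∈ (P : Subgroup G) := by
    have := (Subgroup.mem_normalizer_iff.mp (inv_mem hg) x).mp hx
    simpa using this
  have := hc _ hx'
  calc x * (g * c * g⁻¹) = g * ((g⁻¹ * x * g) * c) * g⁻¹ := by group
    _ = g * (c * (g⁻¹ * x * g)) * g⁻¹ := by rw [this]
    _ = g * c * g⁻¹ * x := by group

end grp

section fin

variable {G : Type u} [Group G] [Finite G] {p : ℕ} [hp : Fact p.Prime] {P : Sylow p G}

/-- Trivial intersection: a nontrivial element of `P` conjugated into `P` forces the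
conjugating element into the normalizer. -/
theorem mem_Nn_of_conj_mem (h : UC P) {u g : G} (hu : u ∈ (P : Subgroup G)) (hu1 : u ≠ 1)
    (hgu : g * u * g⁻¹ ∈ (P : Subgroup G)) : g ∈ Nn P := by
  have hgu1 : g * u * g⁻¹ ≠ 1 := by
    intro h1
    apply hu1
    have : u = g⁻¹ * (g * u * g⁻¹) * g := by group
    rw [this, h1]; group
  -- conjugate of P lies in C
  have hQC : ((g • P : Sylow p G) : Subgroup G) ≤ Cc P := by
    intro y hy
    rw [Sylow.coe_subgroup_smul] at hy
    obtain ⟨v, hv, rfl⟩ := hy
    apply mem_Cc_of_comm h hgu hgu1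
    simp only [MulDistribMulAction.toMonoidEnd_apply, MulDistribMulAction.toMonoidHom_apply,
      MulAut.smul_def, MulAut.conj_apply]
    have := comm_of_mem h hv hu
    calc g * v * g⁻¹ * (g * u * g⁻¹) = g * (v * u) * g⁻¹ := by group
      _ = g * (u * v) * g⁻¹ := by rw [this]
      _ = g * u * g⁻¹ * (g * v * g⁻¹) := by group
  have hsup : IsPGroup p (((P : Subgroup G)) ⊔ ((g • P : Sylow p G) : Subgroup G) : Subgroup G) :=
    IsPGroup.to_sup_of_normal_left' P.isPGroup' (g • P : Sylow p G).isPGroup'
      (hQC.trans Cc_le_Nn)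
  have h1 := P.is_maximal' hsup le_sup_left
  have h2 : ((g • P : Sylow p G) : Subgroup G) ≤ P := by
    rw [← h1]; exact le_sup_right
  have h3 := (g • P : Sylow p G).is_maximal' P.isPGroup' h2
  have h4 : g • P = P := Sylow.ext h3.symm
  exact Sylow.smul_eq_iff_mem_normalizer.mp h4

/-- index of `P` in its centralizer -/
noncomputable abbrev mm (P : Sylow p G) : ℕ := (P : Subgroup G).relIndex (Cc P)

theorem pow_mm_mem (_h : UC P) {c : G} (hc : c ∈ Cc P) : c ^ mm P ∈ (P : Subgroup G) := by
  have : ((P : Subgroup G).subgroupOf (Cc P)).Normal := by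
    constructor
    intro n hn g
    rw [Subgroup.mem_subgroupOf] at hn ⊢
    have hg := g.2
    rw [Subgroup.mem_centralizer_iff] at hg
    have := hg _ hn
    have h2 : ((g * n * g⁻¹ : Cc P) : G) = (n : G) := by
      push_cast
      rw [← this, mul_inv_cancel_right]
    rw [h2]; exact hn
  have := Subgroup.pow_index_mem ((P : Subgroup G).subgroupOf (Cc P)) ⟨c, hc⟩
  rw [Subgroup.mem_subgroupOf] at this
  simpa [mm, Subgroup.relIndex] using this

theorem coprime_mm (h : UC P) : (Nat.card (P : Subgroup G)).Coprime (mm P) := by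
  obtain ⟨n, hn⟩ := IsPGroup.iff_card.mp P.isPGroup'
  rw [hn]
  apply Nat.Coprime.pow_left
  rw [Nat.Prime.coprime_iff_not_dvd hp.out]
  intro hdvd
  have h1 : mm P ∣ (P : Subgroup G).index := ⟨_, (Subgroup.relIndex_mul_index (le_Cc h)).symm⟩
  exact P.not_dvd_index (hdvd.trans h1)

theorem pow_mm_inj (h : UC P) {u v : G} (hu : u ∈ (P : Subgroup G)) (hv : v ∈ (P : Subgroup G))
    (huv : u ^ mm P = v ^ mm P) : u = v := by
  have hinj := (powCoprime (G := (P : Subgroup G)) (coprime_mm h)).injective
  have : (⟨u, hu⟩ : (P : Subgroup G)) = ⟨v, hv⟩ := by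
    apply hinj
    apply Subtype.ext
    simpa using huv
  exact congrArg Subtype.val this

theorem exists_pow_mm_eq (h : UC P) {w : G} (hw : w ∈ (P : Subgroup G)) :
    ∃ u ∈ (P : Subgroup G), u ^ mm P = w := by
  obtain ⟨u, hu⟩ := (powCoprime (G := (P : Subgroup G)) (coprime_mm h)).surjective ⟨w, hw⟩
  refine ⟨u, u.2, ?_⟩
  have := congrArg Subtype.val hu
  simpa using this

theorem eq_one_of_pow_mm (h : UC P) {u : G} (hu : u ∈ (P : Subgroup G)) (h1 : u ^ mm P = 1) :
    u = 1 := by
  apply pow_mm_inj h hu (Subgroup.one_mem _)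
  rw [h1, one_pow]

/-- The trivial-intersection set: elements of the centralizer with nontrivial `p`-part. -/
def AA (P : Sylow p G) : Set G := {c | c ∈ Cc P ∧ c ^ mm P ≠ 1}

theorem mem_Nn_of_conj_mem_Cc (h : UC P) {a g : G} (ha : a ∈ AA P)
    (hg : g * a * g⁻¹ ∈ Cc P) : g ∈ Nn P := by
  obtain ⟨haC, ha1⟩ := ha
  apply mem_Nn_of_conj_mem h (pow_mm_mem h haC) ha1
  rw [← conj_pow]
  exact pow_mm_mem h hg

theorem one_not_mem_AA : (1 : G) ∉ AA P := by
  rintro ⟨-, h⟩
  exact h (one_pow _)

/-- For `g` in the normalizer but not the centralizer, the commutator map is onto `P`. -/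
theorem exists_comm_eq (h : UC P) {g : G} (hg : g ∈ Nn P) (hgC : g ∉ Cc P) {v : G}
    (hv : v ∈ (P : Subgroup G)) : ∃ u ∈ (P : Subgroup G), g * u * g⁻¹ * u⁻¹ = v := by
  have hmem : ∀ u : (P : Subgroup G), g * u * g⁻¹ * (u : G)⁻¹ ∈ (P : Subgroup G) := by
    intro u
    exact mul_mem ((Subgroup.mem_normalizer_iff.mp hg u).mp u.2) (inv_mem u.2)
  let f : ↥(P : Subgroup G) → ↥(P : Subgroup G) := fun u => ⟨g * u * g⁻¹ * (u : G)⁻¹, hmem u⟩
  have hinj : Function.Injective f := by
    intro u u' huu
    have h1 : g * u * g⁻¹ * (u : G)⁻¹ = g * u' * g⁻¹ * (u' : G)⁻¹ := congrArg Subtype.val huu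
    set w : G := (u' : G)⁻¹ * u with hw
    have hwP : w ∈ (P : Subgroup G) := mul_mem (inv_mem u'.2) u.2
    have h2 : g * w * g⁻¹ = w := by
      have : g * w * g⁻¹ = (g * u' * g⁻¹)⁻¹ * (g * u * g⁻¹) := by rw [hw]; group
      rw [this]
      have h3 : g * u * g⁻¹ = g * u' * g⁻¹ * (u' : G)⁻¹ * u := by
        rw [← h1]; group
      rw [h3]; rw [hw]; group
    by_cases hw1 : w = 1
    · apply Subtype.ext
      have : (u : G) = u' * w := by rw [hw]; group
      rw [this, hw1, mul_one]
    · exfalso
      apply hgC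
      apply mem_Cc_of_comm h hwP hw1
      calc g * w = g * w * g⁻¹ * g := by group
        _ = w * g := by rw [h2]
  have hsurj := Finite.injective_iff_surjective.mp hinj
  obtain ⟨u, hu⟩ := hsurj ⟨v, hv⟩
  exact ⟨u, u.2, congrArg Subtype.val hu⟩

/-- conjugation action of the normalizer on `P` -/
@[reducible] def conjAct (P : Sylow p G) : MulAction (Nn P) (P : Subgroup G) where
  smul g u := ⟨g * u * (g : G)⁻¹, (Subgroup.mem_normalizer_iff.mp g.2 u).mp u.2⟩
  one_smul u := by
    apply Subtype.ext
    show ((1 : Nn P) : G) * u * ((1 : Nn P) : G)⁻¹ = u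
    simp
  mul_smul g g' u := by
    apply Subtype.ext
    show ((g * g' : Nn P) : G) * u * ((g * g' : Nn P) : G)⁻¹
      = (g : G) * ((g' : G) * u * (g' : G)⁻¹) * (g : G)⁻¹
    push_cast
    group

theorem conjAct_smul_coe (g : Nn P) (u : (P : Subgroup G)) :
    ((conjAct P).smul g u : G) = g * u * (g : G)⁻¹ := rfl

open scoped Classical in
/-- The index of the centralizer in the normalizer divides `|P| - 1` (in product form). -/
theorem card_Nn_dvd (h : UC P) :
    Nat.card (Nn P) ∣ Nat.card (Cc P) * (Nat.card (P : Subgroup G) - 1) := by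
  letI := conjAct P
  haveI : Fintype (Nn P) := Fintype.ofFinite _
  haveI : Fintype (P : Subgroup G) := Fintype.ofFinite _
  haveI : Fintype (MulAction.orbitRel.Quotient (Nn P) (P : Subgroup G)) := Fintype.ofFinite _
  have hB := MulAction.sum_card_fixedBy_eq_card_orbits_mul_card_group (Nn P) (P : Subgroup G)
  have hfix : ∀ g : Nn P, Fintype.card (MulAction.fixedBy (P : Subgroup G) g)
      = if (g : G) ∈ Cc P then Nat.card (P : Subgroup G) else 1 := by
    intro g
    split_ifs with hg
    · rw [Nat.card_eq_fintype_card]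
      have : MulAction.fixedBy (P : Subgroup G) g = Set.univ := by
        ext u
        simp only [MulAction.mem_fixedBy, Set.mem_univ, iff_true]
        apply Subtype.ext
        show (g : G) * u * (g : G)⁻¹ = u
        rw [Subgroup.mem_centralizer_iff] at hg
        rw [← hg u u.2, mul_inv_cancel_right]
      rw [Fintype.card_congr (Equiv.setCongr this), Fintype.card_congr (Equiv.Set.univ _)]
    · have : MulAction.fixedBy (P : Subgroup G) g = {1} := by
        ext u
        simp only [MulAction.mem_fixedBy, Set.mem_singleton_iff]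
        constructor
        · intro hu
          by_contra hu1
          apply hg
          have h1 : (g : G) * u * (g : G)⁻¹ = u := congrArg Subtype.val hu
          apply mem_Cc_of_comm h u.2 (fun h0 => hu1 (Subtype.ext h0))
          calc (g : G) * u = (g : G) * u * (g : G)⁻¹ * g := by group
            _ = u * g := by rw [h1]
        · intro hu
          subst hu
          apply Subtype.ext
          show (g : G) * ((1 : (P : Subgroup G)) : G) * (g : G)⁻¹ = ((1 : (P : Subgroup G)) : G)
          simp
      rw [Fintype.card_congr (Equiv.setCongr this)]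
      simp
  simp only [hfix] at hB
  rw [Finset.sum_ite, Finset.sum_const, Finset.sum_const, smul_eq_mul, smul_eq_mul, mul_one] at hB
  set k := Fintype.card (MulAction.orbitRel.Quotient (Nn P) (P : Subgroup G)) with hk
  have hcC : (Finset.univ.filter (fun g : Nn P => (g : G) ∈ Cc P)).card = Nat.card (Cc P) := by
    rw [← Fintype.card_subtype, ← Nat.card_eq_fintype_card]
    apply Nat.card_congr
    exact {
      toFun := fun g => ⟨g.1.1, g.2⟩
      invFun := fun c => ⟨⟨c.1, Cc_le_Nn c.2⟩, c.2⟩
      left_inv := fun g => rfl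
      right_inv := fun c => rfl }
  have hcN : (Finset.univ.filter (fun g : Nn P => (g : G) ∈ Cc P)).card
      + (Finset.univ.filter (fun g : Nn P => ¬ (g : G) ∈ Cc P)).card = Nat.card (Nn P) := by
    rw [Finset.card_filter_add_card_filter_not, Finset.card_univ, Nat.card_eq_fintype_card]
  rw [hcC] at hB hcN
  rw [← Nat.card_eq_fintype_card (α := Nn P)] at hB
  have hq : 1 ≤ Nat.card (P : Subgroup G) := Nat.card_pos
  -- |C| q + (|N| - |C|) = k |N|
  set c := Nat.card (Cc P)
  set n := Nat.card (Nn P)
  set q := Nat.card (P : Subgroup G)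
  set r := (Finset.univ.filter (fun g : Nn P => ¬ (g : G) ∈ Cc P)).card
  have h1 : c * q + r = k * n := hB
  have h2 : c + r = n := hcN
  have hk1 : 1 ≤ k := by
    rcases Nat.eq_zero_or_pos k with h0 | h0
    · rw [h0, zero_mul] at h1
      have : c * q = 0 := by omega
      have hc : 0 < c := Nat.card_pos
      have : 0 < c * q := Nat.mul_pos hc hq
      omega
    · exact h0
  refine ⟨k - 1, ?_⟩
  have h3 : c * (q - 1) + n = k * n := by
    have : c * (q - 1) + c = c * q := by
      rw [← Nat.mul_succ]; congr 1; omega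
    omega
  have h4 : k * n = n * (k - 1) + n := by
    have : k = (k - 1) + 1 := by omega
    conv_lhs => rw [this]
    ring
  omega

end fin

end Cfsg.Agent.Helper15.BL
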