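import Mathlib
import Cfsg.Prelude.Def_Characters
import Cfsg.Agent.Lib.Helper79.Inflation

set_option autoImplicit false

namespace Cfsg.Agent.Helper15

open Cfsg Cfsg.Agent.Helper79
open scoped ComplexConjugate

universe v

/-- A central element acts as a scalar in an irreducible representation: character form. -/
theorem irr_central_scalar {G : Type v} [Group G] [Finite G] (χ : IrrCharacter G) (z : G)
    (hz : z ∈ Subgroup.center G) :
    ∃ c : ℂ, (∀ g : G, (χ : G → ℂ) (g * z) = c * (χ : G → ℂ) g) ∧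
      (∀ k : ℕ, z ^ k = 1 → c ^ k = 1) := by
  obtain ⟨n, ρ, hρ, hχ⟩ := χ.2
  have := hρ
  have hT : ∀ g : G, ρ z ∘ₗ ρ g = ρ g ∘ₗ ρ z := by
    intro g
    have h1 : ρ z * ρ g = ρ g * ρ z := by
      rw [← map_mul, ← map_mul, (Subgroup.mem_center_iff.mp hz g)]
    exact h1
  obtain ⟨c, hc, -⟩ := schur_scalar ρ (ρ z) hT
  have h1 : ∀ g : G, (χ : G → ℂ) (g * z) = c * (χ : G → ℂ) g := by
    intro g
    rw [← hχ]
    simp only [Representation.character, map_mul]
    rw [hc, mul_smul_comm, mul_one, map_smul, smul_eq_mul]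
  refine ⟨c, h1, ?_⟩
  have h2 : ∀ (k : ℕ) (g : G), (χ : G → ℂ) (g * z ^ k) = c ^ k * (χ : G → ℂ) g := by
    intro k
    induction k with
    | zero => intro g; simp
    | succ k ih =>
      intro g
      rw [pow_succ, ← mul_assoc, h1, ih, pow_succ]
      ring
  intro k hk
  have h3 := h2 k 1
  rw [hk, mul_one] at h3
  have hne := irr_one_ne_zero χ
  have : (c ^ k - 1) * (χ : G → ℂ) 1 = 0 := by rw [sub_mul, ← h3, one_mul, sub_self]
  rcases mul_eq_zero.mp this with h | h
  · exact sub_eq_zero.mp h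
  · exact absurd h hne

end Cfsg.Agent.Helper15
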