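import Mathlib
import Cfsg.Prelude.Def_Characters
import Cfsg.Agent.Lib.Helper81.CharInd
import Cfsg.Agent.Lib.Helper15.Central
import Cfsg.Agent.Lib.Helper15.BLGroup

set_option autoImplicit false
set_option linter.unusedSectionVars false
set_option linter.style.haveILetI false

namespace Cfsg.Agent.Helper15.BL

open Cfsg Cfsg.Agent.Helper81
open scoped ComplexConjugate

universe u

section dc

variable {G : Type u} [Group G] [Fintype G]

open scoped Classical in
/-- Double counting for a trivial-intersection set. -/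
theorem ti_double_count (A : Set G) (N : Subgroup G)
    (hTI : ∀ a ∈ A, ∀ g : G, g * a * g⁻¹ ∈ A → g ∈ N) (h1 : (1 : G) ∉ A)
    (f : G → ℝ) (hf0 : ∀ g, 0 ≤ f g) (hfc : ∀ g x : G, f (x * g * x⁻¹) = f g) :
    (Nat.card G : ℝ) * ∑ g : G, (if g ∈ A then f g else 0)
      ≤ (Nat.card N : ℝ) * (∑ g : G, f g - f 1) := by
  have hx : ∀ x : G, ∑ g : G, (if x⁻¹ * g * x ∈ A then f g else 0)
      = ∑ g : G, (if g ∈ A then f g else 0) := by
    intro x
    rw [← Equiv.sum_comp (MulAut.conj x).toEquiv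
      (fun g => if x⁻¹ * g * x ∈ A then f g else 0)]
    apply Finset.sum_congr rfl
    intro g _
    simp only [MulEquiv.toEquiv_eq_coe, MulEquiv.coe_toEquiv, MulAut.conj_apply]
    have : x⁻¹ * (x * g * x⁻¹) * x = g := by group
    simp only [this, hfc]
  have h3 : (Nat.card G : ℝ) * ∑ g : G, (if g ∈ A then f g else 0)
      = ∑ g : G, ∑ x : G, (if x⁻¹ * g * x ∈ A then f g else 0) := by
    rw [Finset.sum_comm]
    simp_rw [hx]
    rw [Finset.sum_const, Finset.card_univ, nsmul_eq_mul, Nat.card_eq_fintype_card]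
  rw [h3]
  have h4 : ∀ g : G, ∑ x : G, (if x⁻¹ * g * x ∈ A then f g else 0)
      = (Nat.card {x : G // x⁻¹ * g * x ∈ A} : ℝ) * f g := by
    intro g
    rw [← Finset.sum_filter, Finset.sum_const, nsmul_eq_mul, Nat.card_eq_fintype_card,
      Fintype.card_subtype]
  have h5 : ∀ g : G, (Nat.card {x : G // x⁻¹ * g * x ∈ A} : ℝ) * f g
      ≤ (if g = 1 then 0 else (Nat.card N : ℝ) * f g) := by
    intro g
    split_ifs with hg
    · subst hg
      have : IsEmpty {x : G // x⁻¹ * 1 * x ∈ A} := by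
        constructor
        rintro ⟨x, hx⟩
        apply h1
        simpa using hx
      rw [Nat.card_of_isEmpty]; simp
    · apply mul_le_mul_of_nonneg_right _ (hf0 g)
      by_cases hemp : IsEmpty {x : G // x⁻¹ * g * x ∈ A}
      · rw [Nat.card_of_isEmpty]; simp
      · rw [not_isEmpty_iff] at hemp
        obtain ⟨⟨x₀, hx₀⟩⟩ := hemp
        have hmem : ∀ x : {x : G // x⁻¹ * g * x ∈ A}, (x : G)⁻¹ * x₀ ∈ N := by
          rintro ⟨x, hx⟩
          apply hTI _ hx₀
          have : x⁻¹ * x₀ * (x₀⁻¹ * g * x₀) * (x⁻¹ * x₀)⁻¹ = x⁻¹ * g * x := by group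
          rw [this]; exact hx
        have : Nat.card {x : G // x⁻¹ * g * x ∈ A} ≤ Nat.card N := by
          apply Nat.card_le_card_of_injective
            (fun x : {x : G // x⁻¹ * g * x ∈ A} => (⟨(x : G)⁻¹ * x₀, hmem x⟩ : N))
          intro x x' hxx
          have h1 : (x : G)⁻¹ * x₀ = (x' : G)⁻¹ * x₀ := congrArg Subtype.val hxx
          have h2 : (x : G)⁻¹ = (x' : G)⁻¹ := mul_right_cancel h1
          exact Subtype.ext (inv_injective h2)
        exact_mod_cast this
  calc ∑ g : G, ∑ x : G, (if x⁻¹ * g * x ∈ A then f g else 0)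
      = ∑ g : G, (Nat.card {x : G // x⁻¹ * g * x ∈ A} : ℝ) * f g :=
        Finset.sum_congr rfl (fun g _ => h4 g)
    _ ≤ ∑ g : G, (if g = 1 then 0 else (Nat.card N : ℝ) * f g) :=
        Finset.sum_le_sum (fun g _ => h5 g)
    _ = (Nat.card N : ℝ) * (∑ g : G, f g - f 1) := by
        have : ∀ g : G, (if g = 1 then 0 else (Nat.card N : ℝ) * f g)
            = (Nat.card N : ℝ) * f g - (if g = 1 then (Nat.card N : ℝ) * f g else 0) := by
          intro g; split_ifs <;> simp
        simp_rw [this]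
        rw [Finset.sum_sub_distrib, Finset.sum_ite_eq' Finset.univ (1 : G)]
        simp only [Finset.mem_univ, if_true]
        rw [← Finset.mul_sum]; ring

end dc

section K

variable {G : Type u} [Group G] [Finite G] {p : ℕ} [hp : Fact p.Prime] {P : Sylow p G}

theorem sum_normSq_irr {H : Type u} [Group H] [Fintype H] (θ : IrrCharacter H) :
    ∑ c : H, Complex.normSq ((θ : H → ℂ) c) = Nat.card H := by
  have h1 := irr_orthonormal θ.2 θ.2
  rw [if_pos rfl] at h1
  unfold classInner at h1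
  have hH0 : (Nat.card H : ℂ) ≠ 0 := by exact_mod_cast (Nat.card_pos (α := H)).ne'
  have h2 : ∑ c : H, (θ : H → ℂ) c * conj ((θ : H → ℂ) c) = (Nat.card H : ℂ) := by
    field_simp at h1
    rw [h1]
  have h3 : ∀ c : H, (θ : H → ℂ) c * conj ((θ : H → ℂ) c)
      = ((Complex.normSq ((θ : H → ℂ) c) : ℝ) : ℂ) := fun c => Complex.mul_conj _
  simp only [h3] at h2
  rw [← Complex.ofReal_sum] at h2
  exact_mod_cast h2

theorem normSq_mul_central (h : UC P) (θ : IrrCharacter (Cc P)) (u : G)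
    (hu : u ∈ (P : Subgroup G)) (c : Cc P) :
    Complex.normSq ((θ : Cc P → ℂ) (c * ⟨u, le_Cc h hu⟩)) = Complex.normSq ((θ : Cc P → ℂ) c) := by
  have hz : (⟨u, le_Cc h hu⟩ : Cc P) ∈ Subgroup.center (Cc P) := by
    rw [Subgroup.mem_center_iff]
    intro g
    apply Subtype.ext
    have := g.2
    rw [Subgroup.mem_centralizer_iff] at this
    exact (this u hu).symm
  obtain ⟨z, hz1, hz2⟩ := irr_central_scalar θ _ hz
  rw [hz1, Complex.normSq_mul]
  have hk := hz2 (orderOf (⟨u, le_Cc h hu⟩ : Cc P)) (pow_orderOf_eq_one _)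
  have hn : ‖z‖ = 1 :=
    Complex.norm_eq_one_of_pow_eq_one hk (orderOf_pos _).ne'
  rw [Complex.normSq_eq_norm_sq, hn]; simp

open scoped Classical in
theorem sum_K_normSq (h : UC P) [Fintype (Cc P)] (θ : IrrCharacter (Cc P)) :
    (Nat.card (P : Subgroup G) : ℝ) *
      ∑ c : Cc P, (if (c : G) ^ mm P = 1 then Complex.normSq ((θ : Cc P → ℂ) c) else 0)
      = Nat.card (Cc P) := by
  haveI : Fintype (P : Subgroup G) := Fintype.ofFinite _
  set F : Cc P → ℝ := fun c => Complex.normSq ((θ : Cc P → ℂ) c) with hF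
  set S := ∑ c : Cc P, (if (c : G) ^ mm P = 1 then F c else 0) with hS
  -- each translate gives the same sum
  have h2 : ∀ u : (P : Subgroup G),
      ∑ c : Cc P, (if ((c : G) * u) ^ mm P = 1 then F c else 0) = S := by
    intro u
    rw [hS, ← Equiv.sum_comp (Equiv.mulRight (⟨u, le_Cc h u.2⟩ : Cc P))
      (fun c => if (c : G) ^ mm P = 1 then F c else 0)]
    apply Finset.sum_congr rfl
    intro c _
    simp only [Equiv.coe_mulRight, Subgroup.coe_mul]
    have := normSq_mul_central h θ u u.2 c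
    simp only [hF]
    rw [this]
  have h3 : ∑ u : (P : Subgroup G), ∑ c : Cc P, (if ((c : G) * u) ^ mm P = 1 then F c else 0)
      = (Nat.card (P : Subgroup G) : ℝ) * S := by
    simp_rw [h2]
    rw [Finset.sum_const, Finset.card_univ, nsmul_eq_mul, Nat.card_eq_fintype_card]
  rw [← h3, Finset.sum_comm]
  have h4 : ∀ c : Cc P, ∑ u : (P : Subgroup G), (if ((c : G) * u) ^ mm P = 1 then F c else 0)
      = F c := by
    intro c
    obtain ⟨u₀, hu₀P, hu₀⟩ := exists_pow_mm_eq h (inv_mem (pow_mm_mem h c.2))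
    have hcomm : ∀ u : (P : Subgroup G), ((c : G) * u) ^ mm P = (c : G) ^ mm P * (u : G) ^ mm P := by
      intro u
      apply Commute.mul_pow
      have := c.2
      rw [Subgroup.mem_centralizer_iff] at this
      exact (this u u.2).symm
    have hiff : ∀ u : (P : Subgroup G), ((c : G) * u) ^ mm P = 1 ↔ u = ⟨u₀, hu₀P⟩ := by
      intro u
      rw [hcomm]
      constructor
      · intro h5
        apply Subtype.ext
        apply pow_mm_inj h u.2 hu₀P
        rw [hu₀]
        exact eq_inv_of_mul_eq_one_right h5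
      · intro h5
        rw [h5]
        simp only
        rw [hu₀, mul_inv_cancel]
    simp only [hiff]
    rw [Finset.sum_ite_eq' Finset.univ (⟨u₀, hu₀P⟩ : (P : Subgroup G))]
    simp
  simp_rw [h4]
  rw [hF]
  exact sum_normSq_irr θ

end K

section master

variable {G : Type u} [Group G] [Fintype G] {p : ℕ} [hp : Fact p.Prime] {P : Sylow p G}

theorem sum_subgroup_ite (K : Subgroup G) [Fintype K] [DecidablePred (· ∈ K)]
    (F : G → ℝ) : ∑ g : K, F g = ∑ g : G, (if g ∈ K then F g else 0) := by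
  rw [← Finset.sum_filter]
  symm
  exact Finset.sum_subtype (Finset.univ.filter (· ∈ K)) (by simp) F

/-- weighted Jensen inequality for complex numbers -/
theorem normSq_sum_le {ι : Type*} (s : Finset ι) (w : ι → ℝ) (hw : ∀ i, 0 ≤ w i) (z : ι → ℂ) :
    Complex.normSq (∑ i ∈ s, (w i : ℂ) * z i)
      ≤ (∑ i ∈ s, w i) * ∑ i ∈ s, w i * Complex.normSq (z i) := by
  have h1 : ‖∑ i ∈ s, (w i : ℂ) * z i‖ ≤ ∑ i ∈ s, w i * ‖z i‖ := by
    refine (norm_sum_le _ _).trans (le_of_eq ?_)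
    apply Finset.sum_congr rfl
    intro i _
    rw [norm_mul, Complex.norm_real, Real.norm_of_nonneg (hw i)]
  have h2 : (∑ i ∈ s, w i * ‖z i‖) ^ 2 ≤ (∑ i ∈ s, w i) * ∑ i ∈ s, w i * ‖z i‖ ^ 2 := by
    have := Finset.sum_mul_sq_le_sq_mul_sq s (fun i => Real.sqrt (w i))
      (fun i => Real.sqrt (w i) * ‖z i‖)
    have e1 : ∀ i, Real.sqrt (w i) * (Real.sqrt (w i) * ‖z i‖) = w i * ‖z i‖ := by
      intro i; rw [← mul_assoc, Real.mul_self_sqrt (hw i)]
    have e2 : ∀ i, Real.sqrt (w i) ^ 2 = w i := fun i => Real.sq_sqrt (hw i)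
    have e3 : ∀ i, (Real.sqrt (w i) * ‖z i‖) ^ 2 = w i * ‖z i‖ ^ 2 := by
      intro i; rw [mul_pow, Real.sq_sqrt (hw i)]
    simp only [e1, e2, e3] at this
    exact this
  rw [Complex.normSq_eq_norm_sq]
  have h0 : 0 ≤ ‖∑ i ∈ s, (w i : ℂ) * z i‖ := norm_nonneg _
  calc ‖∑ i ∈ s, (w i : ℂ) * z i‖ ^ 2 ≤ (∑ i ∈ s, w i * ‖z i‖) ^ 2 := by
        apply pow_le_pow_left₀ h0 h1
    _ ≤ (∑ i ∈ s, w i) * ∑ i ∈ s, w i * ‖z i‖ ^ 2 := h2
    _ = (∑ i ∈ s, w i) * ∑ i ∈ s, w i * Complex.normSq (z i) := by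
        simp only [Complex.normSq_eq_norm_sq]

open scoped Classical in
/-- The master inequality for the trivial-intersection set in `C_G(P)`. -/
theorem master (h : UC P) [Fintype (Cc P)] [Fintype (IrrCharacter (Cc P))]
    (Φ : G → ℂ) (hΦ : IsClassFunction G Φ)
    (n : IrrCharacter (Cc P) → ℝ) (hn : ∀ θ, 0 ≤ n θ)
    (hΦC : ∀ c : Cc P, Φ c = ∑ θ, (n θ : ℂ) * (θ : Cc P → ℂ) c)
    (r : ℝ) (hr : classInner Φ Φ = (r : ℂ)) (h1 : Φ 1 ≠ 0) :
    (Nat.card (Cc P) : ℝ) *
        ((Nat.card (P : Subgroup G) : ℝ) * ∑ θ, n θ ^ 2 - (∑ θ, n θ) ^ 2)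
      < (Nat.card (P : Subgroup G) : ℝ) * (Nat.card (Nn P) : ℝ) * r := by
  set f : G → ℝ := fun g => Complex.normSq (Φ g) with hf
  have hG0 : (0 : ℝ) < Nat.card G := by exact_mod_cast Nat.card_pos
  have hN0 : (0 : ℝ) < Nat.card (Nn P) := by exact_mod_cast Nat.card_pos
  have hq0 : (0 : ℝ) < Nat.card (P : Subgroup G) := by exact_mod_cast Nat.card_pos
  -- (a)
  have ha : ∑ g : G, f g = (Nat.card G : ℝ) * r := by
    unfold classInner at hr
    have hG0' : (Nat.card G : ℂ) ≠ 0 := by exact_mod_cast (Nat.card_pos (α := G)).ne'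
    have h2 : ∑ g : G, Φ g * conj (Φ g) = (Nat.card G : ℂ) * (r : ℂ) := by
      rw [← hr]; field_simp
    have h3 : ∀ g : G, Φ g * conj (Φ g) = ((f g : ℝ) : ℂ) := fun g => Complex.mul_conj _
    simp only [h3] at h2
    rw [← Complex.ofReal_sum] at h2
    exact_mod_cast h2
  -- (b)
  have hb := ti_double_count (AA P) (Nn P)
    (fun a ha g hga => mem_Nn_of_conj_mem_Cc h ha hga.1) one_not_mem_AA f
    (fun g => Complex.normSq_nonneg _) (fun g x => by simp only [hf]; rw [hΦ g x])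
  have hf1 : 0 < f 1 := Complex.normSq_pos.mpr h1
  -- (c)
  have hc : ∑ g : G, (if g ∈ AA P then f g else 0)
      = ∑ c : Cc P, (if (c : G) ^ mm P ≠ 1 then f c else 0) := by
    rw [sum_subgroup_ite (Cc P) (fun g => if g ^ mm P ≠ 1 then f g else 0)]
    apply Finset.sum_congr rfl
    intro g _
    by_cases hg : g ∈ Cc P
    · by_cases hg2 : g ^ mm P ≠ 1
      · rw [if_pos (show g ∈ AA P from ⟨hg, hg2⟩), if_pos hg, if_pos hg2]
      · rw [if_neg (show ¬ g ∈ AA P from fun hh => hg2 hh.2), if_pos hg, if_neg hg2]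
    · rw [if_neg (show ¬ g ∈ AA P from fun hh => hg hh.1), if_neg hg]
  have hc2 : ∑ c : Cc P, (if (c : G) ^ mm P ≠ 1 then f c else 0)
      = ∑ c : Cc P, f c - ∑ c : Cc P, (if (c : G) ^ mm P = 1 then f c else 0) := by
    rw [← Finset.sum_sub_distrib]
    apply Finset.sum_congr rfl
    intro c _
    by_cases hc : (c : G) ^ mm P = 1
    · simp [hc]
    · simp [hc]
  -- (d)
  have hfun : (fun c : Cc P => Φ c) = ∑ θ, (n θ : ℂ) • (θ : Cc P → ℂ) := by
    ext c
    rw [hΦC c]
    simp [Finset.sum_apply]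
  have hd : ∑ c : Cc P, f c = (Nat.card (Cc P) : ℝ) * ∑ θ, n θ ^ 2 := by
    have h2 : classInner (fun c : Cc P => Φ c) (fun c : Cc P => Φ c)
        = ((∑ θ, n θ ^ 2 : ℝ) : ℂ) := by
      conv_lhs => rw [hfun]
      rw [classInner_sum_right]
      simp only [classInner_smul_right]
      have : ∀ θ : IrrCharacter (Cc P),
          classInner (∑ θ', (n θ' : ℂ) • (θ' : Cc P → ℂ)) (θ : Cc P → ℂ) = (n θ : ℂ) :=
        fun θ => classInner_nat_decomp (fun θ' => (n θ' : ℂ)) θ
      simp only [this, Complex.conj_ofReal]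
      push_cast
      apply Finset.sum_congr rfl
      intro θ _; ring
    unfold classInner at h2
    have hC0' : (Nat.card (Cc P) : ℂ) ≠ 0 := by exact_mod_cast (Nat.card_pos (α := Cc P)).ne'
    have h3 : ∑ c : Cc P, Φ c * conj (Φ c)
        = (Nat.card (Cc P) : ℂ) * ((∑ θ, n θ ^ 2 : ℝ) : ℂ) := by
      rw [← h2]; field_simp
    have h4 : ∀ c : Cc P, Φ c * conj (Φ c) = ((f c : ℝ) : ℂ) := fun c => Complex.mul_conj _
    simp only [h4] at h3
    rw [← Complex.ofReal_sum] at h3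
    exact_mod_cast h3
  -- (e)
  have he : (Nat.card (P : Subgroup G) : ℝ) *
      ∑ c : Cc P, (if (c : G) ^ mm P = 1 then f c else 0)
      ≤ (∑ θ, n θ) ^ 2 * (Nat.card (Cc P) : ℝ) := by
    have hsn : 0 ≤ ∑ θ, n θ := Finset.sum_nonneg (fun θ _ => hn θ)
    have h2 : ∀ c : Cc P, f c ≤ (∑ θ, n θ) * ∑ θ, n θ * Complex.normSq ((θ : Cc P → ℂ) c) := by
      intro c
      simp only [hf]
      rw [hΦC c]
      exact normSq_sum_le Finset.univ n hn (fun θ => (θ : Cc P → ℂ) c)
    have h3 : ∑ c : Cc P, (if (c : G) ^ mm P = 1 then f c else 0)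
        ≤ ∑ c : Cc P, (∑ θ, n θ) * ∑ θ, n θ *
            (if (c : G) ^ mm P = 1 then Complex.normSq ((θ : Cc P → ℂ) c) else 0) := by
      apply Finset.sum_le_sum
      intro c _
      by_cases hc : (c : G) ^ mm P = 1
      · simp only [hc, if_true]; exact h2 c
      · simp only [hc, if_false, mul_zero, Finset.sum_const_zero, le_refl]
    have h4 : (Nat.card (P : Subgroup G) : ℝ) * ∑ c : Cc P, (∑ θ, n θ) * ∑ θ, n θ *
            (if (c : G) ^ mm P = 1 then Complex.normSq ((θ : Cc P → ℂ) c) else 0)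
        = (∑ θ, n θ) ^ 2 * (Nat.card (Cc P) : ℝ) := by
      rw [← Finset.mul_sum, Finset.sum_comm]
      simp_rw [← Finset.mul_sum]
      have : ∀ θ : IrrCharacter (Cc P), n θ * ∑ c : Cc P,
          (if (c : G) ^ mm P = 1 then Complex.normSq ((θ : Cc P → ℂ) c) else 0)
          = n θ * ((Nat.card (Cc P) : ℝ) / (Nat.card (P : Subgroup G) : ℝ)) := by
        intro θ
        rw [← sum_K_normSq h θ]
        field_simp
      simp_rw [this]
      rw [← Finset.sum_mul]
      field_simp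
    calc (Nat.card (P : Subgroup G) : ℝ) * ∑ c : Cc P, (if (c : G) ^ mm P = 1 then f c else 0)
        ≤ (Nat.card (P : Subgroup G) : ℝ) * ∑ c : Cc P, (∑ θ, n θ) * ∑ θ, n θ *
            (if (c : G) ^ mm P = 1 then Complex.normSq ((θ : Cc P → ℂ) c) else 0) :=
          mul_le_mul_of_nonneg_left h3 hq0.le
      _ = _ := h4
  -- (f)
  rw [hc, hc2, hd, ha] at hb
  set SK := ∑ c : Cc P, (if (c : G) ^ mm P = 1 then f c else 0) with hSK
  set q : ℝ := (Nat.card (P : Subgroup G) : ℝ) with hq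
  set cC : ℝ := (Nat.card (Cc P) : ℝ)
  set nN : ℝ := (Nat.card (Nn P) : ℝ)
  set gG : ℝ := (Nat.card G : ℝ)
  set S2 := ∑ θ, n θ ^ 2
  set S1 := ∑ θ, n θ
  -- hb : gG * (cC * S2 - SK) ≤ nN * (gG * r - f 1)
  have h5 : gG * (cC * S2 - SK) < nN * gG * r := by
    have : nN * (gG * r - f 1) < nN * gG * r := by nlinarith
    linarith
  have h6 : cC * S2 - SK < nN * r := by
    by_contra hcon
    push Not at hcon
    have : nN * gG * r ≤ gG * (cC * S2 - SK) := by nlinarith
    linarith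
  have h7 : q * (cC * S2 - SK) < q * (nN * r) := mul_lt_mul_of_pos_left h6 hq0
  nlinarith

end master

end Cfsg.Agent.Helper15.BL
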