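import Mathlib
import Cfsg.Prelude.Def_Characters
import Cfsg.Agent.Lib.Helper81.CharClifford
import Cfsg.Agent.Lib.Helper15.Central
import Cfsg.Agent.Lib.Helper15.BLGroup

set_option autoImplicit false
set_option linter.unusedSectionVars false
set_option linter.style.haveILetI false

namespace Cfsg.Agent.Helper15.BL

open Cfsg Cfsg.Agent.Helper81 Cfsg.Agent.Helper79
open scoped ComplexConjugate

universe u

section cj

variable {G : Type u} [Group G] [Finite G] {p : ℕ} [hp : Fact p.Prime] {P : Sylow p G}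

/-- conjugation of `C_G(P)` by an element of `N_G(P)` -/
def conjHom (g : Nn P) : Cc P →* Cc P where
  toFun c := ⟨g * c * (g : G)⁻¹, conj_mem_Cc g.2 c.2⟩
  map_one' := by apply Subtype.ext; simp
  map_mul' a b := by apply Subtype.ext; simp only [Subgroup.coe_mul]; group

theorem conjHom_apply_coe (g : Nn P) (c : Cc P) : ((conjHom g c : Cc P) : G) = g * c * (g : G)⁻¹ :=
  rfl

theorem conjHom_surjective (g : Nn P) : Function.Surjective (conjHom g) := by
  intro c
  refine ⟨conjHom g⁻¹ c, ?_⟩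
  apply Subtype.ext
  simp only [conjHom_apply_coe, InvMemClass.coe_inv]
  group

/-- conjugate of a function on `C_G(P)` -/
def conjChar (θ : Cc P → ℂ) (g : Nn P) : Cc P → ℂ := fun c => θ (conjHom g c)

theorem conjChar_isIrr {θ : Cc P → ℂ} (hθ : IsIrrCharacter (Cc P) θ) (g : Nn P) :
    IsIrrCharacter (Cc P) (conjChar θ g) := by
  obtain ⟨k, ρ, hρ, rfl⟩ := hθ
  haveI := hρ
  haveI := isIrreducible_comp_of_surjective ρ (conjHom g) (conjHom_surjective g)
  exact ⟨k, ρ.comp (conjHom g), this, rfl⟩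

/-- conjugate irreducible character -/
def conjIrr (θ : IrrCharacter (Cc P)) (g : Nn P) : IrrCharacter (Cc P) :=
  ⟨conjChar θ g, conjChar_isIrr θ.2 g⟩

theorem conjIrr_apply (θ : IrrCharacter (Cc P)) (g : Nn P) (c : Cc P) :
    (conjIrr θ g : Cc P → ℂ) c = (θ : Cc P → ℂ) (conjHom g c) := rfl

theorem conjIrr_mul (θ : IrrCharacter (Cc P)) (g g' : Nn P) :
    conjIrr (conjIrr θ g) g' = conjIrr θ (g * g') := by
  apply Subtype.ext
  funext c
  simp only [conjIrr_apply]
  have : conjHom g (conjHom g' c) = conjHom (g * g') c := by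
    apply Subtype.ext
    simp only [conjHom_apply_coe, Subgroup.coe_mul]
    group
  rw [this]

theorem conjIrr_of_mem_Cc (θ : IrrCharacter (Cc P)) (g : Nn P) (hg : (g : G) ∈ Cc P) :
    conjIrr θ g = θ := by
  apply Subtype.ext
  funext c
  simp only [conjIrr_apply]
  have : conjHom g c = (⟨g, hg⟩ : Cc P) * c * (⟨g, hg⟩ : Cc P)⁻¹ := by
    apply Subtype.ext
    simp [conjHom_apply_coe]
  rw [this]
  exact irr_class θ c _

theorem conjIrr_one (θ : IrrCharacter (Cc P)) : conjIrr θ 1 = θ :=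
  conjIrr_of_mem_Cc θ 1 (Subgroup.one_mem _)

/-- `θ` is trivial on `P` -/
def PTriv (h : UC P) (θ : IrrCharacter (Cc P)) : Prop :=
  ∀ (u : G) (hu : u ∈ (P : Subgroup G)), (θ : Cc P → ℂ) ⟨u, le_Cc h hu⟩ = (θ : Cc P → ℂ) 1

theorem central_mul (h : UC P) (θ : IrrCharacter (Cc P)) {u : G} (hu : u ∈ (P : Subgroup G)) :
    ∃ z : ℂ, ∀ c : Cc P, (θ : Cc P → ℂ) (c * ⟨u, le_Cc h hu⟩) = z * (θ : Cc P → ℂ) c := by
  have hz : (⟨u, le_Cc h hu⟩ : Cc P) ∈ Subgroup.center (Cc P) := by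
    rw [Subgroup.mem_center_iff]
    intro g
    apply Subtype.ext
    have := g.2
    rw [Subgroup.mem_centralizer_iff] at this
    exact (this u hu).symm
  obtain ⟨z, hz1, -⟩ := irr_central_scalar θ _ hz
  exact ⟨z, hz1⟩

/-- Freeness: a non-`P`-trivial character is fixed only by the centralizer. -/
theorem mem_Cc_of_conjIrr_eq (h : UC P) (θ : IrrCharacter (Cc P)) (hθ : ¬ PTriv h θ) (g : Nn P)
    (hg : conjIrr θ g = θ) : (g : G) ∈ Cc P := by
  by_contra hgC
  apply hθ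
  intro v hv
  obtain ⟨u, hu, huv⟩ := exists_comm_eq h g.2 hgC hv
  have hui : u⁻¹ ∈ (P : Subgroup G) := inv_mem hu
  obtain ⟨z, hz⟩ := central_mul h θ hui
  have hguP : (g : G) * u * (g : G)⁻¹ ∈ (P : Subgroup G) :=
    (Subgroup.mem_normalizer_iff.mp g.2 u).mp hu
  have e1 : (⟨v, le_Cc h hv⟩ : Cc P)
      = (⟨(g : G) * u * (g : G)⁻¹, le_Cc h hguP⟩ : Cc P) * ⟨u⁻¹, le_Cc h hui⟩ := by
    apply Subtype.ext
    simp only [Subgroup.coe_mul]
    exact huv.symm
  have e2 : (⟨(g : G) * u * (g : G)⁻¹, le_Cc h hguP⟩ : Cc P) = conjHom g ⟨u, le_Cc h hu⟩ := by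
    apply Subtype.ext; rfl
  have e3 : (θ : Cc P → ℂ) (conjHom g ⟨u, le_Cc h hu⟩) = (θ : Cc P → ℂ) ⟨u, le_Cc h hu⟩ := by
    have := congrArg (fun t : IrrCharacter (Cc P) => (t : Cc P → ℂ) ⟨u, le_Cc h hu⟩) hg
    simpa [conjIrr_apply] using this
  have e4 : (1 : Cc P) = (⟨u, le_Cc h hu⟩ : Cc P) * ⟨u⁻¹, le_Cc h hui⟩ := by
    apply Subtype.ext
    simp
  rw [e1, hz, e2, e3, ← hz, ← e4]

theorem PTriv_conjIrr (h : UC P) (θ : IrrCharacter (Cc P)) (g : Nn P) (hθ : PTriv h (conjIrr θ g)) :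
    PTriv h θ := by
  intro u hu
  have hguP : (g : G)⁻¹ * u * (g : G) ∈ (P : Subgroup G) := by
    have := (Subgroup.mem_normalizer_iff.mp (inv_mem g.2) u).mp hu
    simpa using this
  have h1 := hθ _ hguP
  simp only [conjIrr_apply] at h1
  have e1 : conjHom g ⟨(g : G)⁻¹ * u * (g : G), le_Cc h hguP⟩ = ⟨u, le_Cc h hu⟩ := by
    apply Subtype.ext
    simp only [conjHom_apply_coe]
    group
  rw [e1, map_one] at h1
  exact h1

end cj

section mult

variable {G : Type u} [Group G] [Fintype G] {p : ℕ} [hp : Fact p.Prime] {P : Sylow p G}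

theorem classInner_conjIrr [Fintype (Cc P)] {φ : G → ℂ} (hφ : IsClassFunction G φ)
    (θ : IrrCharacter (Cc P)) (g : Nn P) :
    classInner (fun c : Cc P => φ c) (conjIrr θ g : Cc P → ℂ)
      = classInner (fun c : Cc P => φ c) (θ : Cc P → ℂ) := by
  unfold classInner
  congr 1
  have hbij : Function.Bijective (conjHom g : Cc P → Cc P) :=
    ⟨Finite.injective_iff_surjective.mpr (conjHom_surjective g), conjHom_surjective g⟩
  rw [← Equiv.sum_comp (Equiv.ofBijective _ hbij)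
    (fun c : Cc P => φ c * conj ((θ : Cc P → ℂ) c))]
  apply Finset.sum_congr rfl
  intro c _
  simp only [Equiv.ofBijective_apply, conjIrr_apply, conjHom_apply_coe]
  rw [hφ]

/-- multiplicities of the restriction of a character to `C_G(P)` -/
theorem exists_mult [Fintype (Cc P)] [Fintype (IrrCharacter (Cc P))] {φ : G → ℂ}
    (hφ : IsCharacter G φ) :
    ∃ m : IrrCharacter (Cc P) → ℕ,
      (∀ c : Cc P, φ c = ∑ θ, ((m θ : ℝ) : ℂ) * (θ : Cc P → ℂ) c) ∧
      (∀ (θ : IrrCharacter (Cc P)) (g : Nn P), m (conjIrr θ g) = m θ) ∧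
      (∀ θ : IrrCharacter (Cc P),
        classInner (fun c : Cc P => φ c) (θ : Cc P → ℂ) = (m θ : ℂ)) := by
  obtain ⟨m, hm⟩ := exists_nat_decomp (isCharacter_restrict (Cc P) hφ)
  have hinner : ∀ θ : IrrCharacter (Cc P),
      classInner (fun c : Cc P => φ c) (θ : Cc P → ℂ) = (m θ : ℂ) := by
    intro θ
    rw [hm]
    exact classInner_nat_decomp (fun θ' => (m θ' : ℂ)) θ
  refine ⟨m, ?_, ?_, hinner⟩
  · intro c
    have := congrFun hm c
    simp only [Finset.sum_apply, Pi.smul_apply, smul_eq_mul] at this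
    rw [this]
    apply Finset.sum_congr rfl
    intro θ _
    push_cast
    rfl
  · intro θ g
    have h1 := classInner_conjIrr (isClassFunction_of_isCharacter hφ) θ g
    rw [hinner, hinner] at h1
    exact_mod_cast h1

open scoped Classical in
/-- Orbit counting: a non-`P`-trivial constituent forces many constituents. -/
theorem card_Nn_le (h : UC P) [Fintype (Cc P)] [Fintype (IrrCharacter (Cc P))]
    (m : IrrCharacter (Cc P) → ℕ)
    (hm : ∀ (θ : IrrCharacter (Cc P)) (g : Nn P), m (conjIrr θ g) = m θ)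
    (θ : IrrCharacter (Cc P)) (hθ : ¬ PTriv h θ) (hmθ : 1 ≤ m θ)
    (o : IrrCharacter (Cc P)) (ho : PTriv h o) :
    Nat.card (Nn P) + Nat.card (Cc P) * m o ≤ Nat.card (Cc P) * ∑ θ', m θ' := by
  haveI : Fintype (Nn P) := Fintype.ofFinite _
  set O : Finset (IrrCharacter (Cc P)) := Finset.univ.image (fun g : Nn P => conjIrr θ g) with hO
  have hfib : ∀ b ∈ O, (Finset.univ.filter (fun g : Nn P => conjIrr θ g = b)).card
      ≤ Nat.card (Cc P) := by
    intro b hb
    rw [hO, Finset.mem_image] at hb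
    obtain ⟨g₀, -, rfl⟩ := hb
    have hmem : ∀ g : {g : Nn P // conjIrr θ g = conjIrr θ g₀},
        ((g : Nn P) : G) * ((g₀ : Nn P) : G)⁻¹ ∈ Cc P := by
      rintro ⟨g, hg⟩
      have h1 : conjIrr θ (g * g₀⁻¹) = θ := by
        rw [← conjIrr_mul, hg, conjIrr_mul, mul_inv_cancel, conjIrr_one]
      have := mem_Cc_of_conjIrr_eq h θ hθ (g * g₀⁻¹) h1
      simpa using this
    rw [← Fintype.card_subtype, ← Nat.card_eq_fintype_card]
    apply Nat.card_le_card_of_injective
      (fun g : {g : Nn P // conjIrr θ g = conjIrr θ g₀} =>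
        (⟨((g : Nn P) : G) * ((g₀ : Nn P) : G)⁻¹, hmem g⟩ : Cc P))
    intro g g' hgg
    have h1 : ((g : Nn P) : G) * ((g₀ : Nn P) : G)⁻¹ = ((g' : Nn P) : G) * ((g₀ : Nn P) : G)⁻¹ :=
      congrArg Subtype.val hgg
    exact Subtype.ext (Subtype.ext (mul_right_cancel h1))
  have hcard : Nat.card (Nn P) ≤ Nat.card (Cc P) * O.card := by
    have := Finset.card_le_mul_card_image (f := fun g : Nn P => conjIrr θ g) Finset.univ
      (Nat.card (Cc P)) hfib
    rwa [Finset.card_univ, ← Nat.card_eq_fintype_card] at this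
  have hoO : o ∉ O := by
    intro hoO
    rw [hO, Finset.mem_image] at hoO
    obtain ⟨g, -, hg⟩ := hoO
    apply hθ
    apply PTriv_conjIrr h θ g
    rw [hg]; exact ho
  have hmO : ∀ θ' ∈ O, 1 ≤ m θ' := by
    intro θ' hθ'
    rw [hO, Finset.mem_image] at hθ'
    obtain ⟨g, -, rfl⟩ := hθ'
    rw [hm]; exact hmθ
  have hsum : O.card + m o ≤ ∑ θ', m θ' := by
    have h1 : ∑ θ' ∈ insert o O, m θ' ≤ ∑ θ', m θ' :=
      Finset.sum_le_sum_of_subset (Finset.subset_univ _)
    rw [Finset.sum_insert hoO] at h1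
    have h2 : O.card ≤ ∑ θ' ∈ O, m θ' := by
      calc O.card = ∑ _θ' ∈ O, 1 := by simp
        _ ≤ ∑ θ' ∈ O, m θ' := Finset.sum_le_sum hmO
    omega
  calc Nat.card (Nn P) + Nat.card (Cc P) * m o
      ≤ Nat.card (Cc P) * O.card + Nat.card (Cc P) * m o := by omega
    _ = Nat.card (Cc P) * (O.card + m o) := by ring
    _ ≤ Nat.card (Cc P) * ∑ θ', m θ' := Nat.mul_le_mul_left _ hsum

end mult

end Cfsg.Agent.Helper15.BL
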