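import Mathlib
import Cfsg.Prelude.Def_Characters
import Cfsg.Prelude.Def_Blocks
import Cfsg.Agent.Lib.Helper81.CharFrob
import Cfsg.Agent.Lib.Helper81.CharProd
import Cfsg.Agent.Lib.Helper3.CharDecomp
import Cfsg.Agent.Lib.Helper15.BLMaster
import Cfsg.Agent.Lib.Helper15.BLOrbit

set_option autoImplicit false
set_option linter.unusedSectionVars false
set_option linter.style.haveILetI false

namespace Cfsg.Agent.Helper15.BL

open Cfsg Cfsg.Agent.Helper81 Cfsg.Agent.Helper79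
open scoped ComplexConjugate

universe u

section prep

variable {G : Type u} [Group G] [Fintype G] {p : ℕ} [hp : Fact p.Prime] {P : Sylow p G}

/-- the kernel of a character is a normal subgroup -/
theorem exists_normal_ker {χ : G → ℂ} (hχ : IsCharacter G χ) :
    ∃ N : Subgroup G, N.Normal ∧ ∀ g, g ∈ N ↔ χ g = χ 1 := by
  obtain ⟨n, ρ, rfl⟩ := hχ
  refine ⟨MonoidHom.ker ρ, MonoidHom.normal_ker ρ, ?_⟩
  intro g
  rw [MonoidHom.mem_ker, Representation.char_one, char_eq_finrank_iff]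

/-- hypothesis: no proper normal subgroup contains `P` -/
def NoProper (P : Sylow p G) : Prop :=
  ∀ K : Subgroup G, K.Normal → (P : Subgroup G) ≤ K → K = ⊤

theorem const_of_P_le_ker (hH : NoProper P) {ψ : G → ℂ} (hψ : IsCharacter G ψ)
    (hP : ∀ u ∈ (P : Subgroup G), ψ u = ψ 1) (g : G) : ψ g = ψ 1 := by
  obtain ⟨N, hN, hmem⟩ := exists_normal_ker hψ
  have : N = ⊤ := hH N hN (fun u hu => (hmem u).mpr (hP u hu))
  exact (hmem g).mp (this ▸ Subgroup.mem_top g)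

theorem irr_const_eq_one (φ : IrrCharacter G) (hc : ∀ g, (φ : G → ℂ) g = (φ : G → ℂ) 1) :
    (φ : G → ℂ) = fun _ => 1 := by
  obtain ⟨hd, hdpos⟩ := irr_one_eq φ
  set d := charDegree (φ : G → ℂ)
  have h1 := irr_orthonormal φ.2 φ.2
  rw [if_pos rfl] at h1
  unfold classInner at h1
  simp only [hc, hd] at h1
  rw [Finset.sum_const, Finset.card_univ, ← Nat.card_eq_fintype_card] at h1
  have hG0 : (Nat.card G : ℂ) ≠ 0 := by exact_mod_cast (Nat.card_pos (α := G)).ne'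
  simp only [map_natCast, nsmul_eq_mul] at h1
  rw [← mul_assoc, inv_mul_cancel₀ hG0, one_mul] at h1
  have h2 : d * d = 1 := by exact_mod_cast h1
  have h3 : d = 1 := Nat.eq_one_of_mul_eq_one_right h2
  funext g
  rw [hc g, hd, h3]; simp

/-- trivial character of the centralizer -/
def oC (P : Sylow p G) : IrrCharacter (Cc P) := ⟨fun _ => 1, isIrrCharacter_one⟩

theorem PTriv_oC (h : UC P) : PTriv h (oC P) := fun _ _ => rfl

variable [Fintype (Cc P)] [Fintype (IrrCharacter (Cc P))]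

theorem exists_nonPTriv (h : UC P) (hH : NoProper P) (φ : IrrCharacter G)
    (hφ1 : (φ : G → ℂ) ≠ fun _ => 1) (m : IrrCharacter (Cc P) → ℕ)
    (hm : ∀ c : Cc P, (φ : G → ℂ) c = ∑ θ, ((m θ : ℝ) : ℂ) * (θ : Cc P → ℂ) c) :
    ∃ θ, 1 ≤ m θ ∧ ¬ PTriv h θ := by
  by_contra hcon
  push Not at hcon
  apply hφ1
  apply irr_const_eq_one
  apply const_of_P_le_ker hH (IsIrrCharacter.isCharacter φ.2)
  intro u hu
  have h1 := hm ⟨u, le_Cc h hu⟩
  have h2 := hm 1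
  simp only [OneMemClass.coe_one] at h2
  rw [show (u : G) = ((⟨u, le_Cc h hu⟩ : Cc P) : G) from rfl, h1, h2]
  apply Finset.sum_congr rfl
  intro θ _
  rcases Nat.eq_zero_or_pos (m θ) with h0 | h0
  · rw [h0]; simp
  · rw [hcon θ h0 u hu]

theorem sigma_le_deg {φ : G → ℂ} (m : IrrCharacter (Cc P) → ℕ)
    (hm : ∀ c : Cc P, φ c = ∑ θ, ((m θ : ℝ) : ℂ) * (θ : Cc P → ℂ) c) (d : ℕ)
    (hd : φ 1 = (d : ℂ)) : ∑ θ, m θ ≤ d := by
  have h2 := hm 1
  simp only [OneMemClass.coe_one] at h2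
  rw [hd] at h2
  have h3 : (d : ℂ) = ((∑ θ, m θ * charDegree (θ : Cc P → ℂ) : ℕ) : ℂ) := by
    rw [h2]
    push_cast
    apply Finset.sum_congr rfl
    intro θ _
    rw [(irr_one_eq θ).1]
  have h4 : d = ∑ θ, m θ * charDegree (θ : Cc P → ℂ) := by exact_mod_cast h3
  rw [h4]
  apply Finset.sum_le_sum
  intro θ _
  exact Nat.le_mul_of_pos_right _ (irr_one_eq θ).2

/-- natural-number form of the master inequality -/
theorem master_nat (h : UC P) (e₀ : ℕ) (he₀ : Nat.card (Nn P) = e₀ * Nat.card (Cc P))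
    (Φ : G → ℂ) (hΦ : IsClassFunction G Φ) (k : IrrCharacter (Cc P) → ℕ)
    (hΦC : ∀ c : Cc P, Φ c = ∑ θ, ((k θ : ℝ) : ℂ) * (θ : Cc P → ℂ) c)
    (R : ℕ) (hr : classInner Φ Φ = (R : ℂ)) (h1 : Φ 1 ≠ 0) :
    Nat.card (P : Subgroup G) * ∑ θ, k θ ^ 2
      < Nat.card (P : Subgroup G) * e₀ * R + (∑ θ, k θ) ^ 2 := by
  have hM := master h Φ hΦ (fun θ => (k θ : ℝ)) (fun θ => Nat.cast_nonneg _) hΦC (R : ℝ)
    (by rw [hr]; simp) h1
  have hC0 : (0 : ℝ) < Nat.card (Cc P) := by exact_mod_cast Nat.card_pos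
  rw [he₀] at hM
  push_cast at hM
  have h2 : ((Nat.card (P : Subgroup G) : ℝ) * ∑ θ, (k θ : ℝ) ^ 2 - (∑ θ, (k θ : ℝ)) ^ 2)
      < (Nat.card (P : Subgroup G) : ℝ) * e₀ * R := by
    by_contra hcon
    push Not at hcon
    have := mul_le_mul_of_nonneg_left hcon hC0.le
    nlinarith
  have h3 : ((Nat.card (P : Subgroup G) * ∑ θ, k θ ^ 2 : ℕ) : ℝ)
      < ((Nat.card (P : Subgroup G) * e₀ * R + (∑ θ, k θ) ^ 2 : ℕ) : ℝ) := by
    push_cast
    linarith
  exact_mod_cast h3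

theorem classInner_C_self {Φ : G → ℂ} (k : IrrCharacter (Cc P) → ℕ)
    (hΦC : ∀ c : Cc P, Φ c = ∑ θ, ((k θ : ℝ) : ℂ) * (θ : Cc P → ℂ) c) :
    classInner (fun c : Cc P => Φ c) (fun c : Cc P => Φ c) = ((∑ θ, k θ ^ 2 : ℕ) : ℂ) := by
  have hfun : (fun c : Cc P => Φ c) = ∑ θ, ((k θ : ℝ) : ℂ) • (θ : Cc P → ℂ) := by
    ext c
    rw [hΦC c]
    simp [Finset.sum_apply]
  conv_lhs => rw [hfun]
  rw [classInner_sum_right]
  simp only [classInner_smul_right]
  have : ∀ θ : IrrCharacter (Cc P),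
      classInner (∑ θ', ((k θ' : ℝ) : ℂ) • (θ' : Cc P → ℂ)) (θ : Cc P → ℂ) = ((k θ : ℝ) : ℂ) :=
    fun θ => classInner_nat_decomp (fun θ' => ((k θ' : ℝ) : ℂ)) θ
  simp only [this, Complex.conj_ofReal]
  push_cast
  apply Finset.sum_congr rfl
  intro θ _; ring

/-- Step 1: the restriction of a small nonprincipal irreducible character to the centralizer
has exactly `e₀` constituents. -/
theorem chi_sigma (h : UC P) (hH : NoProper P) (e₀ : ℕ)
    (he₀ : Nat.card (Nn P) = e₀ * Nat.card (Cc P)) (χ : IrrCharacter G)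
    (hχ1 : (χ : G → ℂ) ≠ fun _ => 1)
    (hdeg : charDegree (χ : G → ℂ) ^ 2 + 1 < Nat.card (P : Subgroup G))
    (m : IrrCharacter (Cc P) → ℕ)
    (hmC : ∀ c : Cc P, (χ : G → ℂ) c = ∑ θ, ((m θ : ℝ) : ℂ) * (θ : Cc P → ℂ) c)
    (hmN : ∀ (θ : IrrCharacter (Cc P)) (g : Nn P), m (conjIrr θ g) = m θ) :
    ∑ θ, m θ = e₀ ∧ e₀ ≤ charDegree (χ : G → ℂ) := by
  obtain ⟨hx, hxpos⟩ := irr_one_eq χ
  set x := charDegree (χ : G → ℂ) with hxdef
  set q := Nat.card (P : Subgroup G) with hq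
  have hσx : ∑ θ, m θ ≤ x := sigma_le_deg m hmC x hx
  obtain ⟨θ₁, hθ₁m, hθ₁⟩ := exists_nonPTriv h hH χ hχ1 m hmC
  have hcard := card_Nn_le h m hmN θ₁ hθ₁ hθ₁m (oC P) (PTriv_oC h)
  have hC0 : 0 < Nat.card (Cc P) := Nat.card_pos
  have hσe : e₀ ≤ ∑ θ, m θ := by
    rw [he₀] at hcard
    have : Nat.card (Cc P) * e₀ ≤ Nat.card (Cc P) * ∑ θ, m θ := by
      calc Nat.card (Cc P) * e₀ = e₀ * Nat.card (Cc P) := Nat.mul_comm _ _
        _ ≤ e₀ * Nat.card (Cc P) + Nat.card (Cc P) * m (oC P) := Nat.le_add_right _ _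
        _ ≤ _ := hcard
    exact Nat.le_of_mul_le_mul_left this hC0
  have hM := master_nat h e₀ he₀ (χ : G → ℂ)
    (isClassFunction_of_isCharacter (IsIrrCharacter.isCharacter χ.2)) m hmC 1
    (by rw [irr_orthonormal χ.2 χ.2, if_pos rfl]; simp) (irr_one_ne_zero χ)
  have hs₂ : ∑ θ, m θ ≤ ∑ θ, m θ ^ 2 := by
    apply Finset.sum_le_sum
    intro θ _
    exact Nat.le_self_pow (by norm_num) _
  set σ := ∑ θ, m θ with hσ
  set s₂ := ∑ θ, m θ ^ 2 with hs₂def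
  have hσeq : σ = e₀ := by
    by_contra hne
    have h1 : e₀ + 1 ≤ σ := by omega
    -- cast to integers
    have hMz : (q : ℤ) * s₂ < q * e₀ * 1 + (σ : ℤ) ^ 2 := by exact_mod_cast hM
    have hdz : (x : ℤ) ^ 2 + 1 < q := by exact_mod_cast hdeg
    have h1z : (e₀ : ℤ) + 1 ≤ σ := by exact_mod_cast h1
    have hσxz : (σ : ℤ) ≤ x := by exact_mod_cast hσx
    have hs₂z : (σ : ℤ) ≤ s₂ := by exact_mod_cast hs₂
    have he0 : (0 : ℤ) ≤ e₀ := by positivity
    have hq0 : (0 : ℤ) < q := by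
      have : 0 < q := Nat.card_pos
      exact_mod_cast this
    have h2 : (σ : ℤ) + e₀ + 1 < q := by nlinarith
    have h3 : 0 ≤ ((σ : ℤ) - (e₀ + 1)) * ((q : ℤ) - e₀ - 1 - σ) :=
      mul_nonneg (by linarith) (by linarith)
    have h4 : (q : ℤ) * σ ≤ q * s₂ := mul_le_mul_of_nonneg_left hs₂z hq0.le
    nlinarith
  exact ⟨hσeq, hσeq ▸ hσx⟩

end prep

section main

variable {G : Type u} [Group G] [Fintype G] {p : ℕ} [hp : Fact p.Prime] {P : Sylow p G}
variable [Fintype (Cc P)] [Fintype (IrrCharacter (Cc P))] [Fintype (IrrCharacter G)]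

/-- the trivial character of `G` -/
def oG (G : Type u) [Group G] : IrrCharacter G := ⟨fun _ => 1, isIrrCharacter_one⟩

/-- sum of squares versus the sum, isolating one index -/
theorem sum_sq_ge {ι : Type*} [Fintype ι] [DecidableEq ι] (m : ι → ℕ) (o : ι) :
    ∑ i, m i + m o ^ 2 ≤ ∑ i, m i ^ 2 + m o := by
  have h1 : ∑ i, m i = m o + ∑ i ∈ Finset.univ.erase o, m i := by
    rw [Finset.add_sum_erase _ _ (Finset.mem_univ o)]
  have h2 : ∑ i, m i ^ 2 = m o ^ 2 + ∑ i ∈ Finset.univ.erase o, m i ^ 2 := by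
    rw [Finset.add_sum_erase _ (fun i => m i ^ 2) (Finset.mem_univ o)]
  have h3 : ∑ i ∈ Finset.univ.erase o, m i ≤ ∑ i ∈ Finset.univ.erase o, m i ^ 2 := by
    apply Finset.sum_le_sum
    intro i _
    exact Nat.le_self_pow (by norm_num) _
  omega

open scoped Classical in
/-- basic numerical facts about the restriction of a nonprincipal irreducible character -/
theorem phi_facts (h : UC P) (hH : NoProper P) (e₀ : ℕ)
    (he₀ : Nat.card (Nn P) = e₀ * Nat.card (Cc P)) (φ : IrrCharacter G)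
    (hφ1 : (φ : G → ℂ) ≠ fun _ => 1)
    (m : IrrCharacter (Cc P) → ℕ)
    (hmC : ∀ c : Cc P, (φ : G → ℂ) c = ∑ θ, ((m θ : ℝ) : ℂ) * (θ : Cc P → ℂ) c)
    (hmN : ∀ (θ : IrrCharacter (Cc P)) (g : Nn P), m (conjIrr θ g) = m θ) :
    ∑ θ, m θ ≤ charDegree (φ : G → ℂ) ∧
    Nat.card (P : Subgroup G) * ∑ θ, m θ ^ 2
      < Nat.card (P : Subgroup G) * e₀ + (∑ θ, m θ) ^ 2 ∧
    e₀ + m (oC P) ≤ ∑ θ, m θ ∧
    ∑ θ, m θ + m (oC P) ^ 2 ≤ ∑ θ, m θ ^ 2 + m (oC P) := by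
  obtain ⟨hx, hxpos⟩ := irr_one_eq φ
  refine ⟨sigma_le_deg m hmC _ hx, ?_, ?_, sum_sq_ge m (oC P)⟩
  · have hM := master_nat h e₀ he₀ (φ : G → ℂ)
      (isClassFunction_of_isCharacter (IsIrrCharacter.isCharacter φ.2)) m hmC 1
      (by rw [irr_orthonormal φ.2 φ.2, if_pos rfl]; simp) (irr_one_ne_zero φ)
    simpa using hM
  · obtain ⟨θ₁, hθ₁m, hθ₁⟩ := exists_nonPTriv h hH φ hφ1 m hmC
    have hcard := card_Nn_le h m hmN θ₁ hθ₁ hθ₁m (oC P) (PTriv_oC h)
    have hC0 : 0 < Nat.card (Cc P) := Nat.card_pos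
    rw [he₀] at hcard
    have : Nat.card (Cc P) * (e₀ + m (oC P)) ≤ Nat.card (Cc P) * ∑ θ, m θ := by
      calc Nat.card (Cc P) * (e₀ + m (oC P))
          = e₀ * Nat.card (Cc P) + Nat.card (Cc P) * m (oC P) := by ring
        _ ≤ _ := hcard
    exact Nat.le_of_mul_le_mul_left this hC0

/-- generic case: a nonprincipal constituent containing the trivial character of the
centralizer has large degree -/
theorem generic_deg (e₀ q σ s₂ a : ℕ) (hq : (e₀ + 1) ^ 2 ≤ q)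
    (hM : q * s₂ < q * e₀ + σ ^ 2) (hσ : e₀ + a ≤ σ) (ha : 1 ≤ a) (hs : σ + a ^ 2 ≤ s₂ + a) :
    q ≤ σ + e₀ := by
  by_contra hcon
  push Not at hcon
  have hMz : (q : ℤ) * s₂ < q * e₀ + (σ : ℤ) ^ 2 := by exact_mod_cast hM
  have hqz : ((e₀ : ℤ) + 1) ^ 2 ≤ q := by exact_mod_cast hq
  have hσz : (e₀ : ℤ) + a ≤ σ := by exact_mod_cast hσ
  have haz : (1 : ℤ) ≤ a := by exact_mod_cast ha
  have hsz : (σ : ℤ) + (a : ℤ) ^ 2 ≤ s₂ + a := by exact_mod_cast hs
  have hcz : (σ : ℤ) + e₀ + 1 ≤ q := by exact_mod_cast hcon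
  have he0 : (0 : ℤ) ≤ e₀ := by positivity
  have hq0 : (0 : ℤ) < q := by nlinarith
  have h1 : (σ : ℤ) ≤ s₂ := by nlinarith
  have h3 : 0 ≤ ((σ : ℤ) - (e₀ + 1)) * ((q : ℤ) - e₀ - 1 - σ) :=
    mul_nonneg (by linarith) (by linarith)
  have h4 : (q : ℤ) * σ ≤ q * s₂ := mul_le_mul_of_nonneg_left h1 hq0.le
  nlinarith

theorem generic_contra (e₀ q σ s₂ a : ℕ) (he : 2 ≤ e₀) (hq : (e₀ + 1) ^ 2 ≤ q)
    (hM : q * s₂ < q * e₀ + σ ^ 2) (hσ : q ≤ σ + e₀) (hσ2 : σ + 3 ≤ q) (ha : e₀ ≤ a + 1)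
    (hs : σ + a ^ 2 ≤ s₂ + a) : False := by
  have hMz : (q : ℤ) * s₂ < q * e₀ + (σ : ℤ) ^ 2 := by exact_mod_cast hM
  have hqz : ((e₀ : ℤ) + 1) ^ 2 ≤ q := by exact_mod_cast hq
  have hσz : (q : ℤ) ≤ σ + e₀ := by exact_mod_cast hσ
  have hσ2z : (σ : ℤ) + 3 ≤ q := by exact_mod_cast hσ2
  have haz : (e₀ : ℤ) ≤ a + 1 := by exact_mod_cast ha
  have hez : (2 : ℤ) ≤ e₀ := by exact_mod_cast he
  have hsz : (σ : ℤ) + (a : ℤ) ^ 2 ≤ s₂ + a := by exact_mod_cast hs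
  have hq0 : (0 : ℤ) < q := by nlinarith
  have hq9 : (9 : ℤ) ≤ q := by nlinarith
  -- σ ≥ 3
  have hσ3 : (3 : ℤ) ≤ σ := by nlinarith
  have h3 : 0 ≤ ((σ : ℤ) - 3) * ((q : ℤ) - 3 - σ) := mul_nonneg (by linarith) (by linarith)
  have h5 : (q : ℤ) * (σ + (a : ℤ) ^ 2 - a) ≤ q * s₂ :=
    mul_le_mul_of_nonneg_left (by linarith) hq0.le
  have h6 : (q : ℤ) * e₀ ≤ q * (a + 1) := mul_le_mul_of_nonneg_left haz hq0.le
  have h7 : (0 : ℤ) ≤ ((a : ℤ) - 1) ^ 2 := sq_nonneg _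
  have h8 : (q : ℤ) * (((a : ℤ) - 1) ^ 2 + 1) < 9 := by nlinarith
  nlinarith

theorem zone_sigma (e₀ q σ s₂ a : ℕ) (he : 2 ≤ e₀) (hq : q = e₀ ^ 2 + e₀ + 1)
    (hM : q * s₂ < q * e₀ + σ ^ 2) (hσ : e₀ + a ≤ σ) (ha : 1 ≤ a) (hσ2 : σ + 1 ≤ e₀ ^ 2)
    (hs : σ + a ^ 2 ≤ s₂ + a) : σ = e₀ + 1 ∧ a = 1 := by
  have key : σ ≤ e₀ + 1 := by
    by_contra hcon
    push Not at hcon
    have hMz : (q : ℤ) * s₂ < q * e₀ + (σ : ℤ) ^ 2 := by exact_mod_cast hM
    have hqz : (q : ℤ) = (e₀ : ℤ) ^ 2 + e₀ + 1 := by exact_mod_cast hq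
    have hσ2z : (σ : ℤ) + 1 ≤ (e₀ : ℤ) ^ 2 := by exact_mod_cast hσ2
    have hcz : (e₀ : ℤ) + 2 ≤ σ := by exact_mod_cast hcon
    have hez : (2 : ℤ) ≤ e₀ := by exact_mod_cast he
    have haz : (1 : ℤ) ≤ a := by exact_mod_cast ha
    have hsz : (σ : ℤ) + (a : ℤ) ^ 2 ≤ s₂ + a := by exact_mod_cast hs
    have hq0 : (0 : ℤ) < q := by nlinarith
    have h1 : (σ : ℤ) ≤ s₂ := by nlinarith
    have h4 : (q : ℤ) * σ ≤ q * s₂ := mul_le_mul_of_nonneg_left h1 hq0.le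
    have h3 : 0 ≤ ((σ : ℤ) - (e₀ + 2)) * ((e₀ : ℤ) ^ 2 - 1 - σ) :=
      mul_nonneg (by linarith) (by linarith)
    -- e₀ ≥ 3 since σ ≥ e₀ + 2 and σ ≤ e₀^2 - 1
    have he3 : (3 : ℤ) ≤ e₀ := by nlinarith
    nlinarith
  constructor <;> omega

open scoped Classical in
/-- zone case: the configuration `σ = e₀ + 1`, `a = 1` contradicts the master inequality for
`1 + e₀ φ`. -/
theorem zone_contra (h : UC P) (e₀ : ℕ)
    (he₀ : Nat.card (Nn P) = e₀ * Nat.card (Cc P))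
    (hq : Nat.card (P : Subgroup G) = e₀ ^ 2 + e₀ + 1) (φ : IrrCharacter G)
    (hφ1 : (φ : G → ℂ) ≠ fun _ => 1)
    (m : IrrCharacter (Cc P) → ℕ)
    (hmC : ∀ c : Cc P, (φ : G → ℂ) c = ∑ θ, ((m θ : ℝ) : ℂ) * (θ : Cc P → ℂ) c)
    (hσ : ∑ θ, m θ = e₀ + 1) (ha : m (oC P) = 1) : False := by
  set Φ : G → ℂ := fun g => 1 + (e₀ : ℂ) * (φ : G → ℂ) g with hΦdef
  set k : IrrCharacter (Cc P) → ℕ := fun θ => (if θ = oC P then 1 else 0) + e₀ * m θ with hk
  have hφc := isClassFunction_of_isCharacter (IsIrrCharacter.isCharacter φ.2)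
  have hΦcl : IsClassFunction G Φ := by
    intro g x
    simp only [hΦdef]
    rw [hφc g x]
  have hΦC : ∀ c : Cc P, Φ c = ∑ θ, ((k θ : ℝ) : ℂ) * (θ : Cc P → ℂ) c := by
    intro c
    have hk' : ∀ θ : IrrCharacter (Cc P), ((k θ : ℝ) : ℂ)
        = (if θ = oC P then (1 : ℂ) else 0) + (e₀ : ℂ) * ((m θ : ℝ) : ℂ) := by
      intro θ
      simp only [hk]
      split_ifs <;> push_cast <;> ring
    simp only [hk', add_mul, Finset.sum_add_distrib, ite_mul, one_mul, zero_mul]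
    rw [Finset.sum_ite_eq' Finset.univ (oC P)]
    simp only [Finset.mem_univ, if_true]
    simp only [hΦdef]
    rw [hmC c, Finset.mul_sum]
    congr 1
    apply Finset.sum_congr rfl
    intro θ _; ring
  have hΦfun : Φ = (oG G : G → ℂ) + (e₀ : ℂ) • (φ : G → ℂ) := by
    funext g
    simp [hΦdef, oG]
  have hne : (oG G : G → ℂ) ≠ (φ : G → ℂ) := fun hh => hφ1 hh.symm
  have hr : classInner Φ Φ = ((1 + e₀ ^ 2 : ℕ) : ℂ) := by
    rw [hΦfun, classInner_add_left, classInner_add_right, classInner_add_right,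
      classInner_smul_left, classInner_smul_left, classInner_smul_right, classInner_smul_right,
      irr_orthonormal (oG G).2 (oG G).2, irr_orthonormal (oG G).2 φ.2,
      irr_orthonormal φ.2 (oG G).2, irr_orthonormal φ.2 φ.2, if_pos rfl, if_pos rfl,
      if_neg hne, if_neg (fun hh => hne hh.symm)]
    simp only [Complex.conj_natCast]
    push_cast
    ring
  obtain ⟨hd, hdpos⟩ := irr_one_eq φ
  have hΦ1 : Φ 1 ≠ 0 := by
    simp only [hΦdef, hd]
    have : ((1 + e₀ * charDegree (φ : G → ℂ) : ℕ) : ℂ) ≠ 0 := by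
      exact_mod_cast (Nat.add_pos_left Nat.one_pos _).ne'
    simpa using this
  have hM := master_nat h e₀ he₀ Φ hΦcl k hΦC (1 + e₀ ^ 2) hr hΦ1
  have hsumk : ∑ θ, k θ = 1 + e₀ * (e₀ + 1) := by
    simp only [hk]
    rw [Finset.sum_add_distrib, Finset.sum_ite_eq' Finset.univ (oC P), ← Finset.mul_sum, hσ]
    simp
  have hsumk2 : 1 + 2 * e₀ + e₀ ^ 2 * (e₀ + 1) ≤ ∑ θ, k θ ^ 2 := by
    have hterm : ∀ θ : IrrCharacter (Cc P),
        (if θ = oC P then 1 + 2 * e₀ * m θ else 0) + e₀ ^ 2 * m θ ≤ k θ ^ 2 := by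
      intro θ
      simp only [hk]
      have hm2 : m θ ≤ m θ ^ 2 := Nat.le_self_pow (by norm_num) _
      split_ifs with hθ
      · have : (1 + e₀ * m θ) ^ 2 = 1 + 2 * e₀ * m θ + e₀ ^ 2 * m θ ^ 2 := by ring
        rw [this]
        have := Nat.mul_le_mul_left (e₀ ^ 2) hm2
        omega
      · have : (0 + e₀ * m θ) ^ 2 = e₀ ^ 2 * m θ ^ 2 := by ring
        rw [this]
        have := Nat.mul_le_mul_left (e₀ ^ 2) hm2
        omega
    calc 1 + 2 * e₀ + e₀ ^ 2 * (e₀ + 1)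
        = ∑ θ, ((if θ = oC P then 1 + 2 * e₀ * m θ else 0) + e₀ ^ 2 * m θ) := by
          rw [Finset.sum_add_distrib, Finset.sum_ite_eq' Finset.univ (oC P), ← Finset.mul_sum,
            hσ, ha]
          simp
      _ ≤ ∑ θ, k θ ^ 2 := Finset.sum_le_sum (fun θ _ => hterm θ)
  rw [hsumk, hq] at hM
  have hMz : ((e₀ : ℤ) ^ 2 + e₀ + 1) * (∑ θ, k θ ^ 2 : ℕ)
      < ((e₀ : ℤ) ^ 2 + e₀ + 1) * e₀ * (1 + (e₀ : ℤ) ^ 2) + (1 + (e₀ : ℤ) * (e₀ + 1)) ^ 2 := by
    exact_mod_cast hM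
  have h2z : (1 : ℤ) + 2 * e₀ + (e₀ : ℤ) ^ 2 * (e₀ + 1) ≤ (∑ θ, k θ ^ 2 : ℕ) := by
    exact_mod_cast hsumk2
  have he0 : (0 : ℤ) ≤ e₀ := by positivity
  have hpos : (0 : ℤ) < (e₀ : ℤ) ^ 2 + e₀ + 1 := by positivity
  have := mul_le_mul_of_nonneg_left h2z hpos.le
  nlinarith

theorem charDegree_oG : charDegree (oG G : G → ℂ) = 1 := by
  simp [charDegree, oG]

open scoped Classical in
/-- The core of the Brauer--Leonard theorem. -/
theorem main_core (h : UC P) (hH : NoProper P) (χ : IrrCharacter G)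
    (hχ1 : (χ : G → ℂ) ≠ fun _ => 1)
    (hdeg : charDegree (χ : G → ℂ) ^ 2 + 1 < Nat.card (P : Subgroup G)) :
    Nat.card (Nn P) = Nat.card (Cc P) ∧ charDegree (χ : G → ℂ) = 1 := by
  obtain ⟨e₀, he₀'⟩ := Subgroup.card_dvd_of_le (Cc_le_Nn (P := P))
  have he₀ : Nat.card (Nn P) = e₀ * Nat.card (Cc P) := by rw [he₀', mul_comm]
  have hN0 : 0 < Nat.card (Nn P) := Nat.card_pos
  have hC0 : 0 < Nat.card (Cc P) := Nat.card_pos
  have he₀pos : 1 ≤ e₀ := by
    rcases Nat.eq_zero_or_pos e₀ with h0 | h0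
    · rw [h0, zero_mul] at he₀; omega
    · exact h0
  obtain ⟨hx, hxpos⟩ := irr_one_eq χ
  set x := charDegree (χ : G → ℂ) with hxdef
  set q := Nat.card (P : Subgroup G) with hqdef
  have hχchar := IsIrrCharacter.isCharacter χ.2
  -- multiplicities for all irreducible characters
  have hall := fun φ : IrrCharacter G => exists_mult (P := P) (IsIrrCharacter.isCharacter φ.2)
  choose mm hmmC hmmN hmmI using hall
  obtain ⟨hσχ, he₀x⟩ := chi_sigma h hH e₀ he₀ χ hχ1 hdeg (mm χ) (hmmC χ) (hmmN χ)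
  -- the character ψ = χ χ̄
  set ψ : G → ℂ := (χ : G → ℂ) * (fun g => conj ((χ : G → ℂ) g)) with hψdef
  have hψ : IsCharacter G ψ :=
    isCharacter_mul hχchar (Cfsg.Agent.Helper3.isCharacter_conj hχchar)
  have hψapp : ∀ g, ψ g = (χ : G → ℂ) g * conj ((χ : G → ℂ) g) := fun g => rfl
  have he1 : e₀ = 1 := by
    by_contra hne
    have he2 : 2 ≤ e₀ := by omega
    obtain ⟨c, hc⟩ := exists_nat_decomp hψ
    -- multiplicity of the trivial character
    have hc1 : c (oG G) = 1 := by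
      have h1 : classInner ψ (oG G : G → ℂ) = (c (oG G) : ℂ) := by
        rw [hc]; exact classInner_nat_decomp (fun φ => (c φ : ℂ)) (oG G)
      have h2 : classInner ψ (oG G : G → ℂ) = classInner (χ : G → ℂ) (χ : G → ℂ) := by
        unfold classInner
        congr 1
        apply Finset.sum_congr rfl
        intro g _
        simp [hψapp, oG]
      rw [h2, irr_orthonormal χ.2 χ.2, if_pos rfl] at h1
      exact_mod_cast h1.symm
    -- trivial character of C in ψ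
    have hS1 : e₀ ≤ ∑ φ, c φ * mm φ (oC P) := by
      have h1 : classInner (fun c : Cc P => ψ c) (oC P : Cc P → ℂ)
          = ((∑ θ, mm χ θ ^ 2 : ℕ) : ℂ) := by
        rw [← classInner_C_self (mm χ) (hmmC χ)]
        unfold classInner
        congr 1
        apply Finset.sum_congr rfl
        intro g _
        simp [hψapp, oC]
      have h2 : classInner (fun c : Cc P => ψ c) (oC P : Cc P → ℂ)
          = ((∑ φ, c φ * mm φ (oC P) : ℕ) : ℂ) := by
        have hfun : (fun c' : Cc P => ψ c')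
            = ∑ φ : IrrCharacter G, (c φ : ℂ) • (fun c' : Cc P => (φ : G → ℂ) c') := by
          funext c'
          have := congrFun hc (c' : G)
          simp only [Finset.sum_apply, Pi.smul_apply, smul_eq_mul] at this ⊢
          exact this
        rw [hfun, classInner_sum_left]
        simp only [classInner_smul_left, hmmI]
        push_cast
        rfl
      have h3 : ∑ θ, mm χ θ ^ 2 = ∑ φ, c φ * mm φ (oC P) := by
        have := h1.symm.trans h2
        exact_mod_cast this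
      rw [← h3, ← hσχ]
      apply Finset.sum_le_sum
      intro θ _
      exact Nat.le_self_pow (by norm_num) _
    -- degrees
    have hS2 : ∑ φ, c φ * charDegree (φ : G → ℂ) = x ^ 2 := by
      have h1 : ψ 1 = ((x ^ 2 : ℕ) : ℂ) := by
        rw [hψapp, hx]; simp; ring
      have h2 : ψ 1 = ((∑ φ, c φ * charDegree (φ : G → ℂ) : ℕ) : ℂ) := by
        have := congrFun hc 1
        simp only [Finset.sum_apply, Pi.smul_apply, smul_eq_mul] at this
        rw [this]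
        push_cast
        apply Finset.sum_congr rfl
        intro φ _
        rw [(irr_one_eq φ).1]
      have := h1.symm.trans h2
      exact_mod_cast this.symm
    -- the trivial character contributes one to both sums
    have hatriv : mm (oG G) (oC P) = 1 := by
      have h1 := hmmI (oG G) (oC P)
      have h2 : classInner (fun c : Cc P => (oG G : G → ℂ) c) (oC P : Cc P → ℂ) = 1 := by
        have := irr_orthonormal (oC P).2 (oC P).2
        rw [if_pos rfl] at this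
        exact this
      rw [h2] at h1
      exact_mod_cast h1.symm
    rw [← Finset.add_sum_erase _ _ (Finset.mem_univ (oG G)), hc1, hatriv] at hS1
    rw [← Finset.add_sum_erase _ _ (Finset.mem_univ (oG G)), hc1, charDegree_oG] at hS2
    set T := ∑ φ ∈ Finset.univ.erase (oG G), c φ * mm φ (oC P) with hT
    set D := ∑ φ ∈ Finset.univ.erase (oG G), c φ * charDegree (φ : G → ℂ) with hD
    have hT1 : 1 ≤ T := by omega
    -- pick a constituent
    obtain ⟨φ₀, hφ₀mem, hφ₀⟩ : ∃ φ₀ ∈ Finset.univ.erase (oG G), c φ₀ * mm φ₀ (oC P) ≠ 0 := by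
      apply Finset.exists_ne_zero_of_sum_ne_zero
      omega
    have hφ₀ne : φ₀ ≠ oG G := Finset.ne_of_mem_erase hφ₀mem
    have hφ₀1 : (φ₀ : G → ℂ) ≠ fun _ => 1 := fun hh => hφ₀ne (Subtype.ext hh)
    have hcφ₀ : 1 ≤ c φ₀ := Nat.one_le_iff_ne_zero.mpr (fun h0 => hφ₀ (by rw [h0, zero_mul]))
    have haφ₀ : 1 ≤ mm φ₀ (oC P) :=
      Nat.one_le_iff_ne_zero.mpr (fun h0 => hφ₀ (by rw [h0, mul_zero]))
    obtain ⟨hF1, hF2, hF3, hF4⟩ := phi_facts h hH e₀ he₀ φ₀ hφ₀1 (mm φ₀) (hmmC φ₀) (hmmN φ₀)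
    have hdD : c φ₀ * charDegree (φ₀ : G → ℂ) ≤ D :=
      Finset.single_le_sum (f := fun φ => c φ * charDegree (φ : G → ℂ))
        (fun _ _ => Nat.zero_le _) hφ₀mem
    have hd1 : charDegree (φ₀ : G → ℂ) ≤ c φ₀ * charDegree (φ₀ : G → ℂ) :=
      Nat.le_mul_of_pos_left _ hcφ₀
    by_cases hq : (e₀ + 1) ^ 2 ≤ q
    · -- generic case
      have hbig : ∀ φ ∈ Finset.univ.erase (oG G), c φ * mm φ (oC P) ≠ 0 →
          q ≤ charDegree (φ : G → ℂ) + e₀ := by
        intro φ hφmem hφ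
        have hφne : φ ≠ oG G := Finset.ne_of_mem_erase hφmem
        have hφ1 : (φ : G → ℂ) ≠ fun _ => 1 := fun hh => hφne (Subtype.ext hh)
        have haφ : 1 ≤ mm φ (oC P) :=
          Nat.one_le_iff_ne_zero.mpr (fun h0 => hφ (by rw [h0, mul_zero]))
        obtain ⟨hG1, hG2, hG3, hG4⟩ := phi_facts h hH e₀ he₀ φ hφ1 (mm φ) (hmmC φ) (hmmN φ)
        have := generic_deg e₀ q _ _ _ hq hG2 hG3 haφ hG4
        omega
      have hq2 : 2 * e₀ < q := by nlinarith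
      have hbig₀ := hbig φ₀ hφ₀mem hφ₀
      -- c φ₀ = 1
      have hcφ₀1 : c φ₀ = 1 := by
        by_contra hne1
        have : 2 ≤ c φ₀ := by omega
        have : 2 * charDegree (φ₀ : G → ℂ) ≤ c φ₀ * charDegree (φ₀ : G → ℂ) :=
          Nat.mul_le_mul_right _ this
        omega
      -- uniqueness
      have huniq : ∀ φ ∈ Finset.univ.erase (oG G), φ ≠ φ₀ → c φ * mm φ (oC P) = 0 := by
        intro φ hφmem hφne0
        by_contra hφ
        have hbigφ := hbig φ hφmem hφ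
        have hcφ : 1 ≤ c φ := Nat.one_le_iff_ne_zero.mpr (fun h0 => hφ (by rw [h0, zero_mul]))
        have hsub : ({φ₀, φ} : Finset (IrrCharacter G)) ⊆ Finset.univ.erase (oG G) := by
          intro y hy
          rw [Finset.mem_insert, Finset.mem_singleton] at hy
          rcases hy with rfl | rfl
          · exact hφ₀mem
          · exact hφmem
        have h2 : ∑ y ∈ ({φ₀, φ} : Finset (IrrCharacter G)), c y * charDegree (y : G → ℂ) ≤ D :=
          Finset.sum_le_sum_of_subset hsub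
        rw [Finset.sum_pair (fun hh => hφne0 hh.symm)] at h2
        have h3 : charDegree (φ : G → ℂ) ≤ c φ * charDegree (φ : G → ℂ) :=
          Nat.le_mul_of_pos_left _ hcφ
        omega
      have hTa : T = mm φ₀ (oC P) := by
        rw [hT, Finset.sum_eq_single_of_mem φ₀ hφ₀mem huniq, hcφ₀1, one_mul]
      have hσbig := generic_deg e₀ q _ _ _ hq hF2 hF3 haφ₀ hF4
      have hσ3 : ∑ θ, mm φ₀ θ + 3 ≤ q := by omega
      have hae : e₀ ≤ mm φ₀ (oC P) + 1 := by omega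
      exact generic_contra e₀ q _ _ _ he2 hq hF2 hσbig hσ3 hae hF4
    · -- zone case
      push Not at hq
      have hdvd : e₀ ∣ q - 1 := by
        have h1 := card_Nn_dvd h
        rw [he₀, mul_comm e₀] at h1
        exact Nat.dvd_of_mul_dvd_mul_left hC0 h1
      obtain ⟨t, ht⟩ := hdvd
      have hq1 : 1 ≤ q := Nat.card_pos
      have hqe : e₀ ^ 2 + 1 < q := by
        have : e₀ ^ 2 ≤ x ^ 2 := Nat.pow_le_pow_left he₀x 2
        omega
      have hexp : (e₀ + 1) ^ 2 = e₀ ^ 2 + 2 * e₀ + 1 := by ring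
      have hqeq : q = e₀ ^ 2 + e₀ + 1 := by
        have e1 : e₀ * e₀ = e₀ ^ 2 := (sq e₀).symm
        have e2 : e₀ * (e₀ + 2) = e₀ ^ 2 + 2 * e₀ := by ring
        have h1 : e₀ * e₀ < e₀ * t := by omega
        have h2 : e₀ * t < e₀ * (e₀ + 2) := by omega
        have h3 : e₀ < t := Nat.lt_of_mul_lt_mul_left h1
        have h4 : t < e₀ + 2 := Nat.lt_of_mul_lt_mul_left h2
        have h5 : t = e₀ + 1 := by omega
        rw [h5] at ht
        have e3 : e₀ * (e₀ + 1) = e₀ ^ 2 + e₀ := by ring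
        omega
      have hxe : x = e₀ := by
        have h1 : x ^ 2 < (e₀ + 1) ^ 2 := by omega
        have h2 : x < e₀ + 1 := lt_of_pow_lt_pow_left₀ 2 (Nat.zero_le _) h1
        omega
      have hσ2 : ∑ θ, mm φ₀ θ + 1 ≤ e₀ ^ 2 := by
        rw [hxe] at hS2
        have : 1 ≤ e₀ ^ 2 := Nat.one_le_pow _ _ (by omega)
        omega
      obtain ⟨hσ, ha⟩ := zone_sigma e₀ q _ _ _ he2 hqeq hF2 hF3 haφ₀ hσ2 hF4
      exact zone_contra h e₀ he₀ hqeq φ₀ hφ₀1 (mm φ₀) (hmmC φ₀) hσ ha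
  subst he1
  refine ⟨by rw [he₀, one_mul], ?_⟩
  -- now the restriction to the centralizer is irreducible
  obtain ⟨θ₁, -, hθ₁⟩ : ∃ θ₁ ∈ Finset.univ, mm χ θ₁ ≠ 0 := by
    apply Finset.exists_ne_zero_of_sum_ne_zero
    rw [hσχ]; norm_num
  have hother : ∀ θ ∈ Finset.univ, θ ≠ θ₁ → mm χ θ = 0 := by
    intro θ _ hne
    have hsub : ({θ₁, θ} : Finset (IrrCharacter (Cc P))) ⊆ Finset.univ := Finset.subset_univ _
    have h2 : ∑ y ∈ ({θ₁, θ} : Finset (IrrCharacter (Cc P))), mm χ y ≤ ∑ θ, mm χ θ :=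
      Finset.sum_le_sum_of_subset hsub
    rw [Finset.sum_pair (fun hh => hne hh.symm), hσχ] at h2
    omega
  have hθ₁1 : mm χ θ₁ = 1 := by
    have := Finset.sum_eq_single_of_mem θ₁ (Finset.mem_univ _) hother
    rw [hσχ] at this
    exact this.symm
  have hχC : ∀ c : Cc P, (χ : G → ℂ) c = (θ₁ : Cc P → ℂ) c := by
    intro c
    rw [hmmC χ c, Finset.sum_eq_single_of_mem θ₁ (Finset.mem_univ _), hθ₁1]
    · simp
    · intro θ hθ hne
      rw [hother θ hθ hne]; simp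
  have hψP : ∀ u ∈ (P : Subgroup G), ψ u = ψ 1 := by
    intro u hu
    rw [hψapp, hψapp, Complex.mul_conj, Complex.mul_conj]
    have h1 := hχC ⟨u, le_Cc h hu⟩
    have h2 := hχC 1
    simp only [OneMemClass.coe_one] at h1 h2
    rw [h1, h2]
    have := normSq_mul_central h θ₁ u hu 1
    rw [one_mul] at this
    rw [this]
  have hψc := const_of_P_le_ker hH hψ hψP
  have hnorm := irr_orthonormal χ.2 χ.2
  rw [if_pos rfl] at hnorm
  unfold classInner at hnorm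
  have hsum : ∑ g : G, (χ : G → ℂ) g * conj ((χ : G → ℂ) g) = (Nat.card G : ℂ) * ((x : ℂ) * x) := by
    have : ∀ g : G, (χ : G → ℂ) g * conj ((χ : G → ℂ) g) = (x : ℂ) * x := by
      intro g
      rw [← hψapp, hψc g, hψapp, hx]; simp
    simp only [this]
    rw [Finset.sum_const, Finset.card_univ, ← Nat.card_eq_fintype_card, nsmul_eq_mul]
  rw [hsum] at hnorm
  have hG0 : (Nat.card G : ℂ) ≠ 0 := by exact_mod_cast (Nat.card_pos (α := G)).ne'
  rw [← mul_assoc, inv_mul_cancel₀ hG0, one_mul] at hnorm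
  have h2 : x * x = 1 := by exact_mod_cast hnorm
  exact Nat.eq_one_of_mul_eq_one_right h2

end main

end Cfsg.Agent.Helper15.BL
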