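import Mathlib
import Cfsg.Agent.Lib.Helper15.BLMain
import Cfsg.Agent.Lib.Helper15.LinearChar

set_option autoImplicit false
set_option linter.unusedSectionVars false
set_option linter.style.haveILetI false

namespace Cfsg.Agent.Helper15.BL

open Cfsg Cfsg.Agent.Helper81 Cfsg.Agent.Helper79
open scoped ComplexConjugate

universe u

section faithful

variable {p : ℕ} [hp : Fact p.Prime]

/-- the uniform-centralizer hypothesis passes to a subgroup containing `P` -/
theorem UC_subtype {G : Type u} [Group G] {P : Sylow p G} (h : UC P) (K : Subgroup G)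
    (hPK : (P : Subgroup G) ≤ K) : UC (P.subtype hPK) := by
  intro x hx hx1
  rw [Sylow.coe_subtype, Subgroup.mem_subgroupOf] at hx
  have hx1' : (x : G) ≠ 1 := fun hh => hx1 (Subtype.ext hh)
  have hG := h (x : G) hx hx1'
  ext k
  rw [Subgroup.mem_centralizer_iff, Subgroup.mem_centralizer_iff]
  have h1 : (k : G) ∈ Subgroup.centralizer ({(x : G)} : Set G)
      ↔ (k : G) ∈ Subgroup.centralizer ((P : Subgroup G) : Set G) := by rw [hG]
  rw [Subgroup.mem_centralizer_iff, Subgroup.mem_centralizer_iff] at h1
  constructor
  · intro hk y hy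
    have hy' : (y : G) ∈ (P : Subgroup G) := by
      have hy2 : y ∈ ((P.subtype hPK : Sylow p K) : Subgroup K) := hy
      rw [Sylow.coe_subtype, Subgroup.mem_subgroupOf] at hy2
      exact hy2
    have h2 := h1.mp (by
      intro z hz
      rw [Set.mem_singleton_iff] at hz
      subst hz
      have := hk x (Set.mem_singleton x)
      simpa using congrArg Subtype.val this) (y : G) hy'
    exact Subtype.ext (by exact_mod_cast h2)
  · intro hk y hy
    rw [Set.mem_singleton_iff] at hy
    subst hy
    have h2 := h1.mpr (by
      intro z hz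
      have hz' : (⟨z, hPK hz⟩ : K) ∈ ((P.subtype hPK : Sylow p K) : Subgroup K) := by
        rw [Sylow.coe_subtype, Subgroup.mem_subgroupOf]
        exact hz
      have := hk _ hz'
      simpa using congrArg Subtype.val this) (y : G) (Set.mem_singleton _)
    exact Subtype.ext (by exact_mod_cast h2)

theorem card_subtype {G : Type u} [Group G] {P : Sylow p G} (K : Subgroup G)
    (hPK : (P : Subgroup G) ≤ K) :
    Nat.card ((P.subtype hPK : Sylow p K) : Subgroup K) = Nat.card (P : Subgroup G) := by
  rw [Sylow.coe_subtype]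
  exact Nat.card_congr (Subgroup.subgroupOfEquivOfLe hPK).toEquiv

/-- the case where no proper normal subgroup contains `P` -/
theorem abelian_of_noProper {G : Type u} [Group G] [Finite G] {P : Sylow p G} (h : UC P)
    (hH : NoProper P) (χ : G → ℂ) (hχ : IsCharacter G χ)
    (hfaith : ∀ g : G, χ g = χ 1 → g = 1)
    (hdeg : charDegree χ ^ 2 + 1 < Nat.card (P : Subgroup G)) (a b : G) : a * b = b * a := by
  classical
  haveI : Fintype G := Fintype.ofFinite G
  haveI : Fintype (Cc P) := Fintype.ofFinite _
  haveI : Fintype (IrrCharacter (Cc P)) := @Fintype.ofFinite _ Cfsg.Agent.Helper81.irr_finite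
  haveI : Fintype (IrrCharacter G) := @Fintype.ofFinite _ Cfsg.Agent.Helper81.irr_finite
  obtain ⟨c, hc⟩ := exists_nat_decomp hχ
  have hχ1 : χ 1 = ((∑ φ, c φ * charDegree (φ : G → ℂ) : ℕ) : ℂ) := by
    have := congrFun hc 1
    simp only [Finset.sum_apply, Pi.smul_apply, smul_eq_mul] at this
    rw [this]
    push_cast
    apply Finset.sum_congr rfl
    intro φ _
    rw [(irr_one_eq φ).1]
  have hdχ : charDegree χ = ∑ φ, c φ * charDegree (φ : G → ℂ) := by
    show ⌊(χ 1).re⌋₊ = _
    rw [hχ1, Complex.natCast_re, Nat.floor_natCast]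
  have hlin : ∀ φ : IrrCharacter G, c φ ≠ 0 → (φ : G → ℂ) 1 = 1 := by
    intro φ hcφ
    by_cases hφ1 : (φ : G → ℂ) = fun _ => 1
    · rw [hφ1]
    · have hle : charDegree (φ : G → ℂ) ≤ charDegree χ := by
        rw [hdχ]
        calc charDegree (φ : G → ℂ) ≤ c φ * charDegree (φ : G → ℂ) :=
              Nat.le_mul_of_pos_left _ (Nat.pos_of_ne_zero hcφ)
          _ ≤ _ := Finset.single_le_sum (f := fun φ => c φ * charDegree (φ : G → ℂ))
              (fun _ _ => Nat.zero_le _) (Finset.mem_univ φ)
      have hdeg' : charDegree (φ : G → ℂ) ^ 2 + 1 < Nat.card (P : Subgroup G) := by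
        have := Nat.pow_le_pow_left hle 2
        omega
      obtain ⟨-, hd1⟩ := main_core h hH φ hφ1 hdeg'
      rw [(irr_one_eq φ).1, hd1]; simp
  have hcomm : χ (a * b * a⁻¹ * b⁻¹) = χ 1 := by
    have h1 := congrFun hc (a * b * a⁻¹ * b⁻¹)
    have h2 := congrFun hc 1
    simp only [Finset.sum_apply, Pi.smul_apply, smul_eq_mul] at h1 h2
    rw [h1, h2]
    apply Finset.sum_congr rfl
    intro φ _
    by_cases hcφ : c φ = 0
    · rw [hcφ]; simp
    · have hl : IsCharacter G (φ : G → ℂ) ∧ (φ : G → ℂ) 1 = 1 :=
        ⟨IsIrrCharacter.isCharacter φ.2, hlin φ hcφ⟩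
      rw [linear_char_mul _ hl, linear_char_mul _ hl, linear_char_mul _ hl,
        linear_char_inv _ hl, linear_char_inv _ hl, hl.2]
      have ha := linear_char_ne_zero _ hl a
      have hb := linear_char_ne_zero _ hl b
      field_simp
  have := hfaith _ hcomm
  calc a * b = (a * b * a⁻¹ * b⁻¹) * (b * a) := by group
    _ = b * a := by rw [this, one_mul]

/-- Brauer--Leonard: a faithful character of small degree forces a normal Sylow subgroup. -/
theorem normal_of_faithful : ∀ (k : ℕ) (G : Type u) [Group G] [Finite G] (P : Sylow p G),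
    Nat.card G = k → UC P → ∀ (χ : G → ℂ), IsCharacter G χ → (∀ g : G, χ g = χ 1 → g = 1) →
    charDegree χ ^ 2 + 1 < Nat.card (P : Subgroup G) → (P : Subgroup G).Normal := by
  intro k
  induction k using Nat.strong_induction_on with
  | _ k ih =>
    intro G _ _ P hk h χ hχ hfaith hdeg
    by_cases hK : ∃ K : Subgroup G, K.Normal ∧ K ≠ ⊤ ∧ (P : Subgroup G) ≤ K
    · obtain ⟨K, hKn, hKtop, hPK⟩ := hK
      have hcard : Nat.card K < k := by
        rw [← hk]
        apply lt_of_le_of_ne (Subgroup.card_le_card_group K)
        intro heq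
        exact hKtop (Subgroup.eq_top_of_card_eq K heq)
      have hχK : IsCharacter K (fun x : K => χ x) := isCharacter_restrict K hχ
      have hfK : ∀ g : K, (fun x : K => χ x) g = (fun x : K => χ x) 1 → g = 1 := by
        intro g hg
        apply Subtype.ext
        exact hfaith _ (by simpa using hg)
      have hdK : charDegree (fun x : K => χ x) ^ 2 + 1
          < Nat.card ((P.subtype hPK : Sylow p K) : Subgroup K) := by
        rw [card_subtype K hPK]
        have : charDegree (fun x : K => χ x) = charDegree χ := by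
          simp [charDegree]
        rw [this]; exact hdeg
      have hnorm := ih (Nat.card K) hcard K (P.subtype hPK) rfl (UC_subtype h K hPK)
        (fun x : K => χ x) hχK hfK hdK
      haveI := hKn
      haveI : ((P.subtype hPK : Sylow p K) : Subgroup K).Characteristic :=
        Sylow.characteristic_of_normal _ hnorm
      have h2 : ((((P.subtype hPK : Sylow p K) : Subgroup K)).map K.subtype).Normal :=
        ConjAct.normal_of_characteristic_of_normal
      rw [Sylow.coe_subtype, Subgroup.subgroupOf_map_subtype, inf_eq_left.mpr hPK] at h2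
      exact h2
    · have hH : NoProper P := by
        intro K hKn hPK
        by_contra hne
        exact hK ⟨K, hKn, hne, hPK⟩
      have hab := abelian_of_noProper h hH χ hχ hfaith hdeg
      constructor
      intro n hn g
      have : g * n * g⁻¹ = n := by rw [hab g n, mul_inv_cancel_right]
      rw [this]; exact hn

end faithful

end Cfsg.Agent.Helper15.BL
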