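import Mathlib
import Cfsg.Prelude.Def_Characters

set_option autoImplicit false

namespace Cfsg.Agent.Helper15

open Cfsg MulAction

universe u v

section Basic

variable {G : Type u} [Group G]

theorem extendByZero_one_apply (U : Subgroup G) [DecidablePred (· ∈ U)] (y : G) :
    extendByZero U (fun _ => (1 : ℂ)) y = if y ∈ U then 1 else 0 := by
  unfold extendByZero
  split_ifs with h
  · exact Subtype.val_injective.extend_apply (fun _ : U => (1 : ℂ)) 0 ⟨y, h⟩
  · rw [Function.extend_apply']
    · rfl
    · rintro ⟨a, rfl⟩
      exact h a.2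

/-- the induced trivial character counts the conjugates lying in the subgroup -/
theorem indFun_one_apply [Fintype G] (U : Subgroup G) (g : G) :
    indFun U (fun _ => (1 : ℂ)) g =
      (Nat.card U : ℂ)⁻¹ * (Nat.card {z : G // z⁻¹ * g * z ∈ U} : ℂ) := by
  classical
  unfold indFun
  congr 1
  simp_rw [extendByZero_one_apply]
  rw [Finset.sum_boole, Nat.card_eq_fintype_card, Fintype.card_subtype]

end Basic

section Action

variable {G : Type u} [Group G] {X : Type v} [MulAction G X]

/-- a section of the orbit map -/
noncomputable def orbSec (x : X) (y : orbit G x) : G := Classical.choose y.2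

theorem orbSec_smul (x : X) (y : orbit G x) : (orbSec x y : G) • x = (y : X) :=
  Classical.choose_spec y.2

/-- the elements of `G` moving `x` to a `g`-fixed point, as a product -/
noncomputable def fixEquiv (x : X) (g : G) :
    {z : G // g • z • x = z • x} ≃ {y : orbit G x // g • (y : X) = y} × stabilizer G x where
  toFun z := (⟨⟨z.1 • x, mem_orbit x z.1⟩, z.2⟩,
    ⟨(orbSec x ⟨z.1 • x, mem_orbit x z.1⟩)⁻¹ * z.1, by
      rw [mem_stabilizer_iff, mul_smul, inv_smul_eq_iff, orbSec_smul]⟩)
  invFun p := ⟨orbSec x p.1.1 * p.2.1, by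
    have h2 : (p.2.1 : G) • x = x := p.2.2
    rw [mul_smul, h2, orbSec_smul]
    exact p.1.2⟩
  left_inv z := by
    apply Subtype.ext
    simp
  right_inv p := by
    obtain ⟨⟨y, hy⟩, s, hs⟩ := p
    have hs' : s • x = x := hs
    have h1 : (orbSec x y * s) • x = (y : X) := by rw [mul_smul, hs', orbSec_smul]
    have h2 : (⟨(orbSec x y * s) • x, mem_orbit x _⟩ : orbit G x) = y := Subtype.ext h1
    apply Prod.ext
    · apply Subtype.ext
      exact h2
    · apply Subtype.ext
      simp only
      rw [h2]
      group

/-- the induced trivial character of a point stabilizer counts fixed points in the orbit -/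
theorem indFun_stabilizer [Fintype G] (x : X) (U : Subgroup G) (hU : stabilizer G x = U) (g : G) :
    indFun U (fun _ => (1 : ℂ)) g = (Nat.card {y : orbit G x // g • (y : X) = y} : ℂ) := by
  subst hU
  rw [indFun_one_apply]
  have h1 : Nat.card {z : G // z⁻¹ * g * z ∈ stabilizer G x} =
      Nat.card {y : orbit G x // g • (y : X) = y} * Nat.card (stabilizer G x) := by
    rw [← Nat.card_prod]
    refine Nat.card_congr ((Equiv.subtypeEquivRight ?_).trans (fixEquiv x g))
    intro z
    rw [mem_stabilizer_iff, mul_smul, mul_smul, inv_smul_eq_iff]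
  rw [h1]
  have h0 : (Nat.card (stabilizer G x) : ℂ) ≠ 0 := by
    have : Nat.card (stabilizer G x) ≠ 0 := Nat.card_pos.ne'
    exact_mod_cast this
  push_cast
  field_simp

/-- the induced trivial character is the permutation character on the cosets -/
theorem indFun_one_eq_card_fixed [Fintype G] (H : Subgroup G) (g : G) :
    indFun H (fun _ => (1 : ℂ)) g = (Nat.card {q : G ⧸ H // g • q = q} : ℂ) := by
  rw [indFun_stabilizer ((1 : G) : G ⧸ H) H (stabilizer_quotient H) g]
  congr 1
  refine Nat.card_congr ?_
  refine Equiv.subtypeEquiv (Equiv.subtypeUnivEquiv ?_) ?_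
  · intro q
    rw [orbit_eq_univ]
    trivial
  · intro y
    rfl

/-- fixed points decompose along orbits -/
theorem card_fixed_eq_sum_orbits [Finite X] [Fintype (orbitRel.Quotient G X)] (g : G)
    (rep : orbitRel.Quotient G X → X)
    (hrep : ∀ ω, (Quotient.mk'' (rep ω) : orbitRel.Quotient G X) = ω) :
    Nat.card {p : X // g • p = p} =
      ∑ ω : orbitRel.Quotient G X, Nat.card {y : orbit G (rep ω) // g • (y : X) = y} := by
  rw [← Nat.card_sigma]
  refine Nat.card_congr ?_
  refine (Equiv.sigmaFiberEquiv
    (fun p : {p : X // g • p = p} => (Quotient.mk'' p.1 : orbitRel.Quotient G X))).symm.trans ?_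
  refine Equiv.sigmaCongrRight fun ω => ?_
  refine (Equiv.subtypeSubtypeEquivSubtypeInter (fun p : X => g • p = p)
    (fun p : X => (Quotient.mk'' p : orbitRel.Quotient G X) = ω)).trans ?_
  refine Equiv.trans ?_ (Equiv.subtypeSubtypeEquivSubtypeInter (fun y : X => y ∈ orbit G (rep ω))
    (fun y : X => g • y = y)).symm
  refine Equiv.subtypeEquivRight fun p => ?_
  rw [and_comm]
  refine and_congr_left' ?_
  conv_lhs => rw [← hrep ω]
  rw [Quotient.eq'']
  exact orbitRel_apply

end Action

end Cfsg.Agent.Helper15
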