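import Mathlib
import Cfsg.Prelude.Def_Characters
import Cfsg.Agent.Lib.Helper15.PermChar

set_option autoImplicit false

namespace Cfsg.Agent.Helper15

open Cfsg MulAction

universe u

variable {G : Type u} [Group G]

/-- `H` is `p`-quasi-elementary: it has a cyclic normal subgroup of order prime to `p` and of
`p`-power index -/
def IsQE (p : ℕ) (H : Subgroup G) : Prop :=
  ∃ C : Subgroup G, C ≤ H ∧ H ≤ Subgroup.normalizer (C : Set G) ∧ IsCyclic C ∧
    Nat.Coprime (Nat.card C) p ∧ ∃ k : ℕ, C.relIndex H = p ^ k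

theorem IsQE.mono {p : ℕ} (hp : p.Prime) {H U : Subgroup G} (hH : IsQE p H) (hU : U ≤ H) :
    IsQE p U := by
  obtain ⟨C, hCH, hHN, hcyc, hcop, k, hk⟩ := hH
  refine ⟨C ⊓ U, inf_le_right, ?_, ?_, ?_, ?_⟩
  · intro u hu
    rw [Subgroup.mem_normalizer_iff]
    intro h
    have huN := hHN (hU hu)
    rw [Subgroup.mem_normalizer_iff] at huN
    rw [Subgroup.mem_inf, Subgroup.mem_inf, ← huN h]
    constructor
    · rintro ⟨h1, h2⟩
      exact ⟨h1, U.mul_mem (U.mul_mem hu h2) (U.inv_mem hu)⟩
    · rintro ⟨h1, h2⟩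
      refine ⟨h1, ?_⟩
      have := U.mul_mem (U.mul_mem (U.inv_mem hu) h2) hu
      simpa [mul_assoc] using this
  · have := hcyc
    exact isCyclic_of_injective (Subgroup.inclusion (inf_le_left : C ⊓ U ≤ C))
      (Subgroup.inclusion_injective _)
  · exact Nat.Coprime.coprime_dvd_left (Subgroup.card_dvd_of_le inf_le_left) hcop
  · rw [Subgroup.inf_relIndex_right]
    have hnorm : (C.subgroupOf H).Normal := Subgroup.normal_subgroupOf_of_le_normalizer hHN
    have hdvd : (C.subgroupOf H).relIndex (U.subgroupOf H) ∣ (C.subgroupOf H).index :=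
      Subgroup.relIndex_dvd_index_of_normal _ _
    rw [Subgroup.relIndex_subgroupOf hU] at hdvd
    have hk' : (C.subgroupOf H).index = p ^ k := hk
    rw [hk'] at hdvd
    obtain ⟨j, -, hj⟩ := (Nat.dvd_prime_pow hp).mp hdvd
    exact ⟨j, hj⟩

section Construction

/-- the normalizer of `C` -/
abbrev normC (C : Subgroup G) : Subgroup G := Subgroup.normalizer (C : Set G)

/-- the quotient `N(C)/C` -/
abbrev quotC (C : Subgroup G) : Type u := (normC C) ⧸ C.subgroupOf (normC C)

variable (p : ℕ) (C : Subgroup G)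

/-- the preimage in `G` of a Sylow `p`-subgroup of `N(C)/C` -/
noncomputable def qeSub (S : Sylow p (quotC C)) : Subgroup G :=
  ((S : Subgroup (quotC C)).comap (QuotientGroup.mk' (C.subgroupOf (normC C)))).map (normC C).subtype

variable {p C}
variable (S : Sylow p (quotC C))

theorem le_qeSub : C ≤ qeSub p C S := by
  intro h hh
  refine ⟨⟨h, Subgroup.le_normalizer hh⟩, ?_, rfl⟩
  rw [SetLike.mem_coe, Subgroup.mem_comap]
  have : (QuotientGroup.mk' (C.subgroupOf (normC C))) ⟨h, Subgroup.le_normalizer hh⟩ = 1 := by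
    rw [QuotientGroup.mk'_apply, QuotientGroup.eq_one_iff]
    exact hh
  rw [this]
  exact Subgroup.one_mem _

theorem qeSub_le : qeSub p C S ≤ Subgroup.normalizer (C : Set G) :=
  Subgroup.map_subtype_le _

theorem relIndex_qeSub : C.relIndex (qeSub p C S) = Nat.card S := by
  unfold qeSub
  rw [← Subgroup.relIndex_comap]
  have h1 : Subgroup.comap (normC C).subtype C =
      (⊥ : Subgroup (quotC C)).comap (QuotientGroup.mk' (C.subgroupOf (normC C))) := by
    ext x
    rw [Subgroup.mem_comap, Subgroup.mem_comap, Subgroup.mem_bot, QuotientGroup.mk'_apply,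
      QuotientGroup.eq_one_iff, Subgroup.mem_subgroupOf]
    rfl
  rw [h1, Subgroup.relIndex_comap,
    Subgroup.map_comap_eq_self_of_surjective (QuotientGroup.mk'_surjective _),
    Subgroup.relIndex_bot_left]

theorem card_qeSub_mul_index :
    Nat.card (qeSub p C S) * (S : Subgroup (quotC C)).index = Nat.card (normC C) := by
  unfold qeSub
  rw [Subgroup.card_map_of_injective (Subgroup.subtype_injective _),
    ← Subgroup.index_comap_of_surjective (S : Subgroup (quotC C)) (QuotientGroup.mk'_surjective _),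
    Subgroup.card_mul_index]

/-- elements of `p'`-order of the quasi-elementary subgroup lie in `C` -/
theorem mem_of_mem_qeSub_of_coprime {h : G} (hh : h ∈ qeSub p C S)
    (hcop : Nat.Coprime (orderOf h) p) : h ∈ C := by
  obtain ⟨h', hh', rfl⟩ := hh
  rw [SetLike.mem_coe, Subgroup.mem_comap] at hh'
  set q := (QuotientGroup.mk' (C.subgroupOf (normC C))) h' with hq
  obtain ⟨j, hj⟩ := S.isPGroup' ⟨q, hh'⟩
  have hj' : q ^ (p ^ j) = 1 := by
    have := congrArg Subtype.val hj
    simpa using this
  have h1 : q ^ (orderOf ((normC C).subtype h')) = 1 := by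
    rw [hq, ← map_pow]
    have : h' ^ (orderOf ((normC C).subtype h')) = 1 := by
      apply Subtype.ext
      rw [Subgroup.coe_pow]
      exact pow_orderOf_eq_one _
    rw [this, map_one]
  have hd1 : orderOf q ∣ p ^ j := orderOf_dvd_of_pow_eq_one hj'
  have hd2 : orderOf q ∣ orderOf ((normC C).subtype h') := orderOf_dvd_of_pow_eq_one h1
  have hone : orderOf q = 1 := by
    have hc : Nat.Coprime (orderOf q) (orderOf q) :=
      Nat.Coprime.coprime_dvd_left hd2
        (Nat.Coprime.coprime_dvd_right hd1 (Nat.Coprime.pow_right j hcop))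
    exact (Nat.coprime_self _).mp hc
  rw [orderOf_eq_one_iff, hq, QuotientGroup.mk'_apply, QuotientGroup.eq_one_iff] at hone
  exact hone

end Construction


section Main

variable [Fintype G]

/-- conjugates of a generator of `C` lying in the quasi-elementary subgroup come from `N(C)` -/
theorem conj_mem_qeSub_iff {p : ℕ} (c : G) (hc : Nat.Coprime (orderOf c) p)
    (S : Sylow p (quotC (Subgroup.zpowers c))) (z : G) :
    z⁻¹ * c * z ∈ qeSub p (Subgroup.zpowers c) S ↔ z ∈ normC (Subgroup.zpowers c) := by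
  constructor
  · intro hz
    have hord : orderOf (z⁻¹ * c * z) = orderOf c := by
      have := orderOf_injective (MulAut.conj z⁻¹).toMonoidHom (MulAut.conj z⁻¹).injective c
      simpa [MulAut.conj_apply] using this
    have hd : z⁻¹ * c * z ∈ Subgroup.zpowers c :=
      mem_of_mem_qeSub_of_coprime S hz (by rw [hord]; exact hc)
    have hle : Subgroup.zpowers (z⁻¹ * c * z) ≤ Subgroup.zpowers c :=
      (Subgroup.zpowers_le).mpr hd
    have heq : Subgroup.zpowers (z⁻¹ * c * z) = Subgroup.zpowers c := by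
      apply Subgroup.eq_of_le_of_card_ge hle
      rw [Nat.card_zpowers, Nat.card_zpowers, hord]
    have hconj : ∀ i : ℤ, (z⁻¹ * c * z) ^ i = z⁻¹ * c ^ i * z := by
      intro i
      have := conj_zpow (i := i) (a := z⁻¹) (b := c)
      simpa using this
    show z ∈ Subgroup.normalizer ((Subgroup.zpowers c : Subgroup G) : Set G)
    rw [Subgroup.mem_normalizer_iff'']
    intro h
    constructor
    · intro hh
      obtain ⟨i, rfl⟩ := Subgroup.mem_zpowers_iff.mp hh
      rw [← hconj, ← heq]
      exact Subgroup.zpow_mem_zpowers _ i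
    · intro hh
      rw [← heq] at hh
      obtain ⟨i, hi⟩ := Subgroup.mem_zpowers_iff.mp hh
      rw [hconj] at hi
      have : h = c ^ i := by
        have := congrArg (fun y => z * y * z⁻¹) hi
        simp only [mul_assoc, mul_inv_cancel_left, mul_inv_cancel, mul_one] at this
        exact this.symm
      rw [this]
      exact Subgroup.zpow_mem_zpowers _ i
  · intro hz
    have hz' : z ∈ Subgroup.normalizer ((Subgroup.zpowers c : Subgroup G) : Set G) := hz
    rw [Subgroup.mem_normalizer_iff''] at hz'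
    exact le_qeSub S ((hz' c).mp (Subgroup.mem_zpowers c))

/-- the number of cosets of the quasi-elementary subgroup fixed by the generator of `C` -/
theorem card_fixed_generator {p : ℕ} (c : G) (hc : Nat.Coprime (orderOf c) p)
    (S : Sylow p (quotC (Subgroup.zpowers c))) :
    Nat.card {q : G ⧸ qeSub p (Subgroup.zpowers c) S // c • q = q} =
      (S : Subgroup (quotC (Subgroup.zpowers c))).index := by
  have h1 := indFun_one_eq_card_fixed (qeSub p (Subgroup.zpowers c) S) c
  rw [indFun_one_apply] at h1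
  have h2 : Nat.card {z : G // z⁻¹ * c * z ∈ qeSub p (Subgroup.zpowers c) S} =
      Nat.card (normC (Subgroup.zpowers c)) :=
    Nat.card_congr (Equiv.subtypeEquivRight (conj_mem_qeSub_iff c hc S))
  rw [h2, ← card_qeSub_mul_index S] at h1
  have h0 : (Nat.card (qeSub p (Subgroup.zpowers c) S) : ℂ) ≠ 0 := by
    have : Nat.card (qeSub p (Subgroup.zpowers c) S) ≠ 0 := Nat.card_pos.ne'
    exact_mod_cast this
  push_cast at h1
  rw [← mul_assoc, inv_mul_cancel₀ h0, one_mul] at h1
  exact_mod_cast h1.symm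


/-- fixed points of `c` form a sub-action for a subgroup commuting with `c` -/
def fixSub (H P : Subgroup G) (c : G) (hcomm : ∀ g ∈ P, g * c = c * g) :
    SubMulAction P (G ⧸ H) where
  carrier := {q | c • q = q}
  smul_mem' := by
    intro g q hq
    show c • ((g : G) • q) = (g : G) • q
    rw [← mul_smul, ← hcomm g g.2, mul_smul]
    have hq' : c • q = q := hq
    rw [hq']

/-- For every element `x` and prime `p` there is a `p`-quasi-elementary subgroup whose
permutation character does not vanish mod `p` at `x`. -/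
theorem exists_isQE_not_dvd (x : G) (p : ℕ) [hpf : Fact p.Prime] :
    ∃ H : Subgroup G, IsQE p H ∧
      ∃ n : ℕ, indFun H (fun _ => (1 : ℂ)) x = (n : ℂ) ∧ ¬ p ∣ n := by
  classical
  have hp : p.Prime := hpf.out
  have ho0 : orderOf x ≠ 0 := (orderOf_pos x).ne'
  obtain ⟨a, m, hom, hcop⟩ : ∃ a m : ℕ, p ^ a * m = orderOf x ∧ Nat.Coprime p m :=
    ⟨(orderOf x).factorization p, orderOf x / p ^ (orderOf x).factorization p,
      Nat.ordProj_mul_ordCompl_eq_self (orderOf x) p, Nat.coprime_ordCompl hp ho0⟩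
  have hordc : orderOf (x ^ (p ^ a)) = m := by
    rw [orderOf_pow' x (pow_ne_zero a hp.ne_zero), Nat.gcd_eq_right (Dvd.intro _ hom), ← hom,
      Nat.mul_div_cancel_left m (pow_pos hp.pos a)]
  have hupow : (x ^ m) ^ (p ^ a) = 1 := by
    rw [← pow_mul, mul_comm, hom]
    exact pow_orderOf_eq_one x
  obtain ⟨s, t, hx⟩ : ∃ s t : ℤ, x = (x ^ (p ^ a)) ^ s * (x ^ m) ^ t := by
    have hg : Nat.gcd (p ^ a) m = 1 := Nat.Coprime.pow_left a hcop
    have hb := Nat.gcd_eq_gcd_ab (p ^ a) m
    rw [hg] at hb
    refine ⟨Nat.gcdA (p ^ a) m, Nat.gcdB (p ^ a) m, ?_⟩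
    rw [← zpow_natCast, ← zpow_natCast, ← zpow_mul, ← zpow_mul, ← zpow_add, ← hb]
    simp
  set c := x ^ (p ^ a) with hc
  set u := x ^ m with hu
  have hcc : Nat.Coprime (orderOf c) p := by rw [hordc]; exact hcop.symm
  obtain ⟨S⟩ : Nonempty (Sylow p (quotC (Subgroup.zpowers c))) := inferInstance
  refine ⟨qeSub p (Subgroup.zpowers c) S,
    ⟨Subgroup.zpowers c, le_qeSub S, qeSub_le S, inferInstance, ?_, ?_⟩, ?_⟩
  · rw [Nat.card_zpowers]
    exact hcc
  · obtain ⟨k, hk⟩ := IsPGroup.iff_card.mp S.isPGroup'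
    exact ⟨k, by rw [relIndex_qeSub, hk]⟩
  · set H := qeSub p (Subgroup.zpowers c) S with hH
    refine ⟨Nat.card {q : G ⧸ H // x • q = q}, indFun_one_eq_card_fixed H x, ?_⟩
    -- the p-group generated by u
    have hP : IsPGroup p (Subgroup.zpowers u) := by
      rintro ⟨g, hg⟩
      obtain ⟨i, rfl⟩ := Subgroup.mem_zpowers_iff.mp hg
      refine ⟨a, ?_⟩
      apply Subtype.ext
      rw [Subgroup.coe_pow, Subgroup.coe_one]
      show (u ^ i) ^ (p ^ a) = 1
      rw [← zpow_natCast, ← zpow_mul, mul_comm, zpow_mul, zpow_natCast, hupow, one_zpow]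
    have hcomm : ∀ g ∈ Subgroup.zpowers u, g * c = c * g := by
      intro g hg
      obtain ⟨i, rfl⟩ := Subgroup.mem_zpowers_iff.mp hg
      exact (((Commute.refl x).pow_pow m (p ^ a)).zpow_left i).eq
    let Ω := fixSub H (Subgroup.zpowers u) c hcomm
    have hmod := hP.card_modEq_card_fixedPoints Ω
    have hΩ : Nat.card Ω = (S : Subgroup (quotC (Subgroup.zpowers c))).index :=
      card_fixed_generator c hcc S
    have hfix : Nat.card (fixedPoints (Subgroup.zpowers u) Ω) =
        Nat.card {q : G ⧸ H // x • q = q} := by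
      refine Nat.card_congr ?_
      refine
        { toFun := fun ω => ⟨ω.1.1, ?_⟩
          invFun := fun q => ⟨⟨q.1, ?_⟩, ?_⟩
          left_inv := fun ω => rfl
          right_inv := fun q => rfl }
      · -- fixed by c and u, hence by x
        have h1 : c ∈ stabilizer G (ω.1.1 : G ⧸ H) := ω.1.2
        have h2 : u ∈ stabilizer G (ω.1.1 : G ⧸ H) := by
          have := ω.2 ⟨u, Subgroup.mem_zpowers u⟩
          exact congrArg Subtype.val this
        have h3 : x ∈ stabilizer G (ω.1.1 : G ⧸ H) := by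
          rw [hx]
          exact Subgroup.mul_mem _ (Subgroup.zpow_mem _ h1 s) (Subgroup.zpow_mem _ h2 t)
        exact h3
      · have h3 : x ∈ stabilizer G (q.1 : G ⧸ H) := q.2
        have h1 : c ∈ stabilizer G (q.1 : G ⧸ H) := Subgroup.pow_mem _ h3 _
        exact h1
      · intro g
        apply Subtype.ext
        have h3 : x ∈ stabilizer G (q.1 : G ⧸ H) := q.2
        have h2 : Subgroup.zpowers u ≤ stabilizer G (q.1 : G ⧸ H) :=
          (Subgroup.zpowers_le).mpr (Subgroup.pow_mem _ h3 _)
        exact h2 g.2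
    rw [hΩ, hfix] at hmod
    intro hdvd
    have h0 : (S : Subgroup (quotC (Subgroup.zpowers c))).index % p = 0 := by
      rw [hmod]
      exact Nat.mod_eq_zero_of_dvd hdvd
    exact S.not_dvd_index (Nat.dvd_of_mod_eq_zero h0)

end Main

end Cfsg.Agent.Helper15
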