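import Mathlib
import Cfsg.Prelude.Def_Characters
import Cfsg.Agent.Lib.Helper3.CharArtin
import Cfsg.Agent.Lib.Helper3.CharNilpotent
import Cfsg.Agent.Lib.Helper81.CharCorr
import Cfsg.Agent.Lib.Helper81.CharProd
import Cfsg.Agent.Lib.Helper15.QuasiElem
import Cfsg.Agent.Lib.Helper15.Central
import Cfsg.Agent.Lib.Helper3.Spectral
import Cfsg.Agent.Lib.Helper77.CentralChar
import Cfsg.Agent.S0873

set_option autoImplicit false

namespace Cfsg.Agent.Helper15

open Cfsg

universe u

section ElemComb

variable {H : Type u} [Group H] [Fintype H]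

/-- ℤ-combinations of characters induced from `p`-elementary subgroups -/
def ElemComb (p : ℕ) (f : H → ℂ) : Prop :=
  ∃ l : List ((E : Subgroup H) × ((E → ℂ) × ℤ)),
    (∀ t ∈ l, IsElementary p t.1 ∧ IsCharacter t.1 t.2.1) ∧
    f = (l.map fun t => (t.2.2 : ℂ) • indFun t.1 t.2.1).sum

variable {p : ℕ}

theorem ElemComb.zero : ElemComb p (0 : H → ℂ) := ⟨[], by simp, by simp⟩

theorem ElemComb.add {f g : H → ℂ} (hf : ElemComb p f) (hg : ElemComb p g) :
    ElemComb p (f + g) := by
  obtain ⟨l₁, h₁, rfl⟩ := hf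
  obtain ⟨l₂, h₂, rfl⟩ := hg
  refine ⟨l₁ ++ l₂, ?_, ?_⟩
  · intro t ht
    rcases List.mem_append.mp ht with h | h
    · exact h₁ t h
    · exact h₂ t h
  · rw [List.map_append, List.sum_append]

theorem ElemComb.sum {ι : Type*} (s : Finset ι) (f : ι → H → ℂ)
    (h : ∀ i ∈ s, ElemComb p (f i)) : ElemComb p (∑ i ∈ s, f i) := by
  classical
  induction s using Finset.induction_on with
  | empty => simpa using ElemComb.zero
  | insert a s ha ih =>
    rw [Finset.sum_insert ha]
    exact ElemComb.add (h a (Finset.mem_insert_self a s))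
      (ih (fun i hi => h i (Finset.mem_insert_of_mem hi)))

theorem ElemComb.zsmul {f : H → ℂ} (z : ℤ) (hf : ElemComb p f) : ElemComb p ((z : ℂ) • f) := by
  obtain ⟨l, h, rfl⟩ := hf
  refine ⟨l.map (fun t => ⟨t.1, (t.2.1, z * t.2.2)⟩), ?_, ?_⟩
  · intro t ht
    obtain ⟨s, hs, rfl⟩ := List.mem_map.mp ht
    exact h s hs
  · rw [List.smul_sum, List.map_map, List.map_map]
    congr 1
    apply List.map_congr_left
    intro t _
    simp only [Function.comp_apply, Int.cast_mul, smul_smul]

theorem ElemComb.neg {f : H → ℂ} (hf : ElemComb p f) : ElemComb p (-f) := by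
  have := ElemComb.zsmul (-1) hf
  simpa using this

theorem ElemComb.sub {f g : H → ℂ} (hf : ElemComb p f) (hg : ElemComb p g) :
    ElemComb p (f - g) := by
  rw [sub_eq_add_neg]
  exact hf.add hg.neg

theorem ElemComb.single (E : Subgroup H) (hE : IsElementary p E) {φ : E → ℂ}
    (hφ : IsCharacter E φ) : ElemComb p (indFun E φ) :=
  ⟨[⟨E, (φ, 1)⟩], by simpa using ⟨hE, hφ⟩, by simp⟩

theorem ElemComb.mul_char {f ψ : H → ℂ} (hf : ElemComb p f) (hψ : IsCharacter H ψ) :
    ElemComb p (f * ψ) := by
  obtain ⟨l, hl, rfl⟩ := hf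
  induction l with
  | nil => simpa using ElemComb.zero
  | cons t l ih =>
    rw [List.map_cons, List.sum_cons, add_mul]
    apply ElemComb.add
    · have h1 : ((t.2.2 : ℂ) • indFun t.1 t.2.1) * ψ = (t.2.2 : ℂ) • (indFun t.1 t.2.1 * ψ) :=
        smul_mul_assoc _ _ _
      rw [h1]
      apply ElemComb.zsmul
      rw [← Cfsg.Agent.Helper81.indFun_mul_restrict t.1 t.2.1
        (Cfsg.Agent.Helper81.isClassFunction_of_isCharacter hψ)]
      apply ElemComb.single t.1 (hl t List.mem_cons_self).1
      exact Cfsg.Agent.Helper81.isCharacter_mul (hl t List.mem_cons_self).2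
        (Cfsg.Agent.Helper81.isCharacter_restrict t.1 hψ)
    · exact ih (fun s hs => hl s (List.mem_cons_of_mem _ hs))

end ElemComb

section Transport

variable {H : Type u} [Group H]

theorem isElementary_of_mulEquiv {p : ℕ} {E E' : Type u} [Group E] [Group E'] (e : E ≃* E')
    (h : IsElementary p E) : IsElementary p E' := by
  obtain ⟨x, hx, hcop, k, hk⟩ := h
  refine ⟨e x, ?_, ?_, k, ?_⟩
  · rw [Subgroup.mem_center_iff] at hx ⊢
    intro y
    obtain ⟨y', rfl⟩ := e.surjective y
    rw [← map_mul, ← map_mul, hx y']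
  · rw [MulEquiv.orderOf_eq]
    exact hcop
  · have : Subgroup.zpowers (e x) = (Subgroup.zpowers x).map e.toMonoidHom := by
      rw [MonoidHom.map_zpowers]
      rfl
    rw [this]
    exact (Subgroup.index_map_of_bijective e.bijective _).trans hk

variable [Fintype H]

/-- transitivity of induction, upward form -/
theorem indFun_indFun (T : Subgroup H) [Fintype T] (E' : Subgroup T) (φ : E' → ℂ) :
    indFun T (indFun E' φ) = indFun (E'.map T.subtype)
      (fun x => φ ((E'.equivMapOfInjective T.subtype T.subtype_injective).symm x)) := by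
  set e := E'.equivMapOfInjective T.subtype T.subtype_injective with he
  have hle : E'.map T.subtype ≤ T := by
    rintro _ ⟨x, _, rfl⟩
    exact x.2
  rw [← Cfsg.Agent.Helper3.indFun_trans (E'.map T.subtype) T hle]
  congr 1
  apply Cfsg.Agent.Helper3.indFun_congr_subgroup
  · ext x
    simp [Subgroup.mem_subgroupOf]
  · intro x h₁ h₂
    congr 1
    rw [MulEquiv.eq_symm_apply]
    apply Subtype.ext
    rfl

theorem ElemComb.induce {p : ℕ} (T : Subgroup H) [Fintype T] {f : T → ℂ} (hf : ElemComb p f) :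
    ElemComb p (indFun T f) := by
  obtain ⟨l, hl, rfl⟩ := hf
  induction l with
  | nil =>
    simp only [List.map_nil, List.sum_nil]
    rw [Cfsg.Agent.Helper3.indFun_zero]
    exact ElemComb.zero
  | cons t l ih =>
    rw [List.map_cons, List.sum_cons, Cfsg.Agent.Helper3.indFun_add,
      Cfsg.Agent.Helper3.indFun_smul]
    apply ElemComb.add
    · apply ElemComb.zsmul
      rw [indFun_indFun]
      have ht := hl t List.mem_cons_self
      apply ElemComb.single
      · exact isElementary_of_mulEquiv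
          (t.1.equivMapOfInjective T.subtype T.subtype_injective) ht.1
      · exact Cfsg.Agent.Helper81.isCharacter_comp_hom
          (t.1.equivMapOfInjective T.subtype T.subtype_injective).symm.toMonoidHom ht.2
    · exact ih (fun s hs => hl s (List.mem_cons_of_mem _ hs))

end Transport


section QEGroup

/-- a group is `p`-quasi-elementary -/
def IsQEGroup (p : ℕ) (H : Type u) [Group H] : Prop :=
  ∃ C : Subgroup H, C.Normal ∧ IsCyclic C ∧ Nat.Coprime (Nat.card C) p ∧ ∃ k : ℕ, C.index = p ^ k

theorem IsQE.toGroup {p : ℕ} {G : Type u} [Group G] {T : Subgroup G} (h : IsQE p T) :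
    IsQEGroup p T := by
  obtain ⟨C, hCT, hTN, hcyc, hcop, k, hk⟩ := h
  refine ⟨C.subgroupOf T, Subgroup.normal_subgroupOf_of_le_normalizer hTN, ?_, ?_, k, hk⟩
  · have := hcyc
    exact isCyclic_of_surjective (Subgroup.subgroupOfEquivOfLe hCT).symm.toMonoidHom
      (Subgroup.subgroupOfEquivOfLe hCT).symm.surjective
  · rw [Nat.card_congr (Subgroup.subgroupOfEquivOfLe hCT).toEquiv]
    exact hcop

theorem IsQEGroup.toTop {p : ℕ} {H : Type u} [Group H] (h : IsQEGroup p H) :
    IsQE p (⊤ : Subgroup H) := by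
  obtain ⟨C, hCn, hcyc, hcop, k, hk⟩ := h
  refine ⟨C, le_top, ?_, hcyc, hcop, k, ?_⟩
  · rw [Subgroup.normalizer_eq_top]
  · rw [Subgroup.relIndex_top_right]
    exact hk

theorem IsQEGroup.subgroup {p : ℕ} (hp : p.Prime) {H : Type u} [Group H] (h : IsQEGroup p H)
    (T : Subgroup H) : IsQEGroup p T :=
  (h.toTop.mono hp le_top).toGroup

variable {H : Type u} [Group H] [Finite H] {p : ℕ} [hpf : Fact p.Prime]

/-- in a quasi-elementary group `H = C P` -/
theorem sup_sylow_eq_top {C : Subgroup H} {k : ℕ} (hk : C.index = p ^ k) (P : Sylow p H) :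
    C ⊔ (P : Subgroup H) = ⊤ := by
  rw [← Subgroup.index_eq_one]
  have h1 : (C ⊔ (P : Subgroup H)).index ∣ p ^ k := hk ▸ Subgroup.index_dvd_of_le le_sup_left
  have h2 : (C ⊔ (P : Subgroup H)).index ∣ (P : Subgroup H).index :=
    Subgroup.index_dvd_of_le le_sup_right
  have hcop : Nat.Coprime (p ^ k) (P : Subgroup H).index :=
    Nat.Coprime.pow_left k ((Nat.Prime.coprime_iff_not_dvd hpf.out).mpr P.not_dvd_index)
  exact (Nat.coprime_self _).mp
    (Nat.Coprime.coprime_dvd_left h1 (Nat.Coprime.coprime_dvd_right h2 hcop))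

omit [Finite H] in
/-- the part of `C` centralized by `P` is central in `H = C P` -/
theorem inf_centralizer_le_center {C : Subgroup H} (hcyc : IsCyclic C) {P : Subgroup H}
    (hCP : C ⊔ P = ⊤) : C ⊓ Subgroup.centralizer (P : Set H) ≤ Subgroup.center H := by
  intro z hz
  rw [Subgroup.mem_inf] at hz
  have hle : C ⊔ P ≤ Subgroup.centralizer ({z} : Set H) := by
    apply sup_le
    · intro c hc
      rw [Subgroup.mem_centralizer_iff]
      intro y hy
      rw [Set.mem_singleton_iff] at hy
      subst hy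
      have := hcyc.isMulCommutative.is_comm.comm (⟨y, hz.1⟩ : C) ⟨c, hc⟩
      exact congrArg Subtype.val this
    · intro u hu
      rw [Subgroup.mem_centralizer_iff]
      intro y hy
      rw [Set.mem_singleton_iff] at hy
      subst hy
      exact ((Subgroup.mem_centralizer_iff.mp hz.2) u hu).symm
  rw [hCP] at hle
  rw [Subgroup.mem_center_iff]
  intro g
  have := Subgroup.mem_centralizer_iff.mp (hle (Subgroup.mem_top g)) z rfl
  exact this.symm

/-- `C_C(P) P` is `p`-elementary -/
theorem isElementary_sup {C : Subgroup H} (hcyc : IsCyclic C) (hcop : Nat.Coprime (Nat.card C) p)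
    (P : Sylow p H) (hCP : C ⊔ (P : Subgroup H) = ⊤) :
    IsElementary p ↥((C ⊓ Subgroup.centralizer ((P : Subgroup H) : Set H)) ⊔ (P : Subgroup H)) := by
  set Z := C ⊓ Subgroup.centralizer ((P : Subgroup H) : Set H) with hZ
  set E := Z ⊔ (P : Subgroup H) with hE
  have hZcen : Z ≤ Subgroup.center H := inf_centralizer_le_center hcyc hCP
  have hZcyc : IsCyclic Z := by
    have := hcyc
    exact isCyclic_of_injective (Subgroup.inclusion (inf_le_left : Z ≤ C))
      (Subgroup.inclusion_injective _)
  obtain ⟨⟨z, hzZ⟩, hgen⟩ := hZcyc.exists_generator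
  have hzE : z ∈ E := (le_sup_left : Z ≤ E) hzZ
  have hZeq : Subgroup.zpowers z = Z := by
    apply le_antisymm
    · exact (Subgroup.zpowers_le).mpr hzZ
    · intro y hy
      obtain ⟨i, hi⟩ := Subgroup.mem_zpowers_iff.mp (hgen ⟨y, hy⟩)
      rw [Subgroup.mem_zpowers_iff]
      exact ⟨i, by simpa using congrArg Subtype.val hi⟩
  refine ⟨⟨z, hzE⟩, ?_, ?_, ?_⟩
  · rw [Subgroup.mem_center_iff]
    intro y
    apply Subtype.ext
    exact Subgroup.mem_center_iff.mp (hZcen hzZ) (y : H)
  · have h1 : orderOf (⟨z, hzE⟩ : E) = orderOf z := Subgroup.orderOf_mk z hzE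
    rw [h1]
    have h2 : orderOf z ∣ Nat.card C := by
      have := orderOf_dvd_natCard (⟨z, (inf_le_left : Z ≤ C) hzZ⟩ : C)
      rwa [Subgroup.orderOf_mk] at this
    exact Nat.Coprime.coprime_dvd_left h2 hcop
  · have h1 : Subgroup.zpowers (⟨z, hzE⟩ : E) = Z.subgroupOf E := by
      ext y
      rw [Subgroup.mem_subgroupOf, ← hZeq, Subgroup.mem_zpowers_iff, Subgroup.mem_zpowers_iff]
      constructor
      · rintro ⟨i, hi⟩
        exact ⟨i, by simpa using congrArg Subtype.val hi⟩
      · rintro ⟨i, hi⟩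
        exact ⟨i, Subtype.ext (by simpa using hi)⟩
    rw [h1]
    have hZn : Z.Normal := by
      constructor
      intro n hn g
      have := Subgroup.mem_center_iff.mp (hZcen hn) g
      rw [this, mul_inv_cancel_right]
      exact hn
    have h2 : Z.relIndex E = Z.relIndex (P : Subgroup H) :=
      Subgroup.relIndex_sup_left (P : Subgroup H) Z
    have h3 : (Z.subgroupOf E).index = Z.relIndex (P : Subgroup H) := h2
    rw [h3]
    have h4 : Z.relIndex (P : Subgroup H) ∣ Nat.card (P : Subgroup H) :=
      Subgroup.index_dvd_card _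
    obtain ⟨n, hn⟩ := IsPGroup.iff_card.mp P.isPGroup'
    rw [hn] at h4
    obtain ⟨j, -, hj⟩ := (Nat.dvd_prime_pow hpf.out).mp h4
    exact ⟨j, hj⟩

end QEGroup


section Trivial

open scoped ComplexConjugate

variable {H : Type u} [Group H] [Fintype H]

/-- an irreducible character that is trivial on `A` and contains the trivial character of `B`,
where `A ⊔ B = ⊤`, is the trivial character -/
theorem trivial_of_fixed (χ : IrrCharacter H) (A B : Subgroup H) [Fintype B] (hAB : A ⊔ B = ⊤)
    (hA : ∀ a ∈ A, (χ : H → ℂ) a = (χ : H → ℂ) 1)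
    (hB : classInner (fun b : B => (χ : H → ℂ) b) (fun _ => (1 : ℂ)) ≠ 0) :
    (χ : H → ℂ) = fun _ => 1 := by
  classical
  obtain ⟨n, ρ, hirr, hχρ⟩ := χ.2
  have hirr' : ρ.IsIrreducible := hirr
  have hρA : ∀ a ∈ A, ρ a = LinearMap.id := by
    intro a ha
    rw [← Cfsg.Agent.Helper3.char_eq_finrank_iff ρ a, hχρ, hA a ha, ← hχρ]
    exact Representation.char_one ρ
  -- a nonzero vector fixed by B
  let ρB : Representation ℂ B (Fin n → ℂ) := ρ.comp B.subtype
  have hcardB : (Nat.card B : ℂ) ≠ 0 := by
    have : Nat.card B ≠ 0 := Nat.card_pos.ne'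
    exact_mod_cast this
  have : Invertible (Nat.card B : ℂ) := invertibleOfNonzero hcardB
  have h1 := Representation.card_inv_mul_sum_char_eq_finrank ρB
  have h2 : (Module.finrank ℂ (Representation.invariants ρB) : ℂ) ≠ 0 := by
    rw [← h1]
    unfold classInner at hB
    convert hB using 2
    refine Finset.sum_congr rfl fun b _ => ?_
    rw [map_one, mul_one, ← hχρ]
    rfl
  have h3 : Module.finrank ℂ (Representation.invariants ρB) ≠ 0 := by
    intro h0
    apply h2
    rw [h0]
    simp
  have h4 : Representation.invariants ρB ≠ ⊥ := by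
    intro hbot
    apply h3
    rw [hbot]
    simp
  obtain ⟨v, hv, hv0⟩ := (Submodule.ne_bot_iff _).mp h4
  have hvB : ∀ b ∈ B, ρ b v = v := by
    intro b hb
    exact (Representation.mem_invariants ρB v).mp hv ⟨b, hb⟩
  -- the stabilizer of v is everything
  let S : Subgroup H :=
    { carrier := {h | ρ h v = v}
      mul_mem' := by
        intro a b ha hb
        show ρ (a * b) v = v
        rw [map_mul, Module.End.mul_apply, hb, ha]
      one_mem' := by
        show ρ 1 v = v
        rw [map_one, Module.End.one_apply]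
      inv_mem' := by
        intro a ha
        show ρ a⁻¹ v = v
        have ha' : ρ a v = v := ha
        conv_lhs => rw [← ha']
        rw [← Module.End.mul_apply, ← map_mul, inv_mul_cancel, map_one, Module.End.one_apply] }
  have hS : S = ⊤ := by
    apply top_unique
    rw [← hAB]
    apply sup_le
    · intro a ha
      show ρ a v = v
      rw [hρA a ha]
      rfl
    · intro b hb
      exact hvB b hb
  have hfix : ∀ h : H, ρ h v = v := by
    intro h
    have : h ∈ S := by rw [hS]; trivial
    exact this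
  -- the line spanned by v is a subrepresentation
  let W : Subrepresentation ρ := ⟨Submodule.span ℂ {v}, by
    intro g w hw
    obtain ⟨c, rfl⟩ := Submodule.mem_span_singleton.mp hw
    rw [map_smul, hfix g]
    exact Submodule.smul_mem _ _ (Submodule.mem_span_singleton_self v)⟩
  have hWne : W ≠ ⊥ := by
    intro h
    have hmem : v ∈ W.toSubmodule := Submodule.mem_span_singleton_self v
    rw [h] at hmem
    exact hv0 ((Submodule.mem_bot ℂ).mp hmem)
  have hWtop : W = ⊤ := (IsSimpleOrder.eq_bot_or_eq_top W).resolve_left hWne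
  have hspan : Submodule.span ℂ {v} = ⊤ := congrArg Subrepresentation.toSubmodule hWtop
  have hall : ∀ (h : H) (w : Fin n → ℂ), ρ h w = w := by
    intro h w
    have hw : w ∈ Submodule.span ℂ {v} := by rw [hspan]; trivial
    obtain ⟨c, rfl⟩ := Submodule.mem_span_singleton.mp hw
    rw [map_smul, hfix h]
  have hrank : Module.finrank ℂ (Fin n → ℂ) = 1 := by
    rw [← finrank_top ℂ (Fin n → ℂ), ← hspan]
    exact finrank_span_singleton hv0
  funext h
  rw [← hχρ]
  have hid : ρ h = LinearMap.id := LinearMap.ext fun w => hall h w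
  show LinearMap.trace ℂ _ (ρ h) = 1
  rw [hid, LinearMap.trace_id, hrank]
  simp

end Trivial


section Main

open scoped ComplexConjugate
open Cfsg.Agent.Helper81 Cfsg.Agent.Helper3

variable {H : Type u} [Group H] [Fintype H] {p : ℕ} [hpf : Fact p.Prime]

/-- the invariant case: the character is trivial -/
theorem eq_one_of_invariant (C : Subgroup H) [Fintype C] (hCn : C.Normal) (hcyc : IsCyclic C)
    (hcop : Nat.Coprime (Nat.card C) p) (P : Sylow p H) (hCP : C ⊔ (P : Subgroup H) = ⊤)
    (χ : IrrCharacter H) (E : Subgroup H) [Fintype E]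
    (hZE : C ⊓ Subgroup.centralizer ((P : Subgroup H) : Set H) ≤ E) (hPE : (P : Subgroup H) ≤ E)
    (hχE : classInner (fun e : E => (χ : H → ℂ) e) (fun _ => (1 : ℂ)) ≠ 0)
    (lam : C → ℂ) (hlam : IsIrrCharacter C lam)
    (hne : classInner (fun c : C => (χ : H → ℂ) c) lam ≠ 0)
    (hinv : ∀ g : H, conjFun C hCn lam g = lam) : (χ : H → ℂ) = fun _ => 1 := by
  classical
  set Z := C ⊓ Subgroup.centralizer ((P : Subgroup H) : Set H) with hZ
  have hcomm : ∀ a b : C, a * b = b * a := fun a b => hcyc.isMulCommutative.is_comm.comm a b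
  obtain ⟨l, hl⟩ := irr_abelian_hom hcomm lam hlam
  have hlam1 : lam 1 = 1 := by rw [hl]; simp
  -- Clifford: χ restricted to C is a multiple of lam
  have hcl := clifford C hCn χ.2 hlam hne
  have hset : conjSet C hCn lam = {lam} := by
    ext ψ
    simp only [conjSet, Set.mem_ofPred_eq, Set.mem_singleton_iff]
    constructor
    · rintro ⟨g, rfl⟩
      exact hinv g
    · rintro rfl
      exact ⟨1, (hinv 1).symm⟩
  rw [hset, finsum_mem_singleton] at hcl
  have hχ1 : (χ : H → ℂ) 1 = classInner (fun c : C => (χ : H → ℂ) c) lam := by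
    have := congrFun hcl 1
    simpa [hlam1] using this
  have hχc : ∀ c : C, (χ : H → ℂ) c = (χ : H → ℂ) 1 * lam c := by
    intro c
    have := congrFun hcl c
    rw [hχ1]
    simpa using this
  have hχ10 : (χ : H → ℂ) 1 ≠ 0 := by rw [hχ1]; exact hne
  -- lam is trivial on Z
  have hZcen : Z ≤ Subgroup.center H := inf_centralizer_le_center hcyc hCP
  have hS : ∑ e : E, (χ : H → ℂ) e ≠ 0 := by
    intro h0
    apply hχE
    unfold classInner
    simp only [map_one, mul_one]
    rw [h0, mul_zero]
  have hker : ∀ c : C, (c : H) ∈ Subgroup.centralizer ((P : Subgroup H) : Set H) → lam c = 1 := by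
    intro c hc
    have hcZ : (c : H) ∈ Z := Subgroup.mem_inf.mpr ⟨c.2, hc⟩
    obtain ⟨μ, hμ, -⟩ := irr_central_scalar χ (c : H) (hZcen hcZ)
    have hcE : (c : H) ∈ E := hZE hcZ
    have hsum : ∑ e : E, (χ : H → ℂ) e = μ * ∑ e : E, (χ : H → ℂ) e := by
      rw [Finset.mul_sum]
      rw [← Equiv.sum_comp (Equiv.mulRight (⟨(c : H), hcE⟩ : E)) (fun e : E => (χ : H → ℂ) e)]
      refine Finset.sum_congr rfl fun e _ => ?_
      rw [← hμ]
      rfl
    have hμ1 : μ = 1 := by
      have h1 : (1 - μ) * ∑ e : E, (χ : H → ℂ) e = 0 := by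
        rw [sub_mul, one_mul, ← hsum, sub_self]
      rcases mul_eq_zero.mp h1 with h | h
      · exact (sub_eq_zero.mp h).symm
      · exact absurd h hS
    have h2 : (χ : H → ℂ) (c : H) = (χ : H → ℂ) 1 := by
      have := hμ 1
      rw [one_mul, hμ1, one_mul] at this
      exact this
    have h3 := hχc c
    rw [h2] at h3
    have h4 : (χ : H → ℂ) 1 * (lam c - 1) = 0 := by
      rw [mul_sub, mul_one, ← h3, sub_self]
    rcases mul_eq_zero.mp h4 with h | h
    · exact absurd h hχ10
    · exact sub_eq_zero.mp h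
  -- hence lam is trivial
  have hlamtriv : lam = fun _ => 1 := by
    have := hCn
    refine Cfsg.Agent.S0873.result p C (P : Subgroup H) P.isPGroup' hcop hCP lam
      ⟨IsIrrCharacter.isCharacter hlam, hlam1⟩ ?_ hker
    intro g c
    have := congrFun (hinv g) c
    rw [conjFun_apply] at this
    exact this
  have hA : ∀ a ∈ C, (χ : H → ℂ) a = (χ : H → ℂ) 1 := by
    intro a ha
    have := hχc ⟨a, ha⟩
    rw [hlamtriv, mul_one] at this
    exact this
  have hCE : C ⊔ E = ⊤ := by
    apply top_unique
    rw [← hCP]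
    exact sup_le_sup_left hPE C
  exact trivial_of_fixed χ C E hCE hA hχE


omit [Fintype H] hpf in
theorem isQEGroup_card_lt {T : Subgroup H} [Finite H] (hT : T ≠ ⊤) : Nat.card T < Nat.card H := by
  refine lt_of_le_of_ne (Subgroup.card_le_card_group T) ?_
  intro h
  exact hT (Subgroup.eq_top_of_card_eq T h)

/-- In a `p`-quasi-elementary group the trivial character is an integral combination of
characters induced from `p`-elementary subgroups. -/
theorem elemComb_one_aux (p : ℕ) [hpf : Fact p.Prime] : ∀ (N : ℕ) (H : Type u) [Group H] [Fintype H],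
    Nat.card H = N → IsQEGroup p H → ElemComb p (fun _ : H => (1 : ℂ)) := by
  intro N
  induction N using Nat.strong_induction_on with
  | _ N ih =>
  intro H _ _ hN hQE
  classical
  obtain ⟨C, hCn, hcyc, hcop, k, hk⟩ := hQE
  obtain ⟨P⟩ : Nonempty (Sylow p H) := inferInstance
  have hCP := sup_sylow_eq_top hk P
  have hE : IsElementary p
      ↥((C ⊓ Subgroup.centralizer ((P : Subgroup H) : Set H)) ⊔ (P : Subgroup H)) :=
    isElementary_sup hcyc hcop P hCP
  obtain ⟨E, hEdef⟩ : ∃ E : Subgroup H,
      E = (C ⊓ Subgroup.centralizer ((P : Subgroup H) : Set H)) ⊔ (P : Subgroup H) := ⟨_, rfl⟩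
  rw [← hEdef] at hE
  have hZE : C ⊓ Subgroup.centralizer ((P : Subgroup H) : Set H) ≤ E := hEdef ▸ le_sup_left
  have hPE : (P : Subgroup H) ≤ E := hEdef ▸ le_sup_right
  have h1E : IsCharacter E (fun _ : E => (1 : ℂ)) := Cfsg.Agent.Helper3.isCharacter_one
  have hΘ : IsCharacter H (indFun E (fun _ : E => (1 : ℂ))) :=
    Cfsg.Agent.Helper81.isCharacter_indFun E h1E
  have : Fintype (IrrCharacter H) := @Fintype.ofFinite _ irr_finite
  obtain ⟨m, hm⟩ := exists_nat_decomp hΘ
  let triv : IrrCharacter H := ⟨fun _ => 1, Cfsg.Agent.Helper81.isIrrCharacter_one⟩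
  have hcoef : ∀ χ : IrrCharacter H, (m χ : ℂ) =
      classInner (fun _ : E => (1 : ℂ)) (fun e : E => (χ : H → ℂ) e) := by
    intro χ
    rw [← frobenius_reciprocity E (fun _ : E => (1 : ℂ))
      (Cfsg.Agent.Helper81.isClassFunction_of_isCharacter (IsIrrCharacter.isCharacter χ.2))]
    conv_lhs => rw [← classInner_nat_decomp (fun χ' => (m χ' : ℂ)) χ]
    rw [← hm]
  have hcardE : (Nat.card E : ℂ) ≠ 0 := by
    have : Nat.card E ≠ 0 := Nat.card_pos.ne'
    exact_mod_cast this
  have hmtriv : m triv = 1 := by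
    have h := hcoef triv
    have h2 : classInner (fun _ : E => (1 : ℂ)) (fun e : E => (triv : H → ℂ) e) = 1 := by
      unfold classInner
      simp only [triv, map_one, mul_one, Finset.sum_const, Finset.card_univ, nsmul_eq_mul]
      rw [← Nat.card_eq_fintype_card, inv_mul_cancel₀ hcardE]
    rw [h2] at h
    exact_mod_cast h
  -- the key step
  have hkey : ∀ χ : IrrCharacter H, χ ≠ triv → m χ ≠ 0 → ElemComb p (χ : H → ℂ) := by
    intro χ hχne hmχ
    have hχE : classInner (fun e : E => (χ : H → ℂ) e) (fun _ => (1 : ℂ)) ≠ 0 := by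
      rw [Cfsg.Agent.Helper81.classInner_conj_symm, ← hcoef χ]
      simpa using hmχ
    have hχchar := IsIrrCharacter.isCharacter χ.2
    have hχ10 : (χ : H → ℂ) 1 ≠ 0 := Cfsg.Agent.Helper77.irrChar_one_ne_zero χ.2
    have hres0 : (fun c : C => (χ : H → ℂ) c) ≠ 0 := by
      intro h0
      apply hχ10
      have := congrFun h0 1
      simpa using this
    obtain ⟨lam, hlam, hne⟩ := exists_irr_constituent
      (Cfsg.Agent.Helper81.isCharacter_restrict C hχchar) hres0
    by_cases hT : inertiaSubgroup C hCn lam = ⊤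
    · exfalso
      apply hχne
      apply Subtype.ext
      refine eq_one_of_invariant C hCn hcyc hcop P hCP χ E hZE hPE hχE lam hlam hne ?_
      intro g
      rw [← mem_inertiaSubgroup, hT]
      trivial
    · set T := inertiaSubgroup C hCn lam with hTdef
      have hCT : C ≤ T := le_inertiaSubgroup C hCn
        (Cfsg.Agent.Helper81.isClassFunction_of_isCharacter (IsIrrCharacter.isCharacter hlam))
      obtain ⟨ψ, hψ, hind, -⟩ := clifford_corr_surj C T hCn hCT hlam
        (fun g => mem_inertiaSubgroup C hCn lam g) χ.2 hne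
      have hTQE : IsQEGroup p T :=
        IsQEGroup.subgroup hpf.out ⟨C, hCn, hcyc, hcop, k, hk⟩ T
      have hTcard : Nat.card T < N := by
        rw [← hN]
        exact isQEGroup_card_lt hT
      have ih1 := ih (Nat.card T) hTcard T rfl hTQE
      have h2 := ih1.mul_char (IsIrrCharacter.isCharacter hψ)
      have h3 : (fun _ : T => (1 : ℂ)) * ψ = ψ := by
        funext t
        simp
      rw [h3] at h2
      have h4 := h2.induce T
      rw [hind] at h4
      exact h4
  -- assemble
  have h1 : (fun _ : H => (1 : ℂ)) = indFun E (fun _ : E => (1 : ℂ)) -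
      ∑ χ ∈ Finset.univ.erase triv, (m χ : ℂ) • (χ : H → ℂ) := by
    conv_rhs => rw [hm]
    rw [← Finset.add_sum_erase _ _ (Finset.mem_univ triv), hmtriv]
    funext h
    simp [triv]
  rw [h1]
  apply ElemComb.sub (ElemComb.single E hE h1E)
  apply ElemComb.sum
  intro χ hχ
  by_cases h0 : m χ = 0
  · rw [h0]
    simp only [Nat.cast_zero, zero_smul]
    exact ElemComb.zero
  · have := (hkey χ (Finset.ne_of_mem_erase hχ) h0).zsmul (m χ : ℤ)
    simpa using this

theorem elemComb_one (hQE : IsQEGroup p H) :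
    ElemComb p (fun _ : H => (1 : ℂ)) :=
  elemComb_one_aux p (Nat.card H) H rfl hQE

end Main

end Cfsg.Agent.Helper15
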