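import Mathlib
import Cfsg.Prelude.Def_Characters
import Cfsg.Prelude.Def_Blocks
import Cfsg.Agent.Lib.Helper81.CharCore
import Cfsg.Agent.Lib.Helper81.CharInd
import Cfsg.Agent.Lib.Helper3.CharNilpotent
import Cfsg.Agent.S0163

set_option autoImplicit false
set_option linter.style.haveILetI false

namespace Cfsg.Agent.Helper15

open Cfsg
open scoped ComplexConjugate

/-- If every element of the finite group `H` satisfies `h ^ r = 1` with `r` coprime to `m`,
then `|H|` is coprime to `m`. -/
theorem card_coprime_of_pow_eq_one {H : Type*} [Group H] [Finite H] {r m : ℕ}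
    (hr : Nat.Coprime r m) (h : ∀ x : H, x ^ r = 1) : Nat.Coprime (Nat.card H) m := by
  apply Nat.coprime_of_dvd
  intro q hq hqH hqm
  have : Fact q.Prime := ⟨hq⟩
  obtain ⟨x, hx⟩ := exists_prime_orderOf_dvd_card' q hqH
  have h1 : q ∣ r := by
    rw [← hx]
    exact orderOf_dvd_of_pow_eq_one (h x)
  have h2 : q ∣ Nat.gcd r m := Nat.dvd_gcd h1 hqm
  rw [hr] at h2
  exact hq.one_lt.ne' (Nat.dvd_one.1 h2)


/-- For an elementary group `E` of order dividing `m * n` (with `m`, `n` coprime) and `k`
divisible by `m` and congruent to `1` modulo `n`, there is a normal subgroup `A` of index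
dividing `n` such that the `k`-th power map is invariant under right multiplication by `A`. -/
theorem exists_avg_subgroup {E : Type*} [Group E] [Finite E] {p : ℕ} (hp : p.Prime)
    (hE : IsElementary p E) {m n k : ℕ} (hcop : Nat.Coprime m n) (hcard : Nat.card E ∣ m * n)
    (hkm : m ∣ k) :
    ∃ A : Subgroup E, A.Normal ∧ A.index ∣ n ∧ ∀ e : E, ∀ a ∈ A, (e * a) ^ k = e ^ k := by
  obtain ⟨z, hz, -, j, hj⟩ := hE
  set i := (Subgroup.center E).index with hi
  have hij : i ∣ p ^ j := by
    rw [← hj]
    exact Subgroup.index_dvd_of_le (Subgroup.zpowers_le.mpr hz)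
  obtain ⟨j', -, hij'⟩ := (Nat.dvd_prime_pow hp).1 hij
  have hcen : ∀ e : E, e ^ i ∈ Subgroup.center E := fun e => Subgroup.pow_index_mem _ e
  have hkn : ∀ e : E, e ^ (k * n) = 1 := by
    intro e
    apply orderOf_dvd_iff_pow_eq_one.1
    exact (orderOf_dvd_natCard e).trans (hcard.trans (Nat.mul_dvd_mul_right hkm n))
  have hidvd : i ∣ m * n := (Subgroup.index_dvd_card _).trans hcard
  by_cases hpm : p ∣ m
  · -- `i ∣ m ∣ k`, the power map is a homomorphism
    have hpn : Nat.Coprime p n := Nat.Coprime.coprime_dvd_left hpm hcop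
    have him : i ∣ m := by
      apply Nat.Coprime.dvd_of_dvd_mul_right _ hidvd
      rw [hij']
      exact Nat.Coprime.pow_left _ hpn
    obtain ⟨k₁, hk₁⟩ := him.trans hkm
    have hmul : ∀ e₁ e₂ : E, (e₁ * e₂) ^ k = e₁ ^ k * e₂ ^ k := by
      intro e₁ e₂
      have h1 : (e₁ * e₂) ^ i = e₁ ^ i * e₂ ^ i := by
        have := congrArg Subtype.val (map_mul (MonoidHom.transferCenterPow E) e₁ e₂)
        rw [Subgroup.coe_mul, MonoidHom.transferCenterPow_apply, MonoidHom.transferCenterPow_apply,
          MonoidHom.transferCenterPow_apply] at this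
        exact this
      have h2 : Commute (e₁ ^ i) (e₂ ^ i) := by
        have := Subgroup.mem_center_iff.1 (hcen e₂) (e₁ ^ i)
        exact this
      rw [hk₁, pow_mul, pow_mul, pow_mul, h1, h2.mul_pow]
    let φ : E →* E :=
      { toFun := fun e => e ^ k
        map_one' := one_pow k
        map_mul' := hmul }
    refine ⟨φ.ker, MonoidHom.normal_ker φ, ?_, ?_⟩
    · rw [Subgroup.index_ker]
      have h1 : Nat.card φ.range ∣ m * n := (Subgroup.card_subgroup_dvd_card _).trans hcard
      have h2 : Nat.Coprime (Nat.card φ.range) m := by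
        apply card_coprime_of_pow_eq_one hcop.symm
        rintro ⟨y, e, rfl⟩
        apply Subtype.ext
        change (e ^ k) ^ n = 1
        rw [← pow_mul, hkn]
      exact Nat.Coprime.dvd_of_dvd_mul_left h2 h1
    · intro e a ha
      have ha' : a ^ k = 1 := ha
      rw [hmul, ha', mul_one]
  · -- `i` is coprime to `m`
    have hpm' : Nat.Coprime p m := (Nat.Prime.coprime_iff_not_dvd hp).2 hpm
    have him : Nat.Coprime i m := by
      rw [hij']
      exact Nat.Coprime.pow_left _ hpm'
    let A : Subgroup E :=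
      { carrier := {a | a ∈ Subgroup.center E ∧ a ^ k = 1}
        one_mem' := ⟨one_mem _, one_pow _⟩
        mul_mem' := by
          rintro a b ⟨ha, ha'⟩ ⟨hb, hb'⟩
          refine ⟨mul_mem ha hb, ?_⟩
          have hc : Commute a b := (Subgroup.mem_center_iff.1 hb a)
          rw [hc.mul_pow, ha', hb', one_mul]
        inv_mem' := by
          rintro a ⟨ha, ha'⟩
          exact ⟨inv_mem ha, by rw [inv_pow, ha', inv_one]⟩ }
    have hAn : A.Normal := by
      constructor
      intro a ha g
      have : g * a * g⁻¹ = a := by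
        have := Subgroup.mem_center_iff.1 ha.1 g
        rw [this, mul_inv_cancel_right]
      rw [this]
      exact ha
    refine ⟨A, hAn, ?_, ?_⟩
    · have h1 : A.index ∣ m * n := (Subgroup.index_dvd_card _).trans hcard
      have h2 : Nat.Coprime A.index m := by
        rw [Subgroup.index_eq_card]
        apply card_coprime_of_pow_eq_one (r := i * n) (Nat.Coprime.mul_left him hcop.symm)
        intro q
        obtain ⟨e, rfl⟩ := QuotientGroup.mk_surjective q
        rw [← QuotientGroup.mk_pow, QuotientGroup.eq_one_iff]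
        refine ⟨?_, ?_⟩
        · rw [pow_mul]
          exact pow_mem (hcen e) n
        · rw [← pow_mul, show i * n * k = (k * n) * i by ring, pow_mul, hkn, one_pow]
      exact Nat.Coprime.dvd_of_dvd_mul_left h2 h1
    · intro e a ha
      have hc : Commute e a := (Subgroup.mem_center_iff.1 ha.1 e)
      rw [hc.mul_pow, ha.2, mul_one]


/-- Values of a homomorphism to `ℂˣ` from a finite group are algebraic integers. -/
theorem hom_val_mem_algInt {E : Type*} [Group E] [Finite E] (lam : E →* ℂˣ) (e : E) :
    ((lam e : ℂˣ) : ℂ) ∈ AlgInt := by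
  have h1 : ((lam e : ℂˣ) : ℂ) ^ Nat.card E = 1 := by
    rw [← Units.val_pow_eq_pow_val, ← map_pow, pow_card_eq_one', map_one, Units.val_one]
  change IsIntegral ℤ ((lam e : ℂˣ) : ℂ)
  apply IsIntegral.of_pow (n := Nat.card E) Nat.card_pos
  rw [h1]
  exact isIntegral_one

/-- Averaging lemma: if `f` takes values in `{0, n}`, is invariant under right multiplication
by a normal subgroup `A` of index dividing `n`, then `|E|⁻¹ ∑ λ(e) f(e)` is an algebraic integer
for every linear character `λ`. -/
theorem avg_mem_algInt {E : Type*} [Group E] [Fintype E] (A : Subgroup E) [hAn : A.Normal]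
    (n : ℕ) (hA : A.index ∣ n) (f : E → ℂ) (hf : ∀ e : E, ∀ a ∈ A, f (e * a) = f e)
    (hf01 : ∀ e, f e = n ∨ f e = 0) (lam : E →* ℂˣ) :
    (Nat.card E : ℂ)⁻¹ * ∑ e : E, ((lam e : ℂˣ) : ℂ) * f e ∈ AlgInt := by
  classical
  by_cases h : ∀ a ∈ A, lam a = 1
  · -- descends to the quotient
    set φ : E → ℂ := fun e => ((lam e : ℂˣ) : ℂ) * f e with hφ
    have hφA : ∀ e : E, ∀ a ∈ A, φ (e * a) = φ e := by
      intro e a ha
      simp only [hφ]
      rw [map_mul, h a ha, mul_one, hf e a ha]
    let F : E ⧸ A → ℂ := fun q => φ q.out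
    have hF : ∀ e : E, F (e : E ⧸ A) = φ e := by
      intro e
      obtain ⟨a, ha⟩ := QuotientGroup.mk_out_eq_mul A e
      change φ ((e : E ⧸ A).out) = φ e
      rw [ha]
      exact hφA e a a.2
    haveI : Fintype (E ⧸ A) := Fintype.ofFinite _
    have hsum : ∑ e : E, φ e = (Nat.card A : ℂ) * ∑ q : E ⧸ A, F q := by
      rw [← Cfsg.Agent.Helper3.sum_comp_quotient_mk A F]
      exact Finset.sum_congr rfl fun e _ => (hF e).symm
    rw [hsum]
    have hcard : (Nat.card E : ℂ) = (Nat.card A : ℂ) * (A.index : ℂ) := by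
      rw [← Subgroup.card_mul_index A]
      push_cast
      ring
    have hA0 : (Nat.card A : ℂ) ≠ 0 := by
      exact_mod_cast (Nat.card_pos (α := A)).ne'
    have hi0 : (A.index : ℂ) ≠ 0 := by
      have : A.index ≠ 0 := Subgroup.index_ne_zero_of_finite
      exact_mod_cast this
    have heq : (Nat.card E : ℂ)⁻¹ * ((Nat.card A : ℂ) * ∑ q : E ⧸ A, F q)
        = ∑ q : E ⧸ A, ((lam q.out : ℂˣ) : ℂ) * (f q.out / (A.index : ℂ)) := by
      rw [hcard, Finset.mul_sum, Finset.mul_sum]
      apply Finset.sum_congr rfl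
      intro q _
      simp only [F, hφ]
      field_simp
    rw [heq]
    apply Subalgebra.sum_mem
    intro q _
    apply Subalgebra.mul_mem _ (hom_val_mem_algInt lam _)
    rcases hf01 q.out with h1 | h1
    · rw [h1]
      obtain ⟨d, hd⟩ := hA
      rw [hd]
      push_cast
      rw [mul_div_cancel_left₀ _ hi0]
      exact natCast_mem AlgInt d
    · rw [h1, zero_div]
      exact zero_mem _
  · push Not at h
    obtain ⟨a₀, ha₀, hne⟩ := h
    have hS : ∑ e : E, ((lam e : ℂˣ) : ℂ) * f e
        = ((lam a₀ : ℂˣ) : ℂ) * ∑ e : E, ((lam e : ℂˣ) : ℂ) * f e := by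
      rw [Finset.mul_sum]
      rw [← Equiv.sum_comp (Equiv.mulRight a₀) (fun e => ((lam e : ℂˣ) : ℂ) * f e)]
      apply Finset.sum_congr rfl
      intro e _
      simp only [Equiv.coe_mulRight]
      rw [hf e a₀ ha₀, map_mul, Units.val_mul]
      ring
    have hne' : ((lam a₀ : ℂˣ) : ℂ) ≠ 1 := by
      intro h1
      apply hne
      exact Units.ext h1
    have h0 : ∑ e : E, ((lam e : ℂˣ) : ℂ) * f e = 0 := by
      have : (1 - ((lam a₀ : ℂˣ) : ℂ)) * ∑ e : E, ((lam e : ℂˣ) : ℂ) * f e = 0 := by
        rw [sub_mul, one_mul, ← hS, sub_self]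
      rcases mul_eq_zero.1 this with h2 | h2
      · exact absurd (sub_eq_zero.1 h2).symm hne'
      · exact h2
    rw [h0, mul_zero]
    exact zero_mem _


/-- Complex conjugation preserves algebraic integers. -/
theorem conj_mem_algInt {z : ℂ} (hz : z ∈ AlgInt) : conj z ∈ AlgInt := by
  change IsIntegral ℤ (conj z)
  have hz' : IsIntegral ℤ z := hz
  exact hz'.map (starRingEnd ℂ).toIntAlgHom

/-- Brauer's criterion for integrality of inner products: if a class function `ϑ` has
algebraic-integer inner product with every linear character of every elementary subgroup,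
then it has algebraic-integer inner product with every character. -/
theorem classInner_mem_algInt_of_elementary {G : Type*} [Group G] [Fintype G] (ϑ : G → ℂ)
    (hcf : IsClassFunction G ϑ)
    (hloc : ∀ (E : Subgroup G) [Fintype E] (p : ℕ), p.Prime → IsElementary p E →
      ∀ lam : E →* ℂˣ, classInner (fun e : E => ((lam e : ℂˣ) : ℂ)) (fun e : E => ϑ e) ∈ AlgInt)
    (χ : G → ℂ) (hχ : IsCharacter G χ) : classInner ϑ χ ∈ AlgInt := by
  classical
  obtain ⟨l, hl, hχl⟩ := Cfsg.Agent.S0163.result χ hχ
  rw [Cfsg.Agent.Helper81.classInner_conj_symm]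
  apply conj_mem_algInt
  rw [hχl]
  clear hχl
  induction l with
  | nil =>
    simp only [List.map_nil, List.sum_nil]
    rw [Cfsg.Agent.Helper81.classInner_zero_left]
    exact zero_mem _
  | cons t l ih =>
    rw [List.map_cons, List.sum_cons, Cfsg.Agent.Helper81.classInner_add_left,
      Cfsg.Agent.Helper81.classInner_smul_left]
    apply Subalgebra.add_mem
    · apply Subalgebra.mul_mem
      · exact intCast_mem AlgInt t.2.2
      · haveI : Fintype t.1 := Fintype.ofFinite _
        rw [Cfsg.Agent.Helper81.frobenius_reciprocity t.1 _ hcf]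
        obtain ⟨p, hp, hE⟩ := hl t (List.mem_cons_self)
        exact hloc t.1 p hp hE t.2.1
    · exact ih (fun t' ht' => hl t' (List.mem_cons_of_mem _ ht'))


open Classical in
/-- The indicator (scaled by `n`) of the elements whose `k`-th power is conjugate to `g`. -/
noncomputable def powIndicator {G : Type*} [Group G] (n k : ℕ) (g : G) : G → ℂ :=
  fun x => if IsConj (x ^ k) g then (n : ℂ) else 0

theorem powIndicator_of_pos {G : Type*} [Group G] (n k : ℕ) (g : G) {x : G}
    (h : IsConj (x ^ k) g) : powIndicator n k g x = n := by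
  unfold powIndicator
  exact if_pos h

theorem powIndicator_of_neg {G : Type*} [Group G] (n k : ℕ) (g : G) {x : G}
    (h : ¬ IsConj (x ^ k) g) : powIndicator n k g x = 0 := by
  unfold powIndicator
  exact if_neg h

theorem powIndicator_congr {G : Type*} [Group G] (n k : ℕ) (g : G) {x y : G}
    (h : IsConj (x ^ k) g ↔ IsConj (y ^ k) g) : powIndicator n k g x = powIndicator n k g y := by
  by_cases hx : IsConj (x ^ k) g
  · rw [powIndicator_of_pos n k g hx, powIndicator_of_pos n k g (h.1 hx)]
  · rw [powIndicator_of_neg n k g hx, powIndicator_of_neg n k g (fun hy => hx (h.2 hy))]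

theorem powIndicator_eq_or {G : Type*} [Group G] (n k : ℕ) (g : G) (x : G) :
    powIndicator n k g x = n ∨ powIndicator n k g x = 0 := by
  by_cases hx : IsConj (x ^ k) g
  · exact Or.inl (powIndicator_of_pos n k g hx)
  · exact Or.inr (powIndicator_of_neg n k g hx)

theorem powIndicator_isClassFunction {G : Type*} [Group G] (n k : ℕ) (g : G) :
    IsClassFunction G (powIndicator n k g) := by
  intro x h
  apply powIndicator_congr
  rw [conj_pow]
  have h1 : IsConj (x ^ k) (h * x ^ k * h⁻¹) := isConj_iff.2 ⟨h, rfl⟩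
  exact ⟨fun h2 => h1.trans h2, fun h2 => h1.symm.trans h2⟩

theorem powIndicator_classInner_mem_algInt {G : Type*} [Group G] [Fintype G] (m n k : ℕ)
    (hmn : Nat.card G = m * n) (hcop : Nat.Coprime m n) (hkm : m ∣ k) (g : G)
    (χ : G → ℂ) (hχ : IsCharacter G χ) :
    classInner (powIndicator n k g) χ ∈ AlgInt := by
  classical
  apply classInner_mem_algInt_of_elementary _ (powIndicator_isClassFunction n k g) _ χ hχ
  intro E _ p hp hE lam
  have hcard : Nat.card E ∣ m * n := by
    rw [← hmn]
    exact Subgroup.card_subgroup_dvd_card E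
  obtain ⟨A, hAn, hAi, hAk⟩ := exists_avg_subgroup hp hE hcop hcard hkm
  have key := avg_mem_algInt A n hAi (fun e : E => powIndicator n k g (e : G)) (by
      intro e a ha
      have h1 : (((e * a : E) : G)) ^ k = (e : G) ^ k := by
        have := congrArg Subtype.val (hAk e a ha)
        simpa using this
      apply powIndicator_congr
      rw [h1]) (fun e => powIndicator_eq_or n k g _) lam
  have heq : classInner (fun e : E => ((lam e : ℂˣ) : ℂ)) (fun e : E => powIndicator n k g (e : G))
      = (Nat.card E : ℂ)⁻¹ * ∑ e : E, ((lam e : ℂˣ) : ℂ) * powIndicator n k g (e : G) := by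
    unfold classInner
    congr 1
    apply Finset.sum_congr rfl
    intro e _
    congr 1
    change conj (powIndicator n k g (e : G)) = powIndicator n k g (e : G)
    rcases powIndicator_eq_or n k g (e : G) with h | h
    · rw [h]; simp
    · rw [h]; simp
  rw [heq]
  exact key


/-- The `π'`-section condition is equivalent to a conjugacy condition on a suitable power. -/
theorem section_iff_isConj_pow {G : Type*} [Group G] [Finite G] {m n k k' : ℕ}
    (hmn : Nat.card G = m * n) (hcop : Nat.Coprime m n) (hk0 : k ≡ 0 [MOD m])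
    (hk1 : k ≡ 1 [MOD n]) (hk'1 : k' ≡ 1 [MOD m]) (hk'0 : k' ≡ 0 [MOD n]) (g x : G) :
    (∃ v : G, IsConj v g ∧ (∃ u : G, x = u * v ∧ Commute u v ∧ Nat.Coprime (orderOf u) n ∧
      Nat.Coprime (orderOf v) m)) ↔ IsConj (x ^ k) g := by
  have hord : ∀ y : G, orderOf y ∣ m * n := fun y => hmn ▸ orderOf_dvd_natCard y
  have hmk : m ∣ k := (Nat.modEq_zero_iff_dvd).1 hk0
  have hnk' : n ∣ k' := (Nat.modEq_zero_iff_dvd).1 hk'0
  constructor
  · rintro ⟨v, hv, u, rfl, hc, hu, hv'⟩
    have h1 : u ^ k = 1 := by
      apply orderOf_dvd_iff_pow_eq_one.1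
      exact (Nat.Coprime.dvd_of_dvd_mul_right hu (hord u)).trans hmk
    have h2 : v ^ k = v := by
      have hvn : orderOf v ∣ n := Nat.Coprime.dvd_of_dvd_mul_left hv' (hord v)
      have : v ^ k = v ^ 1 := pow_eq_pow_iff_modEq.2 (hk1.of_dvd hvn)
      rw [this, pow_one]
    rw [hc.mul_pow, h1, h2, one_mul]
    exact hv
  · intro h
    refine ⟨x ^ k, h, x ^ k', ?_, Commute.pow_pow_self x k' k, ?_, ?_⟩
    · rw [← pow_add]
      have h1 : k' + k ≡ 1 [MOD m * n] := by
        apply (Nat.modEq_and_modEq_iff_modEq_mul hcop).1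
        constructor
        · have := hk'1.add hk0
          simpa using this
        · have := hk'0.add hk1
          simpa using this
      have : x ^ (k' + k) = x ^ 1 := pow_eq_pow_iff_modEq.2 (h1.of_dvd (hord x))
      rw [this, pow_one]
    · have h1 : orderOf (x ^ k') ∣ m := by
        apply orderOf_dvd_of_pow_eq_one
        rw [← pow_mul]
        apply orderOf_dvd_iff_pow_eq_one.1
        apply (hord x).trans
        rw [mul_comm k' m]
        exact Nat.mul_dvd_mul_left m hnk'
      exact Nat.Coprime.coprime_dvd_left h1 hcop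
    · have h1 : orderOf (x ^ k) ∣ n := by
        apply orderOf_dvd_of_pow_eq_one
        rw [← pow_mul]
        apply orderOf_dvd_iff_pow_eq_one.1
        apply (hord x).trans
        exact Nat.mul_dvd_mul_right hmk n
      exact Nat.Coprime.coprime_dvd_left h1 hcop.symm

end Cfsg.Agent.Helper15
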