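import Mathlib
import Cfsg.Prelude.Def_Blocks
import Cfsg.Agent.Lib.Helper16.WBO
import Cfsg.Agent.Lib.Helper81.CharInd
import Cfsg.Agent.Lib.Helper3.CharDecomp
import Cfsg.Agent.Lib.Helper15.PiSection

set_option autoImplicit false
set_option linter.unusedSectionVars false
set_option linter.style.haveILetI false

/-!
# Blocks do not depend on the maximal ideal

For a block `B` relative to a `p`-modular maximal ideal `M'`, the block idempotent coefficients
are of the form (algebraic integer) / (the `p'`-part of `|G|`), hence lie in the local ring of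
every `p`-modular ideal `M`.
-/

namespace Cfsg.Agent.Helper15

open Cfsg
open scoped ComplexConjugate

universe u

/-- The sum of a character over a subgroup is the order of the subgroup times a natural
number (the multiplicity of the trivial character in the restriction). -/
theorem sum_subgroup_character {G : Type u} [Group G] [Fintype G] (P : Subgroup G) [Fintype P] {χ : G → ℂ}
    (hχ : IsCharacter G χ) : ∃ n : ℕ, ∑ u : P, χ u = (Nat.card P : ℂ) * n := by
  classical
  haveI : Fintype (IrrCharacter P) := @Fintype.ofFinite _ Cfsg.Agent.Helper81.irr_finite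
  have hθ := Cfsg.Agent.Helper81.isCharacter_restrict P hχ
  obtain ⟨m, hm⟩ := Cfsg.Agent.Helper81.exists_nat_decomp hθ
  let one : IrrCharacter P := ⟨fun _ => (1 : ℂ), Cfsg.Agent.Helper3.isIrrCharacter_one⟩
  refine ⟨m one, ?_⟩
  have h1 := Cfsg.Agent.Helper81.classInner_nat_decomp (fun ψ => (m ψ : ℂ)) one
  rw [← hm] at h1
  unfold classInner at h1
  have hP : (Nat.card P : ℂ) ≠ 0 := by exact_mod_cast Nat.card_pos.ne'
  have h2 : ∑ u : P, χ u = ∑ g : P, (fun h : P => χ h) g * conj ((one : P → ℂ) g) := by
    refine Finset.sum_congr rfl fun g _ => ?_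
    change χ g = χ g * conj (1 : ℂ)
    rw [map_one, mul_one]
  rw [h2]
  rw [← h1]
  field_simp

/-- For a block `B` relative to some `p`-modular ideal, and `P` a Sylow `p`-subgroup, the index
`|G : P|` times the idempotent coefficient of `B` at `g` is an algebraic integer. -/
theorem index_mul_blockCoeff_mem_algInt {G : Type u} [Group G] [Fintype G] {p : ℕ}
    [Fact p.Prime] {M' : Ideal AlgInt} (hM' : IsPModular p M') {B : Set (IrrCharacter G)}
    (hB : IsPBlock M' B) (P : Sylow p G) (g : G) :
    ((P : Subgroup G).index : ℂ) * blockCoeff B g ∈ AlgInt := by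
  classical
  by_cases hg : p ∣ orderOf g
  · rw [Cfsg.Agent.Helper16.blockCoeff_eq_zero_of_singular hM' hB g hg, mul_zero]
    exact Subalgebra.zero_mem _
  haveI : Fintype (P : Subgroup G) := Fintype.ofFinite _
  set S := (Set.toFinite B).toFinset with hS
  -- multiplicities of the trivial character
  have hn : ∀ φ : IrrCharacter G, ∃ n : ℕ, ∑ u : (P : Subgroup G), (φ : G → ℂ) u
      = (Nat.card (P : Subgroup G) : ℂ) * n := fun φ =>
    sum_subgroup_character (P : Subgroup G)
      (Cfsg.Agent.Helper81.IsIrrCharacter.isCharacter φ.2)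
  choose n hn using hn
  -- WBO summed over `P`
  have hsing : ∀ u : (P : Subgroup G), u ≠ 1 → p ∣ orderOf (u : G) := by
    intro u hu
    obtain ⟨k, hk⟩ := (P.2 u)
    have hk' : (u : G) ^ p ^ k = 1 := by
      have := congrArg Subtype.val hk
      simpa using this
    have hne : orderOf (u : G) ≠ 1 := by
      rw [Ne, orderOf_eq_one_iff]
      intro h
      exact hu (Subtype.ext h)
    obtain ⟨j, _, hj⟩ := (Nat.dvd_prime_pow (Fact.out : p.Prime)).mp (orderOf_dvd_of_pow_eq_one hk')
    rw [hj] at hne ⊢
    cases j with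
    | zero => exact absurd (pow_zero p) hne
    | succ j => exact dvd_pow_self p (Nat.succ_ne_zero j)
  have hsum : ∑ u : (P : Subgroup G), ∑ φ ∈ S, (φ : G → ℂ) g * conj ((φ : G → ℂ) u)
      = ∑ φ ∈ S, (φ : G → ℂ) g * conj ((φ : G → ℂ) 1) := by
    rw [Finset.sum_eq_single (1 : (P : Subgroup G))]
    · rfl
    · intro u _ hu
      exact Cfsg.Agent.Helper16.weak_block_orthogonality hM' hB g u hg (hsing u hu)
    · intro h; exact absurd (Finset.mem_univ _) h
  rw [Finset.sum_comm] at hsum
  have hsum2 : ∑ φ ∈ S, (φ : G → ℂ) g * conj ((φ : G → ℂ) 1)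
      = (Nat.card (P : Subgroup G) : ℂ) * ∑ φ ∈ S, (φ : G → ℂ) g * (n φ : ℂ) := by
    rw [← hsum, Finset.mul_sum]
    refine Finset.sum_congr rfl fun φ _ => ?_
    rw [← Finset.mul_sum, ← map_sum, hn φ, map_mul, Complex.conj_natCast, Complex.conj_natCast]
    ring
  have hcoef : blockCoeff B g = (Nat.card G : ℂ)⁻¹ *
      conj (∑ φ ∈ S, (φ : G → ℂ) g * conj ((φ : G → ℂ) 1)) := by
    rw [Cfsg.Agent.Helper77.blockCoeff_eq_sum, map_sum]
    congr 1
    refine Finset.sum_congr rfl fun φ _ => ?_
    rw [map_mul, Complex.conj_conj, mul_comm]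
  have hidx : ((P : Subgroup G).index : ℂ) * (Nat.card (P : Subgroup G) : ℂ) = (Nat.card G : ℂ) := by
    rw [mul_comm]
    exact_mod_cast (P : Subgroup G).card_mul_index
  have hG : (Nat.card G : ℂ) ≠ 0 := by exact_mod_cast Nat.card_pos.ne'
  have hfinal : ((P : Subgroup G).index : ℂ) * blockCoeff B g
      = conj (∑ φ ∈ S, (φ : G → ℂ) g * (n φ : ℂ)) := by
    rw [hcoef, hsum2, map_mul, Complex.conj_natCast, ← hidx]
    have h1 : ((P : Subgroup G).index : ℂ) ≠ 0 := by
      intro h; rw [h, zero_mul] at hidx; exact hG hidx.symm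
    have h2 : (Nat.card (P : Subgroup G) : ℂ) ≠ 0 := by
      intro h; rw [h, mul_zero] at hidx; exact hG hidx.symm
    field_simp
  rw [hfinal]
  apply conj_mem_algInt
  refine Subalgebra.sum_mem _ fun φ _ => ?_
  refine Subalgebra.mul_mem _ (Cfsg.Agent.Helper79.irr_isIntegral φ g) ?_
  exact isIntegral_algebraMap (R := ℤ) (A := ℂ) (x := (n φ : ℤ)) |> fun h => by simp

/-- The idempotent coefficients of a block relative to `M'` lie in the local ring of every
`p`-modular ideal `M`. -/
theorem memLocalRing_blockCoeff_of_isPBlock {G : Type u} [Group G] [Fintype G] {p : ℕ}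
    [Fact p.Prime] {M M' : Ideal AlgInt} (hM : IsPModular p M) (hM' : IsPModular p M')
    {B : Set (IrrCharacter G)} (hB : IsPBlock M' B) (g : G) :
    MemLocalRing M (blockCoeff B g) := by
  classical
  obtain P : Sylow p G := default
  have h := index_mul_blockCoeff_mem_algInt hM' hB P g
  have hidx : ¬ p ∣ (P : Subgroup G).index := P.not_dvd_index
  refine ⟨⟨_, h⟩, ((P : Subgroup G).index : AlgInt), ?_, ?_⟩
  · rw [Cfsg.Agent.Helper77.natCast_mem_iff hM]
    exact hidx
  · have h0 : ((P : Subgroup G).index : ℂ) ≠ 0 := by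
      have : (P : Subgroup G).index ≠ 0 := fun h0 => hidx (h0 ▸ dvd_zero p)
      exact_mod_cast this
    push_cast
    field_simp

end Cfsg.Agent.Helper15
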