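import Mathlib
import Cfsg.Prelude.Def_Blocks
import Cfsg.Agent.Lib.Helper15.BlockIndep

set_option autoImplicit false
set_option linter.unusedSectionVars false
set_option linter.style.haveILetI false

/-!
# Blocks for two different primes

If `G` has no element of order `p q`, then for a `p`-block `Bp`, a `q`-block `Bq` and a
`p`-singular `y`, the sum of `χ 1 * χ y` over `Bp ∩ Bq` is divisible by `|G|_q`.
-/

namespace Cfsg.Agent.Helper15

open Cfsg
open scoped ComplexConjugate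

universe u

/-- A combination of irreducible characters with algebraic integer coefficients which vanishes
on all `q`-singular elements has degree divisible (in the algebraic integers) by the order of a
Sylow `q`-subgroup. -/
theorem degree_of_vanishing_on_singular {G : Type u} [Group G] [Fintype G] {q : ℕ}
    [Fact q.Prime] (S : Finset (IrrCharacter G)) (c : IrrCharacter G → ℂ)
    (hc : ∀ χ ∈ S, c χ ∈ AlgInt)
    (hvan : ∀ z : G, q ∣ orderOf z → ∑ χ ∈ S, c χ * (χ : G → ℂ) z = 0) (Q : Sylow q G) :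
    ∃ ω : AlgInt, ∑ χ ∈ S, c χ * (χ : G → ℂ) 1 = (Nat.card (Q : Subgroup G) : ℂ) * (ω : ℂ) := by
  classical
  haveI : Fintype (Q : Subgroup G) := Fintype.ofFinite _
  have hn : ∀ φ : IrrCharacter G, ∃ n : ℕ, ∑ u : (Q : Subgroup G), (φ : G → ℂ) u
      = (Nat.card (Q : Subgroup G) : ℂ) * n := fun φ =>
    sum_subgroup_character (Q : Subgroup G)
      (Cfsg.Agent.Helper81.IsIrrCharacter.isCharacter φ.2)
  choose n hn using hn
  have hsing : ∀ u : (Q : Subgroup G), u ≠ 1 → q ∣ orderOf (u : G) := by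
    intro u hu
    obtain ⟨k, hk⟩ := (Q.2 u)
    have hk' : (u : G) ^ q ^ k = 1 := by
      have := congrArg Subtype.val hk
      simpa using this
    have hne : orderOf (u : G) ≠ 1 := by
      rw [Ne, orderOf_eq_one_iff]
      intro h
      exact hu (Subtype.ext h)
    obtain ⟨j, _, hj⟩ := (Nat.dvd_prime_pow (Fact.out : q.Prime)).mp (orderOf_dvd_of_pow_eq_one hk')
    rw [hj] at hne ⊢
    cases j with
    | zero => exact absurd (pow_zero q) hne
    | succ j => exact dvd_pow_self q (Nat.succ_ne_zero j)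
  have hsum : ∑ u : (Q : Subgroup G), ∑ φ ∈ S, c φ * (φ : G → ℂ) u
      = ∑ φ ∈ S, c φ * (φ : G → ℂ) 1 := by
    rw [Finset.sum_eq_single (1 : (Q : Subgroup G))]
    · rfl
    · intro u _ hu
      exact hvan u (hsing u hu)
    · intro h; exact absurd (Finset.mem_univ _) h
  rw [Finset.sum_comm] at hsum
  refine ⟨⟨∑ φ ∈ S, c φ * (n φ : ℂ), ?_⟩, ?_⟩
  · refine Subalgebra.sum_mem _ fun φ hφ => ?_
    refine Subalgebra.mul_mem _ (hc φ hφ) ?_
    exact isIntegral_algebraMap (R := ℤ) (A := ℂ) (x := (n φ : ℤ)) |> fun h => by simp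
  · rw [← hsum]
    simp only [Finset.mul_sum]
    refine Finset.sum_congr rfl fun φ _ => ?_
    rw [← Finset.mul_sum, hn φ]
    ring

/-- If `G` has no element of order `p * q` (distinct primes), every `q`-singular element is
`p`-regular. -/
theorem not_dvd_orderOf_of_no_pq {G : Type u} [Group G] [Finite G] {p q : ℕ} [Fact p.Prime]
    [Fact q.Prime] (hpq : p ≠ q) (hno : ∀ g : G, orderOf g ≠ p * q) (x : G)
    (hq : q ∣ orderOf x) : ¬ p ∣ orderOf x := by
  intro hp
  have hcop : Nat.Coprime p q := (Nat.coprime_primes Fact.out Fact.out).mpr hpq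
  have hdvd : p * q ∣ orderOf x := hcop.mul_dvd_of_dvd_of_dvd hp hq
  obtain ⟨m, hm⟩ := hdvd
  have hpos : 0 < orderOf x := orderOf_pos x
  have hm0 : m ≠ 0 := by
    rintro rfl
    rw [mul_zero] at hm
    omega
  apply hno (x ^ m)
  rw [orderOf_pow_of_dvd hm0 ⟨p * q, by rw [hm]; ring⟩, hm]
  exact Nat.mul_div_cancel _ (Nat.pos_of_ne_zero hm0)

/-- Under the no-`pq`-element hypothesis, the class function
`∑_{χ ∈ Bp ∩ Bq} conj (χ y) • χ` (with `y` a `p`-singular element) vanishes on `q`-singular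
elements. -/
theorem inter_blocks_vanish {G : Type u} [Group G] [Fintype G] {p q : ℕ} [Fact p.Prime]
    [Fact q.Prime] (hpq : p ≠ q) {Mp Mq : Ideal AlgInt} (hMp : IsPModular p Mp)
    (hMq : IsPModular q Mq) (hno : ∀ g : G, orderOf g ≠ p * q)
    {Bp Bq : Set (IrrCharacter G)} (hBp : IsPBlock Mp Bp) (hBq : IsPBlock Mq Bq)
    (y : G) (hy : p ∣ orderOf y) (z : G) (hz : q ∣ orderOf z) :
    ∑ χ ∈ (Set.toFinite Bp).toFinset ∩ (Set.toFinite Bq).toFinset,
      conj ((χ : G → ℂ) y) * (χ : G → ℂ) z = 0 := by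
  classical
  set Sp := (Set.toFinite Bp).toFinset with hSp
  set Sq := (Set.toFinite Bq).toFinset with hSq
  have hG : (Nat.card G : ℂ) ≠ 0 := by exact_mod_cast Nat.card_pos.ne'
  -- the key identity
  have key : ∑ χ ∈ Sp ∩ Sq, conj ((χ : G → ℂ) y) * (χ : G → ℂ) z
      = (Nat.card G : ℂ)⁻¹ * ∑ x : G, (∑ φ ∈ Sp, conj ((φ : G → ℂ) y) * (φ : G → ℂ) x)
          * (∑ χ ∈ Sq, conj ((χ : G → ℂ) x) * (χ : G → ℂ) z) := by
    have h1 : ∀ x : G, (∑ φ ∈ Sp, conj ((φ : G → ℂ) y) * (φ : G → ℂ) x)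
          * (∑ χ ∈ Sq, conj ((χ : G → ℂ) x) * (χ : G → ℂ) z)
        = ∑ φ ∈ Sp, ∑ χ ∈ Sq, conj ((φ : G → ℂ) y) * (χ : G → ℂ) z
            * ((φ : G → ℂ) x * conj ((χ : G → ℂ) x)) := by
      intro x
      rw [Finset.sum_mul_sum]
      refine Finset.sum_congr rfl fun φ _ => Finset.sum_congr rfl fun χ _ => ?_
      ring
    simp only [h1]
    rw [Finset.sum_comm, Finset.mul_sum]
    have h2 : ∀ φ ∈ Sp, (Nat.card G : ℂ)⁻¹ * ∑ x : G, ∑ χ ∈ Sq,
        conj ((φ : G → ℂ) y) * (χ : G → ℂ) z * ((φ : G → ℂ) x * conj ((χ : G → ℂ) x))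
        = if φ ∈ Sq then conj ((φ : G → ℂ) y) * (φ : G → ℂ) z else 0 := by
      intro φ _
      rw [Finset.sum_comm, Finset.mul_sum]
      have h3 : ∀ χ ∈ Sq, (Nat.card G : ℂ)⁻¹ * ∑ x : G,
          conj ((φ : G → ℂ) y) * (χ : G → ℂ) z * ((φ : G → ℂ) x * conj ((χ : G → ℂ) x))
          = if φ = χ then conj ((φ : G → ℂ) y) * (χ : G → ℂ) z else 0 := by
        intro χ _
        rw [← Finset.mul_sum]
        have := Cfsg.Agent.Helper81.irr_orthonormal φ.2 χ.2
        unfold classInner at this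
        have h4 : ((φ : G → ℂ) = (χ : G → ℂ)) ↔ φ = χ := ⟨fun h => Subtype.ext h, fun h => by rw [h]⟩
        simp only [h4] at this
        calc (Nat.card G : ℂ)⁻¹ * (conj ((φ : G → ℂ) y) * (χ : G → ℂ) z
              * ∑ x : G, (φ : G → ℂ) x * conj ((χ : G → ℂ) x))
            = conj ((φ : G → ℂ) y) * (χ : G → ℂ) z * ((Nat.card G : ℂ)⁻¹
              * ∑ x : G, (φ : G → ℂ) x * conj ((χ : G → ℂ) x)) := by ring
          _ = _ := by rw [this]; split_ifs <;> simp
      rw [Finset.sum_congr rfl h3]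
      rw [Finset.sum_ite_eq Sq φ]
    rw [Finset.sum_congr rfl h2, ← Finset.sum_filter]
    refine Finset.sum_congr ?_ fun _ _ => rfl
    ext χ
    simp [Finset.mem_inter, Finset.mem_filter]
  rw [key]
  have hterm : ∀ x : G, (∑ φ ∈ Sp, conj ((φ : G → ℂ) y) * (φ : G → ℂ) x)
      * (∑ χ ∈ Sq, conj ((χ : G → ℂ) x) * (χ : G → ℂ) z) = 0 := by
    intro x
    by_cases hx : q ∣ orderOf x
    · -- `x` is `q`-singular hence `p`-regular: first factor vanishes
      have hxp : ¬ p ∣ orderOf x := not_dvd_orderOf_of_no_pq hpq hno x hx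
      have := Cfsg.Agent.Helper16.weak_block_orthogonality hMp hBp x y hxp hy
      have h0 : ∑ φ ∈ Sp, conj ((φ : G → ℂ) y) * (φ : G → ℂ) x = 0 := by
        rw [← this]
        refine Finset.sum_congr rfl fun φ _ => ?_
        ring
      rw [h0, zero_mul]
    · -- `x` is `q`-regular and `z` is `q`-singular: second factor vanishes
      have := Cfsg.Agent.Helper16.weak_block_orthogonality hMq hBq x z hx hz
      have h0 : ∑ χ ∈ Sq, conj ((χ : G → ℂ) x) * (χ : G → ℂ) z = 0 := by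
        have h5 := congrArg conj this
        rw [map_sum, map_zero] at h5
        rw [← h5]
        refine Finset.sum_congr rfl fun χ _ => ?_
        rw [map_mul, Complex.conj_conj]
      rw [h0, mul_zero]
  rw [Finset.sum_eq_zero fun x _ => hterm x, mul_zero]

end Cfsg.Agent.Helper15
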