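import Mathlib
import Cfsg.Prelude.Def_Characters
import Cfsg.Prelude.Def_Blocks
import Cfsg.Agent.Lib.Helper15.PiSection
import Cfsg.Agent.Lib.Helper15.BrauerLocal
import Cfsg.Agent.Lib.Helper3.CharBrauer
import Cfsg.Agent.Lib.Helper3.CharOrtho
import Cfsg.Agent.Lib.Helper3.CharIntegral
import Cfsg.Agent.Lib.Helper81.CharCorr
import Cfsg.Agent.Lib.Helper96.FrobeniusThm
import Cfsg.Agent.Lib.Helper79.NormalSums
import Cfsg.Agent.S0164

set_option autoImplicit false
set_option linter.style.haveILetI false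
set_option linter.unusedSectionVars false

namespace Cfsg.Agent.Helper15

open Cfsg
open scoped ComplexConjugate

universe u

section PowHom

variable {E : Type*} [Group E] [Finite E]

theorem pow_mem_center_of_index_dvd {k : ℕ} (hk : (Subgroup.center E).index ∣ k) (e : E) :
    e ^ k ∈ Subgroup.center E := by
  obtain ⟨s, rfl⟩ := hk
  rw [pow_mul]
  exact pow_mem (Subgroup.pow_index_mem _ e) s

theorem mul_pow_of_index_center_dvd {k : ℕ} (hk : (Subgroup.center E).index ∣ k) (e₁ e₂ : E) :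
    (e₁ * e₂) ^ k = e₁ ^ k * e₂ ^ k := by
  obtain ⟨s, rfl⟩ := hk
  have h1 : (e₁ * e₂) ^ (Subgroup.center E).index
      = e₁ ^ (Subgroup.center E).index * e₂ ^ (Subgroup.center E).index := by
    have := congrArg Subtype.val (map_mul (MonoidHom.transferCenterPow E) e₁ e₂)
    rw [Subgroup.coe_mul, MonoidHom.transferCenterPow_apply, MonoidHom.transferCenterPow_apply,
      MonoidHom.transferCenterPow_apply] at this
    exact this
  have h2 : Commute (e₁ ^ (Subgroup.center E).index) (e₂ ^ (Subgroup.center E).index) :=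
    Subgroup.mem_center_iff.1 (Subgroup.pow_index_mem _ e₂) _
  rw [pow_mul, pow_mul, pow_mul, h1, h2.mul_pow]

/-- On an elementary group of order dividing `m * n` (`m`, `n` coprime), the power map with
exponent `k ≡ 1 [MOD m]`, `k ≡ 0 [MOD n]` is multiplicative. -/
theorem mul_pow_of_isElementary {p : ℕ} (hp : p.Prime) (hE : IsElementary p E) {m n k k' : ℕ}
    (hcop : Nat.Coprime m n) (hcard : Nat.card E ∣ m * n) (hkn : n ∣ k) (hk'm : m ∣ k')
    (hkk' : k + k' ≡ 1 [MOD m * n]) (e₁ e₂ : E) : (e₁ * e₂) ^ k = e₁ ^ k * e₂ ^ k := by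
  obtain ⟨z, hz, -, j, hj⟩ := hE
  have hij : (Subgroup.center E).index ∣ p ^ j := by
    rw [← hj]
    exact Subgroup.index_dvd_of_le (Subgroup.zpowers_le.mpr hz)
  obtain ⟨j', -, hij'⟩ := (Nat.dvd_prime_pow hp).1 hij
  have hidvd : (Subgroup.center E).index ∣ m * n := (Subgroup.index_dvd_card _).trans hcard
  by_cases hpn : p ∣ n
  · have hpm : Nat.Coprime p m := Nat.Coprime.coprime_dvd_left hpn hcop.symm
    have hin : (Subgroup.center E).index ∣ n := by
      apply Nat.Coprime.dvd_of_dvd_mul_left _ hidvd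
      rw [hij']
      exact Nat.Coprime.pow_left _ hpm
    exact mul_pow_of_index_center_dvd (hin.trans hkn) e₁ e₂
  · have hpn' : Nat.Coprime p n := (Nat.Prime.coprime_iff_not_dvd hp).2 hpn
    have him : (Subgroup.center E).index ∣ m := by
      apply Nat.Coprime.dvd_of_dvd_mul_right _ hidvd
      rw [hij']
      exact Nat.Coprime.pow_left _ hpn'
    have hik' : (Subgroup.center E).index ∣ k' := him.trans hk'm
    have hpow : ∀ e : E, e ^ k = e * (e ^ k')⁻¹ := by
      intro e
      have h1 : e ^ (k + k') = e ^ 1 :=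
        pow_eq_pow_iff_modEq.2 (hkk'.of_dvd ((orderOf_dvd_natCard e).trans hcard))
      rw [pow_add, pow_one] at h1
      rw [eq_mul_inv_iff_mul_eq]
      exact h1
    have hc1 : (e₁ ^ k')⁻¹ ∈ Subgroup.center E :=
      inv_mem (pow_mem_center_of_index_dvd hik' e₁)
    rw [hpow, hpow, hpow, mul_pow_of_index_center_dvd hik' e₁ e₂, mul_inv_rev]
    have h2 := Subgroup.mem_center_iff.1 hc1 (e₂ * (e₂ ^ k')⁻¹)
    calc e₁ * e₂ * ((e₂ ^ k')⁻¹ * (e₁ ^ k')⁻¹)
        = e₁ * ((e₂ * (e₂ ^ k')⁻¹) * (e₁ ^ k')⁻¹) := by group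
      _ = e₁ * ((e₁ ^ k')⁻¹ * (e₂ * (e₂ ^ k')⁻¹)) := by rw [h2]
      _ = e₁ * (e₁ ^ k')⁻¹ * (e₂ * (e₂ ^ k')⁻¹) := by group

end PowHom


/-- Every cyclic subgroup of a finite group is elementary for some prime. -/
theorem exists_prime_isElementary_zpowers {G : Type*} [Group G] [Finite G] (y : G) :
    ∃ p : ℕ, p.Prime ∧ IsElementary p (Subgroup.zpowers y) := by
  obtain ⟨p, hple, hp⟩ := Nat.exists_infinite_primes (orderOf y + 1)
  refine ⟨p, hp, ⟨y, Subgroup.mem_zpowers y⟩, ?_, ?_, 0, ?_⟩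
  · rw [Subgroup.mem_center_iff]
    rintro ⟨g, hg⟩
    obtain ⟨i, rfl⟩ := Subgroup.mem_zpowers_iff.1 hg
    apply Subtype.ext
    change y ^ i * y = y * y ^ i
    exact ((Commute.refl y).zpow_left i).eq
  · rw [Subgroup.orderOf_mk]
    have hpos : 0 < orderOf y := orderOf_pos y
    have : ¬ p ∣ orderOf y := Nat.not_dvd_of_pos_of_lt hpos (by omega)
    exact ((Nat.Prime.coprime_iff_not_dvd hp).2 this).symm
  · rw [pow_zero, Subgroup.index_eq_one, eq_top_iff]
    rintro ⟨g, hg⟩ -
    obtain ⟨i, rfl⟩ := Subgroup.mem_zpowers_iff.1 hg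
    rw [Subgroup.mem_zpowers_iff]
    exact ⟨i, Subtype.ext (by simp)⟩

/-- The hypotheses of the Brauer–Suzuki theorem, together with exponents `k`, `k'` computing the
`π`-part and the `π'`-part of an element. -/
structure BSHyp {G : Type u} [Group G] (H : Subgroup G) (k k' : ℕ) : Prop where
  hcop : Nat.Coprime (Nat.card H) H.index
  hk1 : k ≡ 1 [MOD Nat.card H]
  hk0 : H.index ∣ k
  hk'0 : Nat.card H ∣ k'
  hk'1 : k' ≡ 1 [MOD H.index]
  hfus : ∀ x ∈ H, ∀ y ∈ H, IsConj x y → ∃ h ∈ H, h * x * h⁻¹ = y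
  helem : ∀ (E : Subgroup G) (p : ℕ), p.Prime → IsElementary p E → Nat.card E ∣ Nat.card H →
    ∃ g : G, E.map (MulAut.conj g).toMonoidHom ≤ H

section BS

variable {G : Type u} [Group G] [Fintype G] {H : Subgroup G} {k k' : ℕ}

namespace BSHyp

theorem card_eq (_D : BSHyp H k k') : Nat.card G = Nat.card H * H.index :=
  (Subgroup.card_mul_index H).symm

theorem ord_dvd (D : BSHyp H k k') (x : G) : orderOf x ∣ Nat.card H * H.index :=
  D.card_eq ▸ orderOf_dvd_natCard x

theorem kk' (D : BSHyp H k k') : k + k' ≡ 1 [MOD Nat.card H * H.index] := by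
  apply (Nat.modEq_and_modEq_iff_modEq_mul D.hcop).1
  constructor
  · have h2 : k' ≡ 0 [MOD Nat.card H] := (Nat.modEq_zero_iff_dvd).2 D.hk'0
    have := D.hk1.add h2
    simpa using this
  · have h2 : k ≡ 0 [MOD H.index] := (Nat.modEq_zero_iff_dvd).2 D.hk0
    have := h2.add D.hk'1
    simpa using this

theorem pow_of_mem (D : BSHyp H k k') {h : G} (hh : h ∈ H) : h ^ k = h := by
  have h1 : orderOf h ∣ Nat.card H := Subgroup.orderOf_dvd_natCard H hh
  have : h ^ k = h ^ 1 := pow_eq_pow_iff_modEq.2 (D.hk1.of_dvd h1)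
  rw [this, pow_one]

theorem pow_pow_card (D : BSHyp H k k') (x : G) : (x ^ k) ^ Nat.card H = 1 := by
  rw [← pow_mul]
  apply orderOf_dvd_iff_pow_eq_one.1
  apply (D.ord_dvd x).trans
  rw [mul_comm k]
  exact Nat.mul_dvd_mul_left _ D.hk0

theorem pow_pow (D : BSHyp H k k') (x : G) : (x ^ k) ^ k = x ^ k := by
  have h1 : orderOf (x ^ k) ∣ Nat.card H := orderOf_dvd_of_pow_eq_one (D.pow_pow_card x)
  have : (x ^ k) ^ k = (x ^ k) ^ 1 := pow_eq_pow_iff_modEq.2 (D.hk1.of_dvd h1)
  rw [this, pow_one]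

theorem exists_conj_pow_mem (D : BSHyp H k k') (x : G) : ∃ c : G, c * x ^ k * c⁻¹ ∈ H := by
  obtain ⟨p, hp, hE⟩ := exists_prime_isElementary_zpowers (x ^ k)
  have hcard : Nat.card (Subgroup.zpowers (x ^ k)) ∣ Nat.card H := by
    rw [Nat.card_zpowers]
    exact orderOf_dvd_of_pow_eq_one (D.pow_pow_card x)
  obtain ⟨g, hg⟩ := D.helem _ p hp hE hcard
  refine ⟨g, ?_⟩
  have := hg (Subgroup.mem_map_of_mem _ (Subgroup.mem_zpowers (x ^ k)))
  simpa using this

/-- A chosen element of `H` conjugate to the `π`-part of `x`. -/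
noncomputable def sel (D : BSHyp H k k') (x : G) : H :=
  ⟨Classical.choose (D.exists_conj_pow_mem x) * x ^ k * (Classical.choose (D.exists_conj_pow_mem x))⁻¹,
    Classical.choose_spec (D.exists_conj_pow_mem x)⟩

theorem sel_isConj (D : BSHyp H k k') (x : G) : IsConj (x ^ k) (D.sel x : G) :=
  isConj_iff.2 ⟨Classical.choose (D.exists_conj_pow_mem x), rfl⟩

theorem isConj_subgroup (D : BSHyp H k k') {h₁ h₂ : H} (hc : IsConj (h₁ : G) (h₂ : G)) :
    IsConj h₁ h₂ := by
  obtain ⟨u, hu, huu⟩ := D.hfus h₁ h₁.2 h₂ h₂.2 hc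
  exact isConj_iff.2 ⟨⟨u, hu⟩, Subtype.ext huu⟩

/-- The extension of a function on `H` to `G`, constant on `π`-sections. -/
noncomputable def ext (D : BSHyp H k k') (θ : H → ℂ) : G → ℂ := fun x => θ (D.sel x)

theorem ext_eq (D : BSHyp H k k') {θ : H → ℂ} (hθ : IsClassFunction H θ) (x : G) (h : H)
    (hc : IsConj (x ^ k) (h : G)) : D.ext θ x = θ h := by
  have h1 : IsConj (D.sel x : G) (h : G) := (D.sel_isConj x).symm.trans hc
  obtain ⟨u, hu⟩ := isConj_iff.1 (D.isConj_subgroup h1)
  unfold ext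
  rw [← hu]
  exact (hθ _ _).symm

theorem ext_isClassFunction (D : BSHyp H k k') {θ : H → ℂ} (hθ : IsClassFunction H θ) :
    IsClassFunction G (D.ext θ) := by
  intro x c
  apply D.ext_eq hθ
  rw [conj_pow]
  have h1 : IsConj (c * x ^ k * c⁻¹) (x ^ k) := (isConj_iff.2 ⟨c, rfl⟩ : IsConj (x ^ k) _).symm
  exact h1.trans (D.sel_isConj x)

theorem ext_coe (D : BSHyp H k k') {θ : H → ℂ} (hθ : IsClassFunction H θ) (h : H) :
    D.ext θ (h : G) = θ h := by
  apply D.ext_eq hθ
  rw [D.pow_of_mem h.2]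

theorem ext_pow_eq_one_iff (D : BSHyp H k k') (x : G) : D.sel x = 1 ↔ x ^ k = 1 := by
  constructor
  · intro h
    have h1 := D.sel_isConj x
    rw [h] at h1
    obtain ⟨c, hc⟩ := isConj_iff.1 h1
    rw [Subgroup.coe_one] at hc
    have : x ^ k = c⁻¹ * (c * x ^ k * c⁻¹) * c := by group
    rw [this, hc]; group
  · intro h
    apply Subtype.ext
    unfold sel
    simp only [h]
    simp

theorem ext_add (D : BSHyp H k k') (θ ψ : H → ℂ) : D.ext (θ + ψ) = D.ext θ + D.ext ψ := rfl

theorem ext_smul (D : BSHyp H k k') (c : ℂ) (θ : H → ℂ) : D.ext (c • θ) = c • D.ext θ := rfl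

theorem ext_sum (D : BSHyp H k k') {ι : Type*} (s : Finset ι) (f : ι → H → ℂ) :
    D.ext (∑ i ∈ s, f i) = ∑ i ∈ s, D.ext (f i) := by
  funext x
  simp only [ext, Finset.sum_apply]

theorem ext_one (D : BSHyp H k k') : D.ext (fun _ => (1 : ℂ)) = fun _ => (1 : ℂ) := rfl

/-- The restriction of the extension of a character of `H` to an elementary subgroup is a
character. -/
theorem ext_restrict_isCharacter (D : BSHyp H k k') {θ : H → ℂ} (hθ : IsCharacter H θ)
    (E : Subgroup G) (p : ℕ) (hp : p.Prime) (hE : IsElementary p E) :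
    IsCharacter E (fun e : E => D.ext θ (e : G)) := by
  have hcardE : Nat.card E ∣ Nat.card H * H.index := by
    rw [← D.card_eq]
    exact Subgroup.card_subgroup_dvd_card E
  let φ : E →* E :=
    { toFun := fun e => e ^ k
      map_one' := one_pow k
      map_mul' := mul_pow_of_isElementary hp hE D.hcop hcardE D.hk0 D.hk'0 D.kk' }
  set F' : Subgroup G := φ.range.map E.subtype with hF'
  have hF'el : IsElementary p F' := by
    have h1 : IsElementary p φ.range := Cfsg.Agent.Helper3.isElementary_subgroup hp hE φ.range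
    exact isElementary_of_mulEquiv
      (Subgroup.equivMapOfInjective φ.range E.subtype E.subtype_injective) h1
  have hF'card : Nat.card F' ∣ Nat.card H := by
    have h1 : Nat.card F' ∣ Nat.card H * H.index := by
      rw [← D.card_eq]
      exact Subgroup.card_subgroup_dvd_card F'
    have h2 : Nat.Coprime (Nat.card F') H.index := by
      apply card_coprime_of_pow_eq_one D.hcop
      rintro ⟨u, hu⟩
      obtain ⟨v, ⟨e, rfl⟩, rfl⟩ := Subgroup.mem_map.1 hu
      apply Subtype.ext
      change ((e ^ k : E) : G) ^ Nat.card H = 1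
      rw [Subgroup.coe_pow]
      exact D.pow_pow_card (e : G)
    exact Nat.Coprime.dvd_of_dvd_mul_right h2 h1
  obtain ⟨g, hg⟩ := D.helem F' p hp hF'el hF'card
  have hmem : ∀ e : E, g * (e : G) ^ k * g⁻¹ ∈ H := by
    intro e
    have h0 : (e ^ k : E) ∈ φ.range := ⟨e, rfl⟩
    have h1 : ((e ^ k : E) : G) ∈ F' := Subgroup.mem_map_of_mem E.subtype h0
    have := hg (Subgroup.mem_map_of_mem _ h1)
    simpa using this
  let ι : E →* H :=
    MonoidHom.codRestrict ((MulAut.conj g).toMonoidHom.comp (E.subtype.comp φ)) H (by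
      intro e
      have := hmem e
      simpa [φ] using this)
  have hcf : IsClassFunction H θ := Cfsg.Agent.Helper81.isClassFunction_of_isCharacter hθ
  have heq : (fun e : E => D.ext θ (e : G)) = fun e => θ (ι e) := by
    funext e
    apply D.ext_eq hcf
    have : ((ι e : H) : G) = g * (e : G) ^ k * g⁻¹ := by
      simp [ι, φ]
    rw [this]
    exact isConj_iff.2 ⟨g, rfl⟩
  rw [heq]
  exact Cfsg.Agent.Helper81.isCharacter_comp_hom ι hθ

/-- The extension of a character of `H` is a generalized character of `G`. -/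
theorem ext_isGeneralizedCharacter (D : BSHyp H k k') {θ : H → ℂ} (hθ : IsCharacter H θ) :
    IsGeneralizedCharacter G (D.ext θ) := by
  apply Cfsg.Agent.S0164.result _
    (D.ext_isClassFunction (Cfsg.Agent.Helper81.isClassFunction_of_isCharacter hθ))
  intro E p hp hE
  exact ⟨_, 0, D.ext_restrict_isCharacter hθ E p hp hE, Cfsg.Agent.Helper81.isCharacter_zero,
    (sub_zero _).symm⟩

end BSHyp

end BS

section GenChar

variable {G : Type u} [Group G] [Fintype G]

/-- The inner product of a generalized character with an irreducible character is an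
algebraic integer (indeed an integer). -/
theorem classInner_genChar_mem_algInt {ψ : G → ℂ} (hψ : IsGeneralizedCharacter G ψ)
    {χ : G → ℂ} (hχ : IsIrrCharacter G χ) : classInner ψ χ ∈ AlgInt := by
  classical
  have hfin : Finite (IrrCharacter G) := Cfsg.Agent.Helper81.irr_finite
  have : Fintype (IrrCharacter G) := Fintype.ofFinite _
  obtain ⟨α, β, hα, hβ, rfl⟩ := hψ
  obtain ⟨ma, hma⟩ := Cfsg.Agent.Helper81.exists_nat_decomp hα
  obtain ⟨mb, hmb⟩ := Cfsg.Agent.Helper81.exists_nat_decomp hβ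
  rw [Cfsg.Agent.Helper81.classInner_sub_left]
  have h1 : classInner α χ = (ma ⟨χ, hχ⟩ : ℂ) := by
    conv_lhs => rw [hma]
    exact Cfsg.Agent.Helper81.classInner_nat_decomp (fun χ' => (ma χ' : ℂ)) ⟨χ, hχ⟩
  have h2 : classInner β χ = (mb ⟨χ, hχ⟩ : ℂ) := by
    conv_lhs => rw [hmb]
    exact Cfsg.Agent.Helper81.classInner_nat_decomp (fun χ' => (mb χ' : ℂ)) ⟨χ, hχ⟩
  rw [h1, h2]
  exact Subalgebra.sub_mem _ (natCast_mem AlgInt _) (natCast_mem AlgInt _)

end GenChar


section Core

variable {G : Type u} [Group G] [Fintype G] {H : Subgroup G} [Fintype H] {k k' : ℕ}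

namespace BSHyp

/-- The linear functional `F ↦ [F̃, 1_G]`. -/
noncomputable def L (D : BSHyp H k k') (θ : H → ℂ) : ℂ :=
  classInner (D.ext θ) (fun _ => (1 : ℂ))

theorem L_sum (D : BSHyp H k k') {ι : Type*} (s : Finset ι) (c : ι → ℂ) (f : ι → H → ℂ) :
    D.L (∑ i ∈ s, c i • f i) = ∑ i ∈ s, c i * D.L (f i) := by
  unfold L
  rw [D.ext_sum, Cfsg.Agent.Helper81.classInner_sum_left]
  apply Finset.sum_congr rfl
  intro i _
  rw [D.ext_smul, Cfsg.Agent.Helper81.classInner_smul_left]

theorem L_smul (D : BSHyp H k k') (c : ℂ) (f : H → ℂ) : D.L (c • f) = c * D.L f := by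
  unfold L
  rw [D.ext_smul, Cfsg.Agent.Helper81.classInner_smul_left]

theorem L_one (D : BSHyp H k k') : D.L (fun _ => (1 : ℂ)) = 1 := by
  unfold L
  rw [D.ext_one]
  exact Cfsg.Agent.Helper96.classInner_one_one

theorem L_irr_mem_algInt (D : BSHyp H k k') {θ : H → ℂ} (hθ : IsIrrCharacter H θ) :
    D.L θ ∈ AlgInt :=
  classInner_genChar_mem_algInt
    (D.ext_isGeneralizedCharacter (Cfsg.Agent.Helper81.IsIrrCharacter.isCharacter hθ))
    Cfsg.Agent.Helper3.isIrrCharacter_one

variable [Fintype (IrrCharacter H)]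

/-- The scaled class indicator `|C_H(h)| 1_{cl(h)}`, written through the irreducible characters. -/
noncomputable def Fh (h : H) : H → ℂ :=
  ∑ θ : IrrCharacter H, conj ((θ : H → ℂ) h) • (θ : H → ℂ)

open scoped Classical in
theorem Fh_apply (h h' : H) :
    Fh h h' = if IsConj h' h then (Nat.card (Subgroup.centralizer ({h'} : Set H)) : ℂ) else 0 := by
  have h1 := Cfsg.Agent.Helper3.column_orthogonality h' h
  refine Eq.trans ?_ (h1.trans ?_)
  · unfold Fh
    rw [Finset.sum_apply]
    refine Finset.sum_congr (by ext; simp) ?_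
    intro θ _
    simp only [Pi.smul_apply, smul_eq_mul]
    ring
  · congr

theorem L_Fh (D : BSHyp H k k') (h : H) :
    D.L (Fh h) = ∑ θ : IrrCharacter H, conj ((θ : H → ℂ) h) * D.L (θ : H → ℂ) := by
  unfold Fh
  exact D.L_sum Finset.univ _ _

theorem L_Fh_mem_algInt (D : BSHyp H k k') (h : H) : D.L (Fh h) ∈ AlgInt := by
  rw [D.L_Fh]
  apply Subalgebra.sum_mem
  intro θ _
  apply Subalgebra.mul_mem
  · exact conj_mem_algInt (Cfsg.Agent.Helper79.irr_isIntegral θ h)
  · exact D.L_irr_mem_algInt θ.2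

open scoped Classical in
theorem L_Fh_eq_nat (D : BSHyp H k k') (h : H) : ∃ s : ℕ, 1 ≤ s ∧ D.L (Fh h) = (s : ℂ) := by
  set Z : G → ℕ := fun x =>
    if IsConj (D.sel x) h then Nat.card (Subgroup.centralizer ({D.sel x} : Set H)) else 0 with hZ
  set T : ℕ := ∑ x : G, Z x with hT
  have hL : D.L (Fh h) = (T : ℂ) / (Nat.card G : ℂ) := by
    unfold L classInner
    rw [div_eq_inv_mul, hT]
    push_cast
    congr 1
    apply Finset.sum_congr rfl
    intro x _
    have : D.ext (Fh h) x = Fh h (D.sel x) := rfl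
    rw [this, Fh_apply, map_one, mul_one]
    simp only [hZ]
    split_ifs <;> simp
  have hG0 : Nat.card G ≠ 0 := Nat.card_pos.ne'
  have hdvd : Nat.card G ∣ T := by
    apply Cfsg.Agent.Helper3.rat_of_isIntegral_natCast_div T (Nat.card G) hG0
    rw [← hL]
    exact D.L_Fh_mem_algInt h
  have hTpos : 0 < T := by
    have h1 : Z (h : G) ≤ T := Finset.single_le_sum (f := Z) (fun _ _ => Nat.zero_le _)
      (Finset.mem_univ (h : G))
    have h2 : 0 < Z (h : G) := by
      have hc : IsConj (D.sel (h : G)) h := by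
        apply D.isConj_subgroup
        have := D.sel_isConj (h : G)
        rw [D.pow_of_mem h.2] at this
        exact this.symm
      simp only [hZ, if_pos hc]
      exact Nat.card_pos
    omega
  obtain ⟨s, hs⟩ := hdvd
  refine ⟨s, ?_, ?_⟩
  · rcases Nat.eq_zero_or_pos s with h0 | h0
    · rw [h0, mul_zero] at hs
      omega
    · exact h0
  · rw [hL, hs]
    have : (Nat.card G : ℂ) ≠ 0 := by exact_mod_cast hG0
    push_cast
    field_simp

theorem sum_conj_irr (θ : IrrCharacter H) [Decidable ((θ : H → ℂ) = fun _ => (1 : ℂ))] :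
    ∑ h : H, conj ((θ : H → ℂ) h) =
      if (θ : H → ℂ) = (fun _ => (1 : ℂ)) then (Nat.card H : ℂ) else 0 := by
  have h1 := Cfsg.Agent.Helper81.irr_orthonormal θ.2
    (Cfsg.Agent.Helper3.isIrrCharacter_one (G := H))
  unfold classInner at h1
  have hH0 : (Nat.card H : ℂ) ≠ 0 := by
    have : Nat.card H ≠ 0 := Nat.card_pos.ne'
    exact_mod_cast this
  have h2 : ∑ h : H, (θ : H → ℂ) h = (Nat.card H : ℂ) *
      (if (θ : H → ℂ) = (fun _ => (1 : ℂ)) then 1 else 0) := by
    have h3 : ∑ h : H, (θ : H → ℂ) h * conj (1 : ℂ) = ∑ h : H, (θ : H → ℂ) h := by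
      apply Finset.sum_congr rfl
      intro h _
      rw [map_one, mul_one]
    rw [h3] at h1
    rw [← mul_right_inj' (inv_ne_zero hH0)]
    rw [← mul_assoc, inv_mul_cancel₀ hH0, one_mul]
    convert h1 using 2
  rw [← map_sum, h2]
  split_ifs <;> simp

theorem sum_L_Fh (D : BSHyp H k k') : ∑ h : H, D.L (Fh h) = (Nat.card H : ℂ) := by
  classical
  simp_rw [D.L_Fh]
  rw [Finset.sum_comm]
  have h1 : ∀ θ : IrrCharacter H, ∑ h : H, conj ((θ : H → ℂ) h) * D.L (θ : H → ℂ)
      = (if (θ : H → ℂ) = (fun _ => (1 : ℂ)) then (Nat.card H : ℂ) else 0) * D.L (θ : H → ℂ) := by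
    intro θ
    rw [← Finset.sum_mul, sum_conj_irr]
  simp_rw [h1]
  rw [Finset.sum_eq_single (⟨fun _ => (1 : ℂ), Cfsg.Agent.Helper3.isIrrCharacter_one⟩ :
    IrrCharacter H)]
  · simp only [if_true]
    rw [D.L_one, mul_one]
  · intro θ _ hne
    have : ¬ ((θ : H → ℂ) = fun _ => (1 : ℂ)) := fun h => hne (Subtype.ext h)
    rw [if_neg this, zero_mul]
  · intro h
    exact absurd (Finset.mem_univ _) h

theorem L_Fh_eq_one (D : BSHyp H k k') (h : H) : D.L (Fh h) = 1 := by
  classical
  choose s hs1 hs using D.L_Fh_eq_nat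
  have hsum : ∑ h : H, s h = Nat.card H := by
    have h1 := D.sum_L_Fh
    simp_rw [hs] at h1
    exact_mod_cast h1
  have hsum2 : ∑ h : H, (s h - 1) = 0 := by
    have h2 : ∑ h : H, s h = ∑ h : H, (s h - 1) + ∑ _h : H, 1 := by
      rw [← Finset.sum_add_distrib]
      apply Finset.sum_congr rfl
      intro h _
      have := hs1 h
      omega
    rw [hsum] at h2
    simp only [Finset.sum_const, Finset.card_univ, smul_eq_mul, mul_one] at h2
    rw [Nat.card_eq_fintype_card] at h2
    omega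
  have h3 := (Finset.sum_eq_zero_iff.1 hsum2) h (Finset.mem_univ h)
  have h4 : s h = 1 := by have := hs1 h; omega
  rw [hs, h4, Nat.cast_one]

theorem irr_eq_sum_Fh (θ₀ : IrrCharacter H) :
    (θ₀ : H → ℂ) = (Nat.card H : ℂ)⁻¹ • ∑ h : H, (θ₀ : H → ℂ) h • Fh h := by
  classical
  have hH0 : (Nat.card H : ℂ) ≠ 0 := by
    have : Nat.card H ≠ 0 := Nat.card_pos.ne'
    exact_mod_cast this
  funext h'
  simp only [Pi.smul_apply, Finset.sum_apply, smul_eq_mul, Fh]
  have h1 : ∑ h : H, (θ₀ : H → ℂ) h * ∑ ψ : IrrCharacter H, conj ((ψ : H → ℂ) h) * (ψ : H → ℂ) h'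
      = ∑ ψ : IrrCharacter H, (ψ : H → ℂ) h' *
          ((Nat.card H : ℂ) * classInner (θ₀ : H → ℂ) (ψ : H → ℂ)) := by
    simp_rw [Finset.mul_sum]
    rw [Finset.sum_comm]
    apply Finset.sum_congr rfl
    intro ψ _
    unfold classInner
    rw [← mul_assoc (Nat.card H : ℂ), mul_inv_cancel₀ hH0, one_mul, Finset.mul_sum]
    apply Finset.sum_congr rfl
    intro h _
    ring
  rw [h1, Finset.sum_eq_single θ₀]
  · rw [Cfsg.Agent.Helper81.irr_orthonormal θ₀.2 θ₀.2, if_pos rfl, mul_one]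
    field_simp
  · intro ψ _ hne
    rw [Cfsg.Agent.Helper81.irr_orthonormal θ₀.2 ψ.2,
      if_neg (fun h => hne (Subtype.ext h.symm)), mul_zero, mul_zero]
  · intro h
    exact absurd (Finset.mem_univ _) h

theorem L_irr (D : BSHyp H k k') (θ₀ : IrrCharacter H) :
    D.L (θ₀ : H → ℂ) = classInner (θ₀ : H → ℂ) (fun _ => (1 : ℂ)) := by
  conv_lhs => rw [irr_eq_sum_Fh θ₀]
  rw [D.L_smul, D.L_sum]
  simp_rw [D.L_Fh_eq_one, mul_one]
  unfold classInner
  congr 1
  apply Finset.sum_congr rfl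
  intro h _
  rw [map_one, mul_one]

theorem L_classFunction (D : BSHyp H k k') {F : H → ℂ} (hF : IsClassFunction H F) :
    D.L F = classInner F (fun _ => (1 : ℂ)) := by
  have hexp := Cfsg.Agent.Helper81.class_function_expansion hF
  conv_lhs => rw [hexp]
  conv_rhs => rw [hexp]
  rw [D.L_sum, Cfsg.Agent.Helper81.classInner_sum_left]
  apply Finset.sum_congr rfl
  intro θ _
  rw [Cfsg.Agent.Helper81.classInner_smul_left, D.L_irr]

/-- The extension of an irreducible character has norm one. -/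
theorem ext_norm (D : BSHyp H k k') (θ : IrrCharacter H) :
    classInner (D.ext (θ : H → ℂ)) (D.ext (θ : H → ℂ)) = 1 := by
  have hcf : IsClassFunction H (θ : H → ℂ) :=
    Cfsg.Agent.Helper81.isClassFunction_of_isCharacter
      (Cfsg.Agent.Helper81.IsIrrCharacter.isCharacter θ.2)
  set F : H → ℂ := fun h => (θ : H → ℂ) h * conj ((θ : H → ℂ) h) with hF
  have hFc : IsClassFunction H F := by
    intro g h
    simp only [hF]
    rw [hcf g h]
  have h1 := D.L_classFunction hFc
  have h2 : D.L F = classInner (D.ext (θ : H → ℂ)) (D.ext (θ : H → ℂ)) := by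
    unfold L classInner
    congr 1
    apply Finset.sum_congr rfl
    intro x _
    rw [map_one, mul_one]
    rfl
  have h3 : classInner F (fun _ => (1 : ℂ)) = classInner (θ : H → ℂ) (θ : H → ℂ) := by
    unfold classInner
    congr 1
    apply Finset.sum_congr rfl
    intro x _
    rw [map_one, mul_one]
  rw [← h2, h1, h3, Cfsg.Agent.Helper81.irr_orthonormal θ.2 θ.2, if_pos rfl]

/-- The extension of an irreducible character of `H` is an irreducible character of `G`. -/
theorem ext_isIrrCharacter (D : BSHyp H k k') (θ : IrrCharacter H) :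
    IsIrrCharacter G (D.ext (θ : H → ℂ)) := by
  obtain ⟨α, β, hα, hβ, hαβ⟩ :=
    D.ext_isGeneralizedCharacter (Cfsg.Agent.Helper81.IsIrrCharacter.isCharacter θ.2)
  obtain ⟨d, hd, hd1⟩ := Cfsg.Agent.Helper96.irr_apply_one_pos θ.2
  have hcf : IsClassFunction H (θ : H → ℂ) :=
    Cfsg.Agent.Helper81.isClassFunction_of_isCharacter
      (Cfsg.Agent.Helper81.IsIrrCharacter.isCharacter θ.2)
  have h1 : D.ext (θ : H → ℂ) 1 = (d : ℂ) := by
    have := D.ext_coe hcf (1 : H)
    rw [Subgroup.coe_one] at this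
    rw [this, hd1]
  rw [hαβ]
  apply Cfsg.Agent.Helper96.isIrrCharacter_of_sub_of_norm_one hα hβ _ d hd
  · rw [← hαβ]; exact h1
  · rw [← hαβ]; exact D.ext_norm θ

/-- The set of `π'`-elements is a normal subgroup. -/
theorem exists_normal_kernel (D : BSHyp H k k') :
    ∃ K : Subgroup G, K.Normal ∧ ∀ x : G, x ∈ K ↔ x ^ k = 1 := by
  classical
  have hdeg : ∀ θ : IrrCharacter H, ∃ d : ℕ, (θ : H → ℂ) 1 = (d : ℂ) := by
    intro θ
    obtain ⟨d, -, hd⟩ := Cfsg.Agent.Helper96.irr_apply_one_pos θ.2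
    exact ⟨d, hd⟩
  choose d hd using hdeg
  set ρ : G → ℂ := ∑ θ : IrrCharacter H, d θ • D.ext (θ : H → ℂ) with hρ
  have hρc : IsCharacter G ρ := by
    apply Cfsg.Agent.Helper81.isCharacter_sum
    intro θ _
    exact Cfsg.Agent.Helper81.isCharacter_nsmul _
      (Cfsg.Agent.Helper81.IsIrrCharacter.isCharacter (D.ext_isIrrCharacter θ))
  have hH0 : (Nat.card H : ℂ) ≠ 0 := by
    have : Nat.card H ≠ 0 := Nat.card_pos.ne'
    exact_mod_cast this
  have hρx : ∀ x : G, ρ x = if D.sel x = 1 then (Nat.card H : ℂ) else 0 := by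
    intro x
    have h1 := Cfsg.Agent.Helper79.sum_degree_mul_eq (D.sel x)
    refine Eq.trans ?_ (h1.trans ?_)
    · simp only [hρ, Finset.sum_apply, nsmul_eq_mul]
      refine Finset.sum_congr (by ext; simp) ?_
      intro θ _
      rw [hd θ]
      rfl
    · congr
  obtain ⟨K, hKn, hK⟩ := Cfsg.Agent.Helper96.exists_normal_ker_of_isCharacter hρc
  refine ⟨K, hKn, ?_⟩
  intro x
  have hsel1 : D.sel (1 : G) = 1 := (D.ext_pow_eq_one_iff 1).2 (one_pow k)
  rw [hK x, hρx x, hρx 1, hsel1, if_pos rfl, ← D.ext_pow_eq_one_iff x]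
  constructor
  · intro h
    by_contra hne
    rw [if_neg hne] at h
    exact hH0 h.symm
  · intro h
    rw [if_pos h]

/-- **Brauer–Suzuki**: the normal complement. -/
theorem exists_normal_complement (D : BSHyp H k k') :
    ∃ K : Subgroup G, K.Normal ∧ K ⊔ H = ⊤ ∧ K ⊓ H = ⊥ := by
  obtain ⟨K, hKn, hK⟩ := D.exists_normal_kernel
  have hmpos : 0 < Nat.card H := Nat.card_pos
  have hdisj : K ⊓ H = ⊥ := by
    rw [eq_bot_iff]
    intro x hx
    rw [Subgroup.mem_inf] at hx
    rw [Subgroup.mem_bot]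
    have h1 := (hK x).1 hx.1
    rw [D.pow_of_mem hx.2] at h1
    exact h1
  -- the index of `K` divides `|H|`
  have hidx : K.index ∣ Nat.card H := by
    have h1 : K.index ∣ Nat.card H * H.index := by
      rw [← D.card_eq]
      exact Subgroup.index_dvd_card K
    have h2 : Nat.Coprime K.index H.index := by
      rw [Subgroup.index_eq_card]
      apply card_coprime_of_pow_eq_one D.hcop
      intro q
      obtain ⟨x, rfl⟩ := QuotientGroup.mk_surjective q
      rw [← QuotientGroup.mk_pow, QuotientGroup.eq_one_iff, hK, ← pow_mul, mul_comm, pow_mul]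
      exact D.pow_pow_card x
    exact Nat.Coprime.dvd_of_dvd_mul_right h2 h1
  -- the order of `K` divides the index of `H`
  have hKcard : Nat.card K ∣ H.index := by
    have h1 : Nat.card K ∣ Nat.card H * H.index := by
      rw [← D.card_eq]
      exact Subgroup.card_subgroup_dvd_card K
    have hkm : Nat.Coprime k (Nat.card H) := by
      have := Nat.ModEq.gcd_eq D.hk1
      rw [Nat.gcd_one_left] at this
      exact this
    have h2 : Nat.Coprime (Nat.card K) (Nat.card H) := by
      apply card_coprime_of_pow_eq_one D.hcop.symm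
      rintro ⟨x, hx⟩
      apply Subtype.ext
      change x ^ H.index = 1
      have h3 : orderOf x ∣ k := orderOf_dvd_of_pow_eq_one ((hK x).1 hx)
      have h4 : Nat.Coprime (orderOf x) (Nat.card H) := Nat.Coprime.coprime_dvd_left h3 hkm
      have h5 : orderOf x ∣ H.index := Nat.Coprime.dvd_of_dvd_mul_left h4 (D.ord_dvd x)
      exact orderOf_dvd_iff_pow_eq_one.1 h5
    exact Nat.Coprime.dvd_of_dvd_mul_left h2 h1
  have hKeq : Nat.card K = H.index := by
    have h1 : Nat.card K * K.index = Nat.card H * H.index := by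
      rw [Subgroup.card_mul_index, D.card_eq]
    have hn0 : 0 < H.index := Nat.pos_of_ne_zero Subgroup.index_ne_zero_of_finite
    have h2 : K.index ≤ Nat.card H := Nat.le_of_dvd hmpos hidx
    have h3 : Nat.card K ≤ H.index := Nat.le_of_dvd hn0 hKcard
    have hK0 : 0 < Nat.card K := Nat.card_pos
    by_contra hne
    have h4 : Nat.card K < H.index := lt_of_le_of_ne h3 hne
    have h5 : Nat.card K * K.index < Nat.card H * H.index := by
      calc Nat.card K * K.index ≤ Nat.card K * Nat.card H := Nat.mul_le_mul_left _ h2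
        _ < H.index * Nat.card H := Nat.mul_lt_mul_of_pos_right h4 hmpos
        _ = Nat.card H * H.index := mul_comm _ _
    omega
  refine ⟨K, hKn, ?_, hdisj⟩
  have hcompl : Subgroup.IsComplement' K H := by
    apply Subgroup.isComplement'_of_card_mul_and_disjoint
    · rw [hKeq, mul_comm, ← D.card_eq]
    · rw [disjoint_iff]
      exact hdisj
  exact hcompl.sup_eq_top

end BSHyp

end Core

end Cfsg.Agent.Helper15
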