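import Mathlib
import Cfsg.Agent.Lib.Helper15.AugNilp

set_option autoImplicit false

/-!
# The socle of the group algebra of a `p`-group in characteristic `p`

Every nonzero left ideal of `F[P]` contains the sum of all group elements.
-/

namespace Cfsg.Agent.Helper15

open MonoidAlgebra

/-- An element of the group algebra fixed by left multiplication by all group elements is a
scalar multiple of the sum of all group elements. -/
theorem eq_smul_sum_of_single_mul_eq (F : Type*) [Field F] {P : Type*} [Group P] [Fintype P]
    (y : MonoidAlgebra F P) (hy : ∀ u : P, single u (1 : F) * y = y) :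
    y = (y.coeff 1) • ∑ u : P, single u (1 : F) := by
  classical
  have hconst : ∀ g : P, y.coeff g = y.coeff 1 := by
    intro g
    have h1 := coeff_single_mul_mul y (1 : F) g 1
    rw [hy g, mul_one, one_mul] at h1
    exact h1
  apply MonoidAlgebra.ext
  ext g
  rw [coeff_smul, Finsupp.smul_apply, coeff_sum, Finsupp.finsetSum_apply, smul_eq_mul]
  simp only [coeff_single, Finsupp.single_apply]
  rw [Finset.sum_ite_eq' Finset.univ g]
  simp [hconst g]

/-- **Socle lemma**: for a finite `p`-group `P` and a field `F` of characteristic `p`, every
nonzero element `α` of `F[P]` has a left multiple equal to the sum of all group elements. -/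
theorem exists_mul_eq_sum_single (F : Type*) [Field F] (p : ℕ) [Fact p.Prime] [CharP F p]
    {P : Type*} [Group P] [Fintype P] (hP : IsPGroup p P) (α : MonoidAlgebra F P)
    (hα : α ≠ 0) : ∃ β : MonoidAlgebra F P, β * α = ∑ u : P, single u (1 : F) := by
  classical
  obtain ⟨n, hn⟩ := IsPGroup.iff_card.mp hP
  set I := augSpan F (⊤ : Subgroup P) with hI
  have hnil : I ^ (p ^ n) = ⊥ := augSpan_top_pow_eq_bot F p n P hn
  have hQ : ∀ j : ℕ, ∀ y : MonoidAlgebra F P, y ≠ 0 → (∀ x ∈ I ^ j, x * y = 0) →
      ∃ β : MonoidAlgebra F P, β * y = ∑ u : P, single u (1 : F) := by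
    intro j
    induction j with
    | zero =>
      intro y hy h
      exfalso
      apply hy
      have h1 : (1 : MonoidAlgebra F P) ∈ I ^ 0 := by
        rw [pow_zero]
        exact Submodule.one_le.mp le_rfl
      simpa using h 1 h1
    | succ j ih =>
      intro y hy h
      by_cases hfix : ∀ u : P, (single u (1 : F) - 1) * y = 0
      · have hfix' : ∀ u : P, single u (1 : F) * y = y := by
          intro u
          have := hfix u
          rw [sub_mul, one_mul, sub_eq_zero] at this
          exact this
        have hy1 := eq_smul_sum_of_single_mul_eq F y hfix'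
        have hc : y.coeff 1 ≠ 0 := by
          intro h0
          rw [h0, zero_smul] at hy1
          exact hy hy1
        set c := y.coeff 1 with hcdef
        refine ⟨c⁻¹ • 1, ?_⟩
        rw [smul_mul_assoc, one_mul, hy1, smul_smul, inv_mul_cancel₀ hc, one_smul]
      · push Not at hfix
        obtain ⟨u, hu⟩ := hfix
        have hmem : (single u (1 : F) - 1 : MonoidAlgebra F P) ∈ I :=
          single_sub_one_mem_augSpan F ⊤ (Subgroup.mem_top u)
        obtain ⟨β', hβ'⟩ := ih ((single u (1 : F) - 1) * y) hu (by
          intro x hx
          rw [← mul_assoc]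
          apply h
          rw [pow_succ]
          exact Submodule.mul_mem_mul hx hmem)
        exact ⟨β' * (single u (1 : F) - 1), by rw [mul_assoc, hβ']⟩
  apply hQ (p ^ n) α hα
  intro x hx
  rw [hnil, Submodule.mem_bot] at hx
  rw [hx, zero_mul]

end Cfsg.Agent.Helper15
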