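import Mathlib
import Cfsg.Agent.Lib.Helper15.Socle

set_option autoImplicit false
set_option linter.unusedSectionVars false

/-!
# Lattices over a valuation ring of `ℂ` and `p`-groups

Let `O` be a valuation subring of `ℂ` in which the prime `p` is not a unit, `P` a finite `p`-group
acting on a complex vector space `W` and `V` an `O`-submodule of `W` stable under `P`.  If the
`P`-orbit of `v ∈ V` is linearly dependent over `ℂ`, then `∑_{u ∈ P} u v ∈ 𝔪 V`.
-/

namespace Cfsg.Agent.Helper15

open MonoidAlgebra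

/-- There is a valuation subring of `ℂ` in which the prime `p` is a non-unit. -/
theorem exists_valuationSubring_prime (p : ℕ) (hp : p.Prime) :
    ∃ O : ValuationSubring ℂ, (p : ℂ) ∈ O.nonunits := by
  let A : Subring ℂ := (⊥ : Subring ℂ)
  have hpA : (p : ℂ) ∈ A := natCast_mem A p
  let I : Ideal A := Ideal.span {⟨(p : ℂ), hpA⟩}
  have hI : I ≠ ⊤ := by
    intro h
    rw [Ideal.eq_top_iff_one, Ideal.mem_span_singleton'] at h
    obtain ⟨⟨a, ha⟩, h1⟩ := h
    obtain ⟨z, rfl⟩ := Subring.mem_bot.mp ha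
    have h2 := congrArg Subtype.val h1
    simp only [Subring.coe_mul, Subring.coe_one] at h2
    have h3 : ((z * p : ℤ) : ℂ) = ((1 : ℤ) : ℂ) := by push_cast; exact h2
    have h4 : z * p = 1 := by exact_mod_cast h3
    have h5 : (p : ℤ) ∣ 1 := ⟨z, by rw [mul_comm]; exact h4.symm⟩
    have h6 : (p : ℤ) = 1 ∨ (p : ℤ) = -1 := Int.isUnit_iff.mp (isUnit_of_dvd_one h5)
    have hp2 := hp.two_le
    omega
  obtain ⟨O, _, hO⟩ := Ideal.image_subset_nonunits_valuationSubring I hI
  refine ⟨O, hO ⟨⟨(p : ℂ), hpA⟩, ?_, rfl⟩⟩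
  exact Ideal.subset_span rfl

variable {P : Type*} [Group P] [Fintype P]

/-- The key lemma. -/
theorem sum_smul_mem_smul_of_dependent (p : ℕ) [hp : Fact p.Prime] (hP : IsPGroup p P)
    (O : ValuationSubring ℂ) (hpO : (p : ℂ) ∈ O.nonunits)
    {W : Type*} [AddCommGroup W] [Module ℂ W]
    (ρ : Representation ℂ P W) (V : Submodule O W) (hV : ∀ u : P, ∀ v ∈ V, ρ u v ∈ V)
    (v : W) (hv : v ∈ V) (hdep : ¬ LinearIndependent ℂ (fun u : P => ρ u v)) :
    ∑ u : P, ρ u v ∈ (IsLocalRing.maximalIdeal O) • V := by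
  classical
  -- a nontrivial relation
  obtain ⟨c, hc0, u₁, hu₁⟩ := Fintype.not_linearIndependent_iff.mp hdep
  -- normalise
  obtain ⟨u₀, -, hu₀⟩ := Finset.exists_max_image Finset.univ (fun u => O.valuation (c u))
    ⟨u₁, Finset.mem_univ _⟩
  have hcu₀ : c u₀ ≠ 0 := by
    intro h0
    have h1 := hu₀ u₁ (Finset.mem_univ _)
    rw [h0, map_zero] at h1
    exact hu₁ ((Valuation.zero_iff _).mp (le_antisymm h1 zero_le))
  have haO : ∀ u, c u / c u₀ ∈ O := by
    intro u
    rw [← ValuationSubring.valuation_le_one_iff, map_div₀]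
    have hpos : O.valuation (c u₀) ≠ 0 := (Valuation.ne_zero_iff _).mpr hcu₀
    rw [div_le_one₀ (lt_of_le_of_ne zero_le hpos.symm)]
    exact hu₀ u (Finset.mem_univ _)
  set a : P → O := fun u => ⟨c u / c u₀, haO u⟩ with ha
  have harel : ∑ u : P, ((a u : O) : ℂ) • ρ u v = 0 := by
    have : ∑ u : P, ((a u : O) : ℂ) • ρ u v = (c u₀)⁻¹ • ∑ u : P, c u • ρ u v := by
      rw [Finset.smul_sum]
      refine Finset.sum_congr rfl fun u _ => ?_
      rw [smul_smul]
      congr 1
      simp only [ha]
      field_simp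
    rw [this, hc0, smul_zero]
  have hau₀ : a u₀ = 1 := by
    apply Subtype.ext
    simp only [ha]
    exact div_self hcu₀
  -- residue field
  set k := IsLocalRing.ResidueField O with hk
  set res := IsLocalRing.residue O with hres
  have hpm : ((p : ℕ) : O) ∈ IsLocalRing.maximalIdeal O := by
    obtain ⟨hmem, h⟩ := ValuationSubring.mem_nonunits_iff_exists_mem_maximalIdeal.mp hpO
    have : (⟨(p : ℂ), hmem⟩ : O) = ((p : ℕ) : O) := by
      apply Subtype.ext; simp
    rwa [this] at h
  have : CharP k p := by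
    rw [CharP.charP_iff_prime_eq_zero hp.out]
    have := (IsLocalRing.residue_eq_zero_iff ((p : ℕ) : O)).mpr hpm
    simpa using this
  -- group algebra elements
  set AO : MonoidAlgebra O P := ∑ u : P, single u (a u) with hAO
  set α : MonoidAlgebra k P := mapRingHom P res AO with hα
  have hαne : α ≠ 0 := by
    intro h0
    have h1 : α.coeff u₀ = 1 := by
      rw [hα, coeff_mapRingHom, hAO, coeff_sum, Finsupp.finsetSum_apply]
      simp only [coeff_single, Finsupp.single_apply]
      rw [Finset.sum_ite_eq' Finset.univ u₀]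
      simp [hau₀]
    rw [h0] at h1
    simp at h1
  obtain ⟨β, hβ⟩ := exists_mul_eq_sum_single k p hP α hαne
  -- lift `β`
  have hsurj : Function.Surjective res := Ideal.Quotient.mk_surjective
  choose b hb using fun u : P => hsurj (β.coeff u)
  set BO : MonoidAlgebra O P := ∑ u : P, single u (b u) with hBO
  have hBO' : mapRingHom P res BO = β := by
    apply MonoidAlgebra.ext
    ext g
    rw [coeff_mapRingHom, hBO, coeff_sum, Finsupp.finsetSum_apply]
    simp only [coeff_single, Finsupp.single_apply]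
    rw [Finset.sum_ite_eq' Finset.univ g]
    simp [hb g]
  set σO : MonoidAlgebra O P := ∑ u : P, single u (1 : O) with hσO
  set D : MonoidAlgebra O P := BO * AO - σO with hD
  have hDm : ∀ g : P, D.coeff g ∈ IsLocalRing.maximalIdeal O := by
    intro g
    rw [← IsLocalRing.residue_eq_zero_iff, ← hres, ← coeff_mapRingHom, hD, map_sub, map_mul, hBO',
      ← hα, hβ, hσO, map_sum]
    simp only [mapRingHom_single, map_one, sub_self]
    rfl
  -- the action
  set Ψ : MonoidAlgebra O P →+* Module.End ℂ W :=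
    (ρ.asAlgebraHom : MonoidAlgebra ℂ P →+* Module.End ℂ W).comp (mapRingHom P O.subtype) with hΨ
  have hΨsingle : ∀ (u : P) (r : O), Ψ (single u r) = (r : ℂ) • ρ u := by
    intro u r
    rw [hΨ, RingHom.comp_apply, mapRingHom_single]
    exact Representation.asAlgebraHom_single ρ u (r : ℂ)
  have hΨsum : ∀ x : MonoidAlgebra O P, Ψ x = ∑ u : P, ((x.coeff u : O) : ℂ) • ρ u := by
    intro x
    have hx : x = ∑ u : P, single u (x.coeff u) := by
      apply MonoidAlgebra.ext
      rw [coeff_sum]
      simp only [coeff_single]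
      exact (Finsupp.univ_sum_single x.coeff).symm
    conv_lhs => rw [hx]
    rw [map_sum]
    exact Finset.sum_congr rfl fun u _ => hΨsingle u _
  have hA0 : Ψ AO v = 0 := by
    rw [hAO, map_sum, LinearMap.sum_apply, ← harel]
    refine Finset.sum_congr rfl fun u _ => ?_
    rw [hΨsingle, LinearMap.smul_apply]
  have hσ : Ψ σO v = ∑ u : P, ρ u v := by
    rw [hσO, map_sum, LinearMap.sum_apply]
    refine Finset.sum_congr rfl fun u _ => ?_
    rw [hΨsingle, LinearMap.smul_apply]
    simp
  have hBA : Ψ (BO * AO) v = 0 := by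
    rw [map_mul, Module.End.mul_apply, hA0, map_zero]
  have hDv : Ψ D v = - ∑ u : P, ρ u v := by
    rw [hD, map_sub, LinearMap.sub_apply, hBA, hσ, zero_sub]
  have hfinal : ∑ u : P, ρ u v = - Ψ D v := by rw [hDv, neg_neg]
  rw [hfinal]
  apply Submodule.neg_mem
  rw [hΨsum, LinearMap.sum_apply]
  refine Submodule.sum_mem _ fun u _ => ?_
  rw [LinearMap.smul_apply]
  exact Submodule.smul_mem_smul (hDm u) (hV u v hv)

end Cfsg.Agent.Helper15
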