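import Mathlib
import Cfsg.Agent.Lib.Helper15.ValLattice

set_option autoImplicit false
set_option linter.unusedSectionVars false

/-!
# TI Sylow subgroups and fixed vectors of the normaliser

Let `P` be a TI Sylow `p`-subgroup of `G` with normaliser `N`, and let `W'` be a `G`-stable
subspace of a complex representation with `dim W' < |P|`.  If `w ∈ W'` is fixed by `N` and
`∑_{g ∈ G} g w = 0`, then `w = 0`.
-/

namespace Cfsg.Agent.Helper15

open scoped Pointwise

/-- Sums over a finite set carrying a free action of a finite group: if all orbit sums lie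
in a submodule, so does the total sum. -/
theorem sum_mem_of_free_action {Γ X R M : Type*} [Group Γ] [Fintype Γ] [DecidableEq X]
    [Ring R] [AddCommGroup M] [Module R M] (B : Submodule R M) (act : Γ → X → X)
    (hact1 : ∀ x, act 1 x = x) (hactmul : ∀ γ γ' x, act (γ * γ') x = act γ (act γ' x))
    (F : X → M) :
    ∀ S : Finset X, (∀ γ : Γ, ∀ x ∈ S, act γ x ∈ S) →
      (∀ x ∈ S, ∀ γ : Γ, act γ x = x → γ = 1) →
      (∀ x ∈ S, ∑ γ : Γ, F (act γ x) ∈ B) → ∑ x ∈ S, F x ∈ B := by
  classical
  intro S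
  induction S using Finset.strongInduction with
  | H S ih =>
    intro hinv hfree hsum
    by_cases hS : S = ∅
    · rw [hS, Finset.sum_empty]
      exact B.zero_mem
    obtain ⟨x, hx⟩ := Finset.nonempty_iff_ne_empty.mpr hS
    set Ox : Finset X := Finset.univ.image (fun γ : Γ => act γ x) with hOx
    have hOxS : Ox ⊆ S := by
      intro y hy
      rw [hOx, Finset.mem_image] at hy
      obtain ⟨γ, _, rfl⟩ := hy
      exact hinv γ x hx
    have hxOx : x ∈ Ox := by
      rw [hOx, Finset.mem_image]
      exact ⟨1, Finset.mem_univ _, hact1 x⟩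
    have hlt : S \ Ox ⊂ S := by
      refine Finset.ssubset_iff_subset_ne.mpr ⟨Finset.sdiff_subset, ?_⟩
      intro h
      have : x ∈ S \ Ox := by rw [h]; exact hx
      exact (Finset.mem_sdiff.mp this).2 hxOx
    have hinv' : ∀ γ : Γ, ∀ y ∈ S \ Ox, act γ y ∈ S \ Ox := by
      intro γ y hy
      rw [Finset.mem_sdiff] at hy ⊢
      refine ⟨hinv γ y hy.1, ?_⟩
      intro hmem
      apply hy.2
      rw [hOx, Finset.mem_image] at hmem ⊢
      obtain ⟨γ', _, hγ'⟩ := hmem
      refine ⟨γ⁻¹ * γ', Finset.mem_univ _, ?_⟩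
      rw [hactmul, hγ', ← hactmul, inv_mul_cancel, hact1]
    have h1 := ih (S \ Ox) hlt hinv' (fun y hy => hfree y (Finset.mem_sdiff.mp hy).1)
      (fun y hy => hsum y (Finset.mem_sdiff.mp hy).1)
    have hinj : Function.Injective (fun γ : Γ => act γ x) := by
      intro γ γ' h
      have h2 : act (γ'⁻¹ * γ) x = x := by
        change act γ x = act γ' x at h
        rw [hactmul, h, ← hactmul, inv_mul_cancel, hact1]
      have := hfree x hx _ h2
      exact (inv_mul_eq_one.mp this).symm
    have h2 : ∑ y ∈ Ox, F y = ∑ γ : Γ, F (act γ x) := by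
      rw [hOx, Finset.sum_image (fun a _ b _ h => hinj h)]
    rw [← Finset.sum_sdiff hOxS, h2]
    exact B.add_mem h1 (hsum x hx)

variable {G : Type*} [Group G] [Fintype G]

/-- A `p`-element of the normaliser of a Sylow `p`-subgroup lies in it. -/
theorem mem_sylow_of_mem_normalizer_of_pow {p : ℕ} [Fact p.Prime] (P : Sylow p G) {x : G}
    (hxN : x ∈ Subgroup.normalizer ((P : Subgroup G) : Set G)) {k : ℕ} (hx : x ^ p ^ k = 1) :
    x ∈ (P : Subgroup G) := by
  have hQ : IsPGroup p (Subgroup.zpowers x) := by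
    rw [IsPGroup.iff_orderOf] at *
    rintro ⟨y, hy⟩
    obtain ⟨m, rfl⟩ := Subgroup.mem_zpowers_iff.mp hy
    have hyk : (⟨x ^ m, hy⟩ : Subgroup.zpowers x) ^ p ^ k = 1 := by
      apply Subtype.ext
      simp only [Subgroup.coe_pow, Subgroup.coe_one]
      rw [← zpow_natCast, ← zpow_mul, mul_comm, zpow_mul, zpow_natCast, hx, one_zpow]
    obtain ⟨j, _, hj⟩ := (Nat.dvd_prime_pow (Fact.out : p.Prime)).mp
      (orderOf_dvd_of_pow_eq_one hyk)
    exact ⟨j, hj⟩
  have h1 := hQ.inf_normalizer_sylow P
  have h2 : x ∈ Subgroup.zpowers x ⊓ Subgroup.normalizer ((P : Subgroup G) : Set G) :=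
    ⟨Subgroup.mem_zpowers x, hxN⟩
  have h3 : x ∈ Subgroup.zpowers x ⊓ (P : Subgroup G) := by
    rw [← h1]; exact h2
  exact h3.2

/-- **Main lemma**: fixed vectors of the normaliser of a TI Sylow subgroup. -/
theorem eq_zero_of_TI_of_finrank_lt (p : ℕ) [Fact p.Prime] (P : Sylow p G)
    (hTI : ∀ g : G, g ∉ Subgroup.normalizer ((P : Subgroup G) : Set G) →
      (P : Subgroup G) ⊓ (MulAut.conj g • (P : Subgroup G)) = ⊥)
    {W : Type*} [AddCommGroup W] [Module ℂ W] (ρ : Representation ℂ G W)
    (W' : Submodule ℂ W) [FiniteDimensional ℂ W'] (hW' : ∀ g : G, ∀ x ∈ W', ρ g x ∈ W')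
    (hdim : Module.finrank ℂ W' < Nat.card (P : Subgroup G))
    (w : W) (hwW' : w ∈ W')
    (hfix : ∀ n ∈ Subgroup.normalizer ((P : Subgroup G) : Set G), ρ n w = w)
    (hsum : ∑ g : G, ρ g w = 0) : w = 0 := by
  classical
  obtain ⟨O, hpO⟩ := exists_valuationSubring_prime p (Fact.out : p.Prime)
  set N : Subgroup G := Subgroup.normalizer ((P : Subgroup G) : Set G) with hN
  have hPN : (P : Subgroup G) ≤ N := Subgroup.le_normalizer
  have : Fintype (P : Subgroup G) := Fintype.ofFinite _
  have : Fintype N := Fintype.ofFinite _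
  -- the lattice
  set V : Submodule O W := Submodule.span O (Set.range fun g : G => ρ g w) with hVdef
  have hgen : ∀ g : G, ρ g w ∈ V := fun g => Submodule.subset_span ⟨g, rfl⟩
  have hVstab : ∀ g : G, ∀ v ∈ V, ρ g v ∈ V := by
    intro g v hv
    induction hv using Submodule.span_induction with
    | mem x hx =>
      obtain ⟨h, rfl⟩ := hx
      have : ρ g (ρ h w) = ρ (g * h) w := by rw [map_mul]; rfl
      rw [this]
      exact hgen _
    | zero => rw [map_zero]; exact V.zero_mem
    | add x y _ _ hx hy => rw [map_add]; exact V.add_mem hx hy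
    | smul c x _ hx =>
      have : ρ g (c • x) = c • ρ g x := LinearMap.map_smul_of_tower (ρ g) c x
      rw [this]
      exact V.smul_mem c hx
  have hVW' : ∀ v ∈ V, v ∈ W' := by
    intro v hv
    induction hv using Submodule.span_induction with
    | mem x hx =>
      obtain ⟨h, rfl⟩ := hx
      exact hW' h w hwW'
    | zero => exact W'.zero_mem
    | add x y _ _ hx hy => exact W'.add_mem hx hy
    | smul c x _ hx => exact W'.smul_mem (c : ℂ) hx
  set mV : Submodule O W := (IsLocalRing.maximalIdeal O) • V with hmV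
  -- orbit sums lie in `𝔪 V`
  set ρP : Representation ℂ (P : Subgroup G) W := ρ.comp (P : Subgroup G).subtype with hρP
  have hKL : ∀ v ∈ V, ∑ u : (P : Subgroup G), ρ (u : G) v ∈ mV := by
    intro v hv
    have hdep : ¬ LinearIndependent ℂ (fun u : (P : Subgroup G) => ρP u v) := by
      intro hli
      have hmem : ∀ u : (P : Subgroup G), ρP u v ∈ W' := fun u =>
        hVW' _ (hVstab (u : G) v hv)
      have hli' : LinearIndependent ℂ (fun u : (P : Subgroup G) => (⟨ρP u v, hmem u⟩ : W')) := by
        apply LinearIndependent.of_comp W'.subtype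
        exact hli
      have := hli'.fintype_card_le_finrank
      rw [← Nat.card_eq_fintype_card] at this
      omega
    exact sum_smul_mem_smul_of_dependent p P.isPGroup' O hpO ρP V
      (fun u v hv => hVstab (u : G) v hv) v hv hdep
  -- the free action of `P × N` on `G \ N`
  have hNC : (Nat.card N : ℂ) ≠ 0 := by exact_mod_cast Nat.card_pos.ne'
  set F : G → W := fun g => (Nat.card N : ℂ)⁻¹ • ρ g w with hF
  set act : ↥(P : Subgroup G) × ↥N → G → G := fun γ g => (γ.1 : G) * g * (γ.2 : G)⁻¹ with hact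
  set S : Finset G := Finset.univ.filter (fun g => g ∉ N) with hS
  have hmain : ∑ g ∈ S, F g ∈ mV := by
    apply sum_mem_of_free_action mV act
    · intro x; simp [hact]
    · intro γ γ' x
      simp only [hact, Prod.fst_mul, Prod.snd_mul, Subgroup.coe_mul, mul_inv_rev]
      group
    · intro γ x hx
      rw [hS, Finset.mem_filter] at hx ⊢
      refine ⟨Finset.mem_univ _, fun hmem => hx.2 ?_⟩
      have h1 : x = (γ.1 : G)⁻¹ * ((γ.1 : G) * x * (γ.2 : G)⁻¹) * (γ.2 : G) := by group
      rw [h1]
      exact N.mul_mem (N.mul_mem (N.inv_mem (hPN γ.1.2)) hmem) γ.2.2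
    · intro x hx γ hγ
      rw [hS, Finset.mem_filter] at hx
      have hxN := hx.2
      simp only [hact] at hγ
      -- `x⁻¹ u x = n`
      have h1 : x⁻¹ * (γ.1 : G) * x = (γ.2 : G) := by
        have : (γ.1 : G) * x = x * (γ.2 : G) := by
          calc (γ.1 : G) * x = ((γ.1 : G) * x * (γ.2 : G)⁻¹) * (γ.2 : G) := by group
            _ = x * (γ.2 : G) := by rw [hγ]
        rw [mul_assoc, this]; group
      obtain ⟨k, hk⟩ := (P.isPGroup' γ.1)
      have hk' : ((γ.1 : G)) ^ p ^ k = 1 := by
        have := congrArg Subtype.val hk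
        simpa using this
      have h2 : (x⁻¹ * (γ.1 : G) * x) ^ p ^ k = 1 := by
        have : x⁻¹ * (γ.1 : G) * x = x⁻¹ * (γ.1 : G) * x⁻¹⁻¹ := by rw [inv_inv]
        rw [this, conj_pow, hk']; group
      have h3 : x⁻¹ * (γ.1 : G) * x ∈ (P : Subgroup G) :=
        mem_sylow_of_mem_normalizer_of_pow P (by rw [h1]; exact γ.2.2) h2
      have h4 : (γ.1 : G) ∈ MulAut.conj x • (P : Subgroup G) := by
        rw [Subgroup.mem_pointwise_smul_iff_inv_smul_mem]
        simpa [MulAut.smul_def, MulAut.conj_inv_apply] using h3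
      have h5 : (γ.1 : G) ∈ (P : Subgroup G) ⊓ MulAut.conj x • (P : Subgroup G) :=
        ⟨γ.1.2, h4⟩
      rw [hTI x hxN, Subgroup.mem_bot] at h5
      have h6 : (γ.2 : G) = 1 := by rw [← h1, h5]; group
      apply Prod.ext
      · exact Subtype.ext h5
      · exact Subtype.ext h6
    · intro x _
      have h1 : ∑ γ : ↥(P : Subgroup G) × ↥N, F (act γ x)
          = ∑ u : (P : Subgroup G), ρ (u : G) (ρ x w) := by
        rw [Fintype.sum_prod_type]
        refine Finset.sum_congr rfl fun u _ => ?_
        have h2 : ∀ n : N, F (act (u, n) x) = (Nat.card N : ℂ)⁻¹ • ρ (u : G) (ρ x w) := by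
          intro n
          simp only [hF, hact]
          congr 1
          rw [map_mul, map_mul]
          change ρ (u : G) (ρ x (ρ (n : G)⁻¹ w)) = _
          rw [hfix _ (N.inv_mem n.2)]
        rw [Finset.sum_congr rfl fun n _ => h2 n, Finset.sum_const, Finset.card_univ,
          ← Nat.card_eq_fintype_card, ← Nat.cast_smul_eq_nsmul ℂ, smul_smul,
          mul_inv_cancel₀ hNC, one_smul]
      rw [h1]
      exact hKL _ (hgen x)
  -- hence `w ∈ 𝔪 V`
  have hw : w ∈ mV := by
    have h0 : ∑ g : G, F g = 0 := by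
      simp only [hF]
      rw [← Finset.smul_sum, hsum, smul_zero]
    have h1 : ∑ g ∈ Finset.univ.filter (fun g => g ∈ N), F g = w := by
      have h2 : ∀ g ∈ Finset.univ.filter (fun g => g ∈ N), F g = (Nat.card N : ℂ)⁻¹ • w := by
        intro g hg
        rw [Finset.mem_filter] at hg
        simp only [hF]
        rw [hfix g hg.2]
      rw [Finset.sum_congr rfl h2, Finset.sum_const]
      have h3 : (Finset.univ.filter (fun g => g ∈ N)).card = Nat.card N := by
        rw [Nat.card_eq_fintype_card, Fintype.card_subtype]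
      rw [h3, ← Nat.cast_smul_eq_nsmul ℂ, smul_smul, mul_inv_cancel₀ hNC, one_smul]
    have h4 := Finset.sum_filter_add_sum_filter_not Finset.univ (fun g => g ∈ N) F
    rw [h0, h1] at h4
    have h5 : w = - ∑ g ∈ S, F g := by
      rw [hS]
      exact eq_neg_of_add_eq_zero_left h4
    rw [h5]
    exact mV.neg_mem hmain
  -- `𝔪 V` is `G`-stable
  have hmVstab : ∀ g : G, ∀ x ∈ mV, ρ g x ∈ mV := by
    intro g x hx
    refine Submodule.smul_induction_on (p := fun x => ρ g x ∈ mV) hx ?_ ?_
    · intro r hr n hn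
      have : ρ g (r • n) = r • ρ g n := LinearMap.map_smul_of_tower (ρ g) r n
      change ρ g (r • n) ∈ mV
      rw [this]
      exact Submodule.smul_mem_smul hr (hVstab g n hn)
    · intro x y hx hy
      rw [map_add]; exact mV.add_mem hx hy
  -- Nakayama
  have hle : V ≤ mV := by
    rw [hVdef, Submodule.span_le]
    rintro _ ⟨g, rfl⟩
    exact hmVstab g w hw
  have hfg : V.FG := Submodule.fg_span (Set.finite_range _)
  have hbot := Submodule.eq_bot_of_le_smul_of_le_jacobson_bot (IsLocalRing.maximalIdeal O) V hfg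
    hle (IsLocalRing.maximalIdeal_le_jacobson ⊥)
  have h1 : w ∈ V := by
    have := hgen 1
    rwa [map_one] at this
  rw [hbot, Submodule.mem_bot] at h1
  exact h1

end Cfsg.Agent.Helper15
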