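import Mathlib
import Cfsg.Prelude.Def_Characters
import Cfsg.Agent.Lib.Helper15.TILattice
import Cfsg.Agent.Lib.Helper79.CharBasic

set_option autoImplicit false
set_option linter.unusedSectionVars false

/-!
# Restriction of small characters to overgroups of the normaliser of a TI Sylow subgroup
-/

namespace Cfsg.Agent.Helper15

open scoped Pointwise ComplexConjugate
open Representation

variable {G : Type*} [Group G] [Fintype G]

/-- For a TI Sylow `p`-subgroup `P` and a representation `ρ` of degree `n` with `n² ≤ |P|`,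
every endomorphism commuting with a subgroup `H ⊇ N_G(P)` commutes with all of `G`. -/
theorem invariants_linHom_of_TI (p : ℕ) [Fact p.Prime] (P : Sylow p G)
    (hTI : ∀ g : G, g ∉ Subgroup.normalizer ((P : Subgroup G) : Set G) →
      (P : Subgroup G) ⊓ (MulAut.conj g • (P : Subgroup G)) = ⊥)
    {n : ℕ} (ρ : Representation ℂ G (Fin n → ℂ)) (hdeg : n ^ 2 ≤ Nat.card (P : Subgroup G))
    (H : Subgroup G) (hH : Subgroup.normalizer ((P : Subgroup G) : Set G) ≤ H)
    (f : (Fin n → ℂ) →ₗ[ℂ] (Fin n → ℂ))
    (hf : ∀ h ∈ H, (linHom ρ ρ) h f = f) : ∀ g : G, (linHom ρ ρ) g f = f := by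
  classical
  set τ := linHom ρ ρ with hτ
  have hG : (Nat.card G : ℂ) ≠ 0 := by exact_mod_cast Nat.card_pos.ne'
  -- the summation operator
  set A : ((Fin n → ℂ) →ₗ[ℂ] (Fin n → ℂ)) →ₗ[ℂ] ((Fin n → ℂ) →ₗ[ℂ] (Fin n → ℂ)) :=
    ∑ g : G, τ g with hA
  have hAapply : ∀ x, A x = ∑ g : G, τ g x := by
    intro x; rw [hA, LinearMap.sum_apply]
  have hτA : ∀ (h : G) x, τ h (A x) = A x := by
    intro h x
    rw [hAapply, map_sum]
    rw [← Equiv.sum_comp (Equiv.mulLeft h) (fun g => τ g x)]
    refine Finset.sum_congr rfl fun g _ => ?_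
    rw [Equiv.coe_mulLeft, map_mul]; rfl
  have hAτ : ∀ (h : G) x, A (τ h x) = A x := by
    intro h x
    rw [hAapply, hAapply]
    rw [← Equiv.sum_comp (Equiv.mulRight h) (fun g => τ g x)]
    refine Finset.sum_congr rfl fun g _ => ?_
    rw [Equiv.coe_mulRight, map_mul]; rfl
  set f₀ := (Nat.card G : ℂ)⁻¹ • A f with hf₀
  have hf₀fix : ∀ g : G, τ g f₀ = f₀ := by
    intro g
    rw [hf₀, map_smul, hτA]
  set f' := f - f₀ with hf'
  -- apply the main lemma to `f'`
  have hzero : f' = 0 := by
    set W' := LinearMap.ker A with hW'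
    have hAf₀ : A f₀ = A f := by
      rw [hf₀, map_smul, hAapply (A f)]
      simp only [hτA]
      rw [Finset.sum_const, Finset.card_univ, ← Nat.card_eq_fintype_card,
        ← Nat.cast_smul_eq_nsmul ℂ, smul_smul, inv_mul_cancel₀ hG, one_smul]
    have hf'W' : f' ∈ W' := by
      rw [hW', LinearMap.mem_ker, hf', map_sub, hAf₀, sub_self]
    refine eq_zero_of_TI_of_finrank_lt p P hTI τ W' ?_ ?_ f' hf'W' ?_ ?_
    · intro g x hx
      rw [hW', LinearMap.mem_ker] at hx ⊢
      rw [hAτ, hx]
    · -- dimension count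
      rcases Nat.eq_zero_or_pos n with hn | hn
      · have h0 : Module.finrank ℂ ((Fin n → ℂ) →ₗ[ℂ] (Fin n → ℂ)) = 0 := by
          rw [Module.finrank_linearMap, Module.finrank_fin_fun, hn]
        have h1 : Module.finrank ℂ W' ≤ 0 := h0 ▸ Submodule.finrank_le W'
        have : 0 < Nat.card (P : Subgroup G) := Nat.card_pos
        omega
      · have hlt : W' < ⊤ := by
          rw [lt_top_iff_ne_top]
          intro htop
          have h1 : (1 : (Fin n → ℂ) →ₗ[ℂ] (Fin n → ℂ)) ∈ W' := by rw [htop]; trivial
          rw [hW', LinearMap.mem_ker, hAapply] at h1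
          have h2 : ∀ g : G, τ g (1 : (Fin n → ℂ) →ₗ[ℂ] (Fin n → ℂ)) = 1 := by
            intro g
            rw [hτ, linHom_apply]
            ext x
            simp only [LinearMap.coe_comp, Function.comp_apply, Module.End.one_apply]
            rw [← Module.End.mul_apply, ← map_mul, mul_inv_cancel, map_one, Module.End.one_apply]
          simp only [h2] at h1
          rw [Finset.sum_const, Finset.card_univ, ← Nat.card_eq_fintype_card,
            ← Nat.cast_smul_eq_nsmul ℂ] at h1
          have h3 : (1 : (Fin n → ℂ) →ₗ[ℂ] (Fin n → ℂ)) = 0 := by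
            have := congrArg (fun y => (Nat.card G : ℂ)⁻¹ • y) h1
            simpa [smul_smul, inv_mul_cancel₀ hG] using this
          have h4 : (1 : (Fin n → ℂ) →ₗ[ℂ] (Fin n → ℂ)) (fun _ => (1 : ℂ)) = 0 := by
            rw [h3]; rfl
          rw [Module.End.one_apply] at h4
          have h5 := congrFun h4 ⟨0, hn⟩
          simp at h5
        have h1 := Submodule.finrank_lt_finrank_of_lt hlt
        rw [finrank_top, Module.finrank_linearMap, Module.finrank_fin_fun] at h1
        have : n * n = n ^ 2 := by ring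
        omega
    · intro m hm
      rw [hf', map_sub, hf₀fix, hf m (hH hm)]
    · rw [← hAapply, ← LinearMap.mem_ker]
      exact hf'W'
  intro g
  have hff₀ : f = f₀ := by
    have := sub_eq_zero.mp hzero
    exact this
  rw [hff₀]
  exact hf₀fix g

/-- The norm of a character of degree `n` with `n² ≤ |P|` (`P` a TI Sylow subgroup) does not
change on restriction to a subgroup containing the normaliser of `P`. -/
theorem classInner_restrict_eq_of_TI (p : ℕ) [Fact p.Prime] (P : Sylow p G)
    (hTI : ∀ g : G, g ∉ Subgroup.normalizer ((P : Subgroup G) : Set G) →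
      (P : Subgroup G) ⊓ (MulAut.conj g • (P : Subgroup G)) = ⊥)
    {n : ℕ} (ρ : Representation ℂ G (Fin n → ℂ)) (hdeg : n ^ 2 ≤ Nat.card (P : Subgroup G))
    (H : Subgroup G) [Fintype H] (hH : Subgroup.normalizer ((P : Subgroup G) : Set G) ≤ H) :
    Cfsg.classInner ρ.character ρ.character
      = Cfsg.classInner (fun h : H => ρ.character h) (fun h : H => ρ.character h) := by
  classical
  set τ := linHom ρ ρ with hτ
  set τH : Representation ℂ H ((Fin n → ℂ) →ₗ[ℂ] (Fin n → ℂ)) := τ.comp H.subtype with hτH
  have hG : (Nat.card G : ℂ) ≠ 0 := by exact_mod_cast Nat.card_pos.ne'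
  have hHc : (Nat.card H : ℂ) ≠ 0 := by exact_mod_cast Nat.card_pos.ne'
  have : Invertible (Nat.card G : ℂ) := invertibleOfNonzero hG
  have : Invertible (Nat.card H : ℂ) := invertibleOfNonzero hHc
  have hchar : ∀ g : G, τ.character g = ρ.character g * conj (ρ.character g) := by
    intro g
    rw [hτ, char_linHom, Cfsg.Agent.Helper79.char_inv, mul_comm]
  have h1 : Cfsg.classInner ρ.character ρ.character
      = (Module.finrank ℂ (invariants τ) : ℂ) := by
    rw [← card_inv_mul_sum_char_eq_finrank τ]
    unfold Cfsg.classInner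
    congr 1
    exact Finset.sum_congr rfl fun g _ => (hchar g).symm
  have h2 : Cfsg.classInner (fun h : H => ρ.character h) (fun h : H => ρ.character h)
      = (Module.finrank ℂ (invariants τH) : ℂ) := by
    rw [← card_inv_mul_sum_char_eq_finrank τH]
    unfold Cfsg.classInner
    congr 1
    refine Finset.sum_congr rfl fun h _ => ?_
    have : τH.character h = τ.character (h : G) := rfl
    rw [this, hchar]
  have h3 : invariants τH = invariants τ := by
    ext f
    rw [mem_invariants, mem_invariants]
    constructor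
    · intro hf
      exact invariants_linHom_of_TI p P hTI ρ hdeg H hH f (fun h hh => hf ⟨h, hh⟩)
    · intro hf h
      exact hf (h : G)
  rw [h1, h2, h3]

end Cfsg.Agent.Helper15
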