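import Mathlib
import Cfsg.Prelude.Def_Characters
import Cfsg.Prelude.Def_Local
import Cfsg.Agent.Lib.Helper15.TINorm

set_option autoImplicit false
set_option linter.unusedSectionVars false
set_option linter.style.haveILetI false

/-!
# TI Sylow subgroups, small faithful characters and p-solvable groups
-/

namespace Cfsg.Agent.Helper15

open scoped Pointwise ComplexConjugate
open Representation

universe u

section central

variable {G : Type u} [Group G] [Fintype G]

/-- An element centralized by the normalizer of a TI Sylow subgroup is central, in the presence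
of a faithful representation of small degree. -/
theorem central_of_TI (p : ℕ) [Fact p.Prime] (P : Sylow p G)
    (hTI : ∀ g : G, g ∉ Subgroup.normalizer ((P : Subgroup G) : Set G) →
      (P : Subgroup G) ⊓ (MulAut.conj g • (P : Subgroup G)) = ⊥)
    {n : ℕ} (ρ : Representation ℂ G (Fin n → ℂ)) (hdeg : n ^ 2 ≤ Nat.card (P : Subgroup G))
    (hfaith : ∀ g : G, ρ.character g = ρ.character 1 → g = 1)
    (z : G) (hz : ∀ x ∈ Subgroup.normalizer ((P : Subgroup G) : Set G), x * z = z * x) (g : G) :
    g * z = z * g := by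
  have hf : ∀ h ∈ Subgroup.normalizer ((P : Subgroup G) : Set G),
      (linHom ρ ρ) h (ρ z) = ρ z := by
    intro h hh
    rw [linHom_apply]
    have : ρ h ∘ₗ ρ z ∘ₗ ρ h⁻¹ = ρ (h * z * h⁻¹) := by
      rw [map_mul, map_mul]; rfl
    rw [this, hz h hh, mul_inv_cancel_right]
  have h1 := invariants_linHom_of_TI p P hTI ρ hdeg _ le_rfl (ρ z) hf g
  rw [linHom_apply] at h1
  have h2 : ρ (g * z * g⁻¹ * z⁻¹) = 1 := by
    have : ρ g ∘ₗ ρ z ∘ₗ ρ g⁻¹ = ρ (g * z * g⁻¹) := by
      rw [map_mul, map_mul]; rfl
    rw [this] at h1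
    rw [map_mul, h1, ← map_mul, mul_inv_cancel, map_one]
  have h3 : ρ.character (g * z * g⁻¹ * z⁻¹) = ρ.character 1 := by
    simp only [Representation.character, h2, map_one]
  have h4 := hfaith _ h3
  calc g * z = (g * z * g⁻¹ * z⁻¹) * (z * g) := by group
    _ = z * g := by rw [h4, one_mul]

end central

section sub

variable {G : Type u} [Group G] [Finite G]

/-- membership in the normalizer of `P.subtype` -/
theorem mem_normalizer_subtype {p : ℕ} (P : Sylow p G) (H : Subgroup G)
    (hPH : (P : Subgroup G) ≤ H) (x : H)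
    (hx : (x : G) ∈ Subgroup.normalizer ((P : Subgroup G) : Set G)) :
    x ∈ Subgroup.normalizer (((P.subtype hPH : Sylow p H) : Subgroup H) : Set H) := by
  rw [Subgroup.mem_normalizer_iff] at hx ⊢
  intro y
  rw [Sylow.coe_subtype, Subgroup.mem_subgroupOf, Subgroup.mem_subgroupOf]
  exact hx y

theorem mem_normalizer_of_subtype {p : ℕ} (P : Sylow p G) (H : Subgroup G)
    (hPH : (P : Subgroup G) ≤ H) (x : H)
    (hx : x ∈ Subgroup.normalizer (((P.subtype hPH : Sylow p H) : Subgroup H) : Set H)) :
    (x : G) ∈ Subgroup.normalizer ((P : Subgroup G) : Set G) := by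
  have hfin : ((P : Subgroup G) : Set G).Finite := Set.toFinite _
  rw [Subgroup.mem_normalizer_iff] at hx
  -- it suffices to show conjugation maps P into P
  have hsub : ∀ y ∈ (P : Subgroup G), (x : G) * y * (x : G)⁻¹ ∈ (P : Subgroup G) := by
    intro y hy
    have := (hx ⟨y, hPH hy⟩).mp (by
      rw [Sylow.coe_subtype, Subgroup.mem_subgroupOf]; exact hy)
    rw [Sylow.coe_subtype, Subgroup.mem_subgroupOf] at this
    exact this
  have hsub' : ∀ y ∈ (P : Subgroup G), (x : G)⁻¹ * y * (x : G) ∈ (P : Subgroup G) := by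
    intro y hy
    have hy' : (x : G)⁻¹ * y * (x : G) ∈ H := H.mul_mem (H.mul_mem (H.inv_mem x.2) (hPH hy)) x.2
    have := (hx ⟨(x : G)⁻¹ * y * (x : G), hy'⟩).mpr (by
      rw [Sylow.coe_subtype, Subgroup.mem_subgroupOf]
      have : ((x * ⟨(x : G)⁻¹ * y * (x : G), hy'⟩ * x⁻¹ : H) : G) = y := by
        push_cast; group
      rw [this]; exact hy)
    rw [Sylow.coe_subtype, Subgroup.mem_subgroupOf] at this
    exact this
  rw [Subgroup.mem_normalizer_iff]
  intro y
  constructor
  · exact hsub y
  · intro hy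
    have := hsub' _ hy
    have e : (x : G)⁻¹ * ((x : G) * y * (x : G)⁻¹) * (x : G) = y := by group
    rwa [e] at this

/-- The TI hypothesis passes to subgroups containing `P`. -/
theorem TI_subtype {p : ℕ} [Fact p.Prime] (P : Sylow p G)
    (hTI : ∀ g : G, g ∉ Subgroup.normalizer ((P : Subgroup G) : Set G) →
      (P : Subgroup G) ⊓ (MulAut.conj g • (P : Subgroup G)) = ⊥)
    (H : Subgroup G) (hPH : (P : Subgroup G) ≤ H) :
    ∀ g : H, g ∉ Subgroup.normalizer (((P.subtype hPH : Sylow p H) : Subgroup H) : Set H) →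
      ((P.subtype hPH : Sylow p H) : Subgroup H)
        ⊓ (MulAut.conj g • ((P.subtype hPH : Sylow p H) : Subgroup H)) = ⊥ := by
  intro g hg
  have hgN : (g : G) ∉ Subgroup.normalizer ((P : Subgroup G) : Set G) :=
    fun hh => hg (mem_normalizer_subtype P H hPH g hh)
  have h1 := hTI g hgN
  rw [eq_bot_iff]
  intro u hu
  rw [Subgroup.mem_inf] at hu
  obtain ⟨hu1, hu2⟩ := hu
  rw [Sylow.coe_subtype, Subgroup.mem_subgroupOf] at hu1
  rw [Subgroup.mem_pointwise_smul_iff_inv_smul_mem, Sylow.coe_subtype,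
    Subgroup.mem_subgroupOf] at hu2
  have hu2' : (u : G) ∈ MulAut.conj (g : G) • (P : Subgroup G) := by
    rw [Subgroup.mem_pointwise_smul_iff_inv_smul_mem]
    simpa [MulAut.smul_def] using hu2
  have : (u : G) ∈ (P : Subgroup G) ⊓ (MulAut.conj (g : G) • (P : Subgroup G)) :=
    Subgroup.mem_inf.mpr ⟨hu1, hu2'⟩
  rw [h1, Subgroup.mem_bot] at this
  rw [Subgroup.mem_bot]
  exact Subtype.ext this

theorem card_subtype_eq {p : ℕ} (P : Sylow p G) (H : Subgroup G)
    (hPH : (P : Subgroup G) ≤ H) :
    Nat.card ((P.subtype hPH : Sylow p H) : Subgroup H) = Nat.card (P : Subgroup G) := by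
  rw [Sylow.coe_subtype]
  exact Nat.card_congr (Subgroup.subgroupOfEquivOfLe hPH).toEquiv

/-- A subgroup containing `P` in which the normalizer of `P` centralizes a nontrivial element of `P`
lies in the normalizer of `P`. -/
theorem le_normalizer_of_central (p : ℕ) [Fact p.Prime] (P : Sylow p G)
    (hTI : ∀ g : G, g ∉ Subgroup.normalizer ((P : Subgroup G) : Set G) →
      (P : Subgroup G) ⊓ (MulAut.conj g • (P : Subgroup G)) = ⊥)
    {n : ℕ} (ρ : Representation ℂ G (Fin n → ℂ)) (hdeg : n ^ 2 ≤ Nat.card (P : Subgroup G))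
    (hfaith : ∀ g : G, ρ.character g = ρ.character 1 → g = 1)
    (H : Subgroup G) (hPH : (P : Subgroup G) ≤ H) (z : G) (hzP : z ∈ (P : Subgroup G))
    (hz1 : z ≠ 1)
    (hz : ∀ x ∈ H, x ∈ Subgroup.normalizer ((P : Subgroup G) : Set G) → x * z = z * x) :
    H ≤ Subgroup.normalizer ((P : Subgroup G) : Set G) := by
  classical
  haveI : Fintype H := Fintype.ofFinite H
  have hcent := central_of_TI p (P.subtype hPH) (TI_subtype P hTI H hPH) (ρ.comp H.subtype)
    (by rw [card_subtype_eq]; exact hdeg)
    (by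
      intro g hg
      apply Subtype.ext
      exact hfaith _ (by simpa [Representation.character] using hg))
    ⟨z, hPH hzP⟩
    (by
      intro x hx
      apply Subtype.ext
      have := hz x x.2 (mem_normalizer_of_subtype P H hPH x hx)
      simpa using this)
  intro h hh
  by_contra hN
  have h1 := hTI h hN
  have h2 := hcent ⟨h, hh⟩
  have h3 : h * z = z * h := by simpa using congrArg Subtype.val h2
  have h4 : z ∈ MulAut.conj h • (P : Subgroup G) := by
    rw [Subgroup.mem_pointwise_smul_iff_inv_smul_mem]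
    have : (MulAut.conj h)⁻¹ • z = z := by
      simp only [MulAut.smul_def, MulAut.conj_inv_apply]
      calc h⁻¹ * z * h = h⁻¹ * (z * h) := by group
        _ = h⁻¹ * (h * z) := by rw [h3]
        _ = z := by group
    rw [this]; exact hzP
  have : z ∈ (P : Subgroup G) ⊓ (MulAut.conj h • (P : Subgroup G)) :=
    Subgroup.mem_inf.mpr ⟨hzP, h4⟩
  rw [h1, Subgroup.mem_bot] at this
  exact hz1 this

end sub

section solv

variable {G : Type u} [Group G] [Finite G]

/-- The `p`-step of the induction along a `p`-solvable series. -/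
theorem step_p (p : ℕ) [Fact p.Prime] (P : Sylow p G) (K K' : Subgroup G) [K'.Normal]
    (hKK' : K ≤ K') (hK : K ≤ Subgroup.normalizer ((P : Subgroup G) : Set G))
    (m : ℕ) (hm : K.relIndex K' = p ^ m) :
    K' ≤ Subgroup.normalizer ((P : Subgroup G) : Set G) := by
  have hAB : K ⊔ (P : Subgroup G) ≤ K' ⊔ (P : Subgroup G) := sup_le_sup_right hKK' _
  have hPA : (P : Subgroup G) ≤ K ⊔ (P : Subgroup G) := le_sup_right
  have hKA : K ≤ K ⊔ (P : Subgroup G) := le_sup_left
  have hK'B : K' ≤ K' ⊔ (P : Subgroup G) := le_sup_left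
  have hPB : (P : Subgroup G) ≤ K' ⊔ (P : Subgroup G) := le_sup_right
  have h1 : (K ⊔ (P : Subgroup G)).relIndex (K' ⊔ (P : Subgroup G)) ∣ (P : Subgroup G).index :=
    (Subgroup.relIndex_dvd_of_le_left (K' ⊔ (P : Subgroup G)) hPA).trans
      (Subgroup.relIndex_dvd_index_of_le hPB)
  have h2 : K.relIndex (K' ⊔ (P : Subgroup G))
      = K.relIndex (K ⊔ (P : Subgroup G))
        * (K ⊔ (P : Subgroup G)).relIndex (K' ⊔ (P : Subgroup G)) :=
    (Subgroup.relIndex_mul_relIndex _ _ _ hKA hAB).symm
  have h3 : K.relIndex (K' ⊔ (P : Subgroup G))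
      = K.relIndex K' * K'.relIndex (K' ⊔ (P : Subgroup G)) :=
    (Subgroup.relIndex_mul_relIndex _ _ _ hKK' hK'B).symm
  have h4 : K'.relIndex (K' ⊔ (P : Subgroup G)) ∣ Nat.card (P : Subgroup G) := by
    rw [Subgroup.relIndex_sup_left]
    exact Subgroup.relIndex_dvd_card _ _
  obtain ⟨j, hj⟩ := P.isPGroup'.exists_card_eq
  rw [hj] at h4
  obtain ⟨j', _, hj'⟩ := (Nat.dvd_prime_pow (Fact.out : p.Prime)).mp h4
  have h5 : (K ⊔ (P : Subgroup G)).relIndex (K' ⊔ (P : Subgroup G)) ∣ p ^ (m + j') := by
    rw [pow_add, ← hm, ← hj', ← h3, h2]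
    exact dvd_mul_left _ _
  obtain ⟨t, _, ht⟩ := (Nat.dvd_prime_pow (Fact.out : p.Prime)).mp h5
  have h6 : (K ⊔ (P : Subgroup G)).relIndex (K' ⊔ (P : Subgroup G)) = 1 := by
    rcases Nat.eq_zero_or_pos t with h0 | hpos
    · rw [ht, h0, pow_zero]
    · exfalso
      apply P.not_dvd_index
      refine dvd_trans ?_ h1
      rw [ht]
      exact dvd_pow_self p (by omega)
  rw [Subgroup.relIndex_eq_one] at h6
  exact hK'B.trans (h6.trans (sup_le hK Subgroup.le_normalizer))

/-- The `p'`-step of the induction along a `p`-solvable series. -/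
theorem step_p' (p : ℕ) [Fact p.Prime] (P : Sylow p G)
    (hTI : ∀ g : G, g ∉ Subgroup.normalizer ((P : Subgroup G) : Set G) →
      (P : Subgroup G) ⊓ (MulAut.conj g • (P : Subgroup G)) = ⊥)
    {n : ℕ} (ρ : Representation ℂ G (Fin n → ℂ)) (hdeg : n ^ 2 ≤ Nat.card (P : Subgroup G))
    (hfaith : ∀ g : G, ρ.character g = ρ.character 1 → g = 1)
    (z : G) (hzP : z ∈ (P : Subgroup G)) (hz1 : z ≠ 1)
    (hzc : ∀ u ∈ (P : Subgroup G), u * z = z * u)
    (K K' : Subgroup G) [K.Normal] [K'.Normal]
    (hKK' : K ≤ K') (hK : K ≤ Subgroup.normalizer ((P : Subgroup G) : Set G))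
    (hcop : (K.relIndex K').Coprime p) :
    K' ≤ Subgroup.normalizer ((P : Subgroup G) : Set G) := by
  classical
  haveI : Fintype G := Fintype.ofFinite G
  have hp : p.Prime := Fact.out
  obtain ⟨j, hj⟩ := P.isPGroup'.exists_card_eq
  have hPpow : ∀ u ∈ (P : Subgroup G), u ^ p ^ j = 1 := by
    intro u hu
    have : (⟨u, hu⟩ : (P : Subgroup G)) ^ Nat.card (P : Subgroup G) = 1 := pow_card_eq_one'
    rw [hj] at this
    simpa using congrArg Subtype.val this
  by_cases hPK : (P : Subgroup G) ⊓ K = ⊥
  · -- `K` is a `p'`-group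
    have hpK : ¬ p ∣ Nat.card K := by
      intro hdvd
      obtain ⟨x, hx⟩ := exists_prime_orderOf_dvd_card' (G := K) p hdvd
      have hx1 : (x : G) ^ p ^ 1 = 1 := by
        rw [pow_one, ← hx]
        have h0 := pow_orderOf_eq_one x
        have h0' := congrArg Subtype.val h0
        rw [Subgroup.coe_pow, Subgroup.coe_one] at h0'
        exact h0'
      have hxP : (x : G) ∈ (P : Subgroup G) :=
        mem_sylow_of_mem_normalizer_of_pow P (hK x.2) hx1
      have : (x : G) ∈ (P : Subgroup G) ⊓ K := Subgroup.mem_inf.mpr ⟨hxP, x.2⟩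
      rw [hPK, Subgroup.mem_bot] at this
      have hx0 : x = 1 := Subtype.ext this
      rw [hx0, orderOf_one] at hx
      exact hp.one_lt.ne hx
    have hpK' : ¬ p ∣ Nat.card K' := by
      have h := Subgroup.relIndex_mul_relIndex ⊥ K K' bot_le hKK'
      rw [Subgroup.relIndex_bot_left, Subgroup.relIndex_bot_left] at h
      rw [← h]
      intro hdvd
      rcases (Nat.Prime.dvd_mul hp).mp hdvd with h1 | h1
      · exact hpK h1
      · have := Nat.Coprime.eq_one_of_dvd hcop.symm h1
        exact hp.one_lt.ne' this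
    have hPK' : ∀ x, x ∈ (P : Subgroup G) → x ∈ K' → x = 1 := by
      intro x hxP hxK'
      have h1 : orderOf x ∣ p ^ j := orderOf_dvd_of_pow_eq_one (hPpow x hxP)
      have h2 : orderOf x ∣ Nat.card K' := by
        have := orderOf_dvd_natCard (⟨x, hxK'⟩ : K')
        rwa [Subgroup.orderOf_mk] at this
      obtain ⟨t, _, ht⟩ := (Nat.dvd_prime_pow hp).mp h1
      rcases Nat.eq_zero_or_pos t with h0 | hpos
      · rw [h0, pow_zero] at ht
        exact orderOf_eq_one_iff.mp ht
      · exfalso
        apply hpK'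
        refine dvd_trans ?_ h2
        rw [ht]
        exact dvd_pow_self p (by omega)
    have hle := le_normalizer_of_central p P hTI ρ hdeg hfaith (K' ⊔ (P : Subgroup G))
      le_sup_right z hzP hz1 (by
        intro x hx hxN
        have hx' : x ∈ ((K' ⊔ (P : Subgroup G) : Subgroup G) : Set G) := hx
        rw [Subgroup.normal_mul] at hx'
        obtain ⟨k, hk, u, hu, rfl⟩ := Set.mem_mul.mp hx'
        have huN : u ∈ Subgroup.normalizer ((P : Subgroup G) : Set G) :=
          Subgroup.le_normalizer hu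
        have hkN : k ∈ Subgroup.normalizer ((P : Subgroup G) : Set G) := by
          have := Subgroup.mul_mem _ hxN (Subgroup.inv_mem _ huN)
          simpa using this
        have hkz : k * z = z * k := by
          have h1 : k * z * k⁻¹ ∈ (P : Subgroup G) :=
            (Subgroup.mem_normalizer_iff.mp hkN z).mp hzP
          have h2 : k * z * k⁻¹ * z⁻¹ ∈ (P : Subgroup G) :=
            Subgroup.mul_mem _ h1 (Subgroup.inv_mem _ hzP)
          have h3 : k * z * k⁻¹ * z⁻¹ ∈ K' := by
            have : z * k⁻¹ * z⁻¹ ∈ K' :=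
              Subgroup.Normal.conj_mem inferInstance _ (Subgroup.inv_mem _ hk) z
            have := Subgroup.mul_mem _ hk this
            have e : k * (z * k⁻¹ * z⁻¹) = k * z * k⁻¹ * z⁻¹ := by group
            rwa [e] at this
          have h4 := hPK' _ h2 h3
          calc k * z = (k * z * k⁻¹ * z⁻¹) * (z * k) := by group
            _ = z * k := by rw [h4, one_mul]
        calc k * u * z = k * (u * z) := by group
          _ = k * (z * u) := by rw [hzc u hu]
          _ = (k * z) * u := by group
          _ = (z * k) * u := by rw [hkz]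
          _ = z * (k * u) := by group)
    exact le_sup_left.trans hle
  · -- `P ∩ K ≠ 1`: then every conjugate of `P` meets `P`
    have : ∃ u, u ∈ (P : Subgroup G) ⊓ K ∧ u ≠ 1 := by
      by_contra hcon
      push Not at hcon
      apply hPK
      rw [eq_bot_iff]
      intro u hu
      rw [Subgroup.mem_bot]
      exact hcon u hu
    obtain ⟨u, hu, hu1⟩ := this
    rw [Subgroup.mem_inf] at hu
    obtain ⟨huP, huK⟩ := hu
    have hall : ∀ g : G, g ∈ Subgroup.normalizer ((P : Subgroup G) : Set G) := by
      intro g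
      by_contra hg
      have h1 := hTI g hg
      have h2 : g⁻¹ * u * g ∈ (P : Subgroup G) := by
        have hK1 : g⁻¹ * u * g ∈ K := by
          have := Subgroup.Normal.conj_mem (inferInstance : K.Normal) u huK g⁻¹
          simpa using this
        refine mem_sylow_of_mem_normalizer_of_pow P (hK hK1) (k := j) ?_
        have e : (g⁻¹ * u * g) ^ p ^ j = g⁻¹ * u ^ p ^ j * g := by
          have := conj_pow (a := g⁻¹) (b := u) (i := p ^ j)
          simpa using this
        rw [e, hPpow u huP]
        group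
      have h3 : u ∈ MulAut.conj g • (P : Subgroup G) := by
        rw [Subgroup.mem_pointwise_smul_iff_inv_smul_mem]
        simpa [MulAut.smul_def] using h2
      have : u ∈ (P : Subgroup G) ⊓ (MulAut.conj g • (P : Subgroup G)) :=
        Subgroup.mem_inf.mpr ⟨huP, h3⟩
      rw [h1, Subgroup.mem_bot] at this
      exact hu1 this
    intro x _
    exact hall x

/-- Main theorem: a TI Sylow `p`-subgroup of a `p`-solvable group with a small faithful
representation is normal. -/
theorem normal_of_TI_psolvable (p : ℕ) [Fact p.Prime] (hsolv : Cfsg.IsPSolvable p G)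
    (P : Sylow p G)
    (hTI : ∀ g : G, g ∉ Subgroup.normalizer ((P : Subgroup G) : Set G) →
      (P : Subgroup G) ⊓ (MulAut.conj g • (P : Subgroup G)) = ⊥)
    {n : ℕ} (ρ : Representation ℂ G (Fin n → ℂ)) (hdeg : n ^ 2 ≤ Nat.card (P : Subgroup G))
    (hfaith : ∀ g : G, ρ.character g = ρ.character 1 → g = 1) :
    (P : Subgroup G).Normal := by
  classical
  by_cases hPbot : (P : Subgroup G) = ⊥
  · rw [hPbot]; infer_instance
  haveI : Nontrivial (P : Subgroup G) := by
    rw [Subgroup.nontrivial_iff_ne_bot]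
    exact hPbot
  haveI := P.isPGroup'.center_nontrivial
  obtain ⟨z', hz'⟩ := exists_ne (1 : Subgroup.center (P : Subgroup G))
  have hzc : ∀ u ∈ (P : Subgroup G), u * ((z' : (P : Subgroup G)) : G)
      = ((z' : (P : Subgroup G)) : G) * u := by
    intro u hu
    have := Subgroup.mem_center_iff.mp z'.2 ⟨u, hu⟩
    simpa using congrArg Subtype.val this
  have hz1 : ((z' : (P : Subgroup G)) : G) ≠ 1 := by
    intro h
    apply hz'
    apply Subtype.ext
    apply Subtype.ext
    simpa using h
  obtain ⟨m, H, h0, hlast, hmono, hnorm, hstep⟩ := hsolv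
  have key : ∀ i : Fin (m + 1), H i ≤ Subgroup.normalizer ((P : Subgroup G) : Set G) := by
    intro i
    induction i using Fin.induction with
    | zero => rw [h0]; exact bot_le
    | succ i ih =>
      haveI := hnorm i.castSucc
      haveI := hnorm i.succ
      have hle : H i.castSucc ≤ H i.succ := hmono (Fin.castSucc_lt_succ (i := i)).le
      rcases hstep i with ⟨k, hk⟩ | hc
      · exact step_p p P _ _ hle ih k hk
      · exact step_p' p P hTI ρ hdeg hfaith _ (z' : (P : Subgroup G)).2 hz1 hzc _ _ hle ih hc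
  have htop := key (Fin.last m)
  rw [hlast] at htop
  exact Subgroup.normalizer_eq_top_iff.mp (top_le_iff.mp htop)

end solv

end Cfsg.Agent.Helper15
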