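import Mathlib
import Cfsg.Prelude.Def_Characters
import Cfsg.Agent.Lib.Helper15.Central
import Cfsg.Agent.Lib.Helper3.CharDecomp
import Cfsg.Agent.Lib.Helper78.CharSchur
import Cfsg.Agent.Lib.Helper81.CharInd

set_option autoImplicit false
set_option linter.style.haveILetI false
set_option linter.unusedSectionVars false

namespace Cfsg.Agent.Helper15

open Cfsg
open scoped ComplexConjugate

universe u

section AvgNormal

variable {N : Type u} [Group N] [Fintype N] (A : Subgroup N) [hAn : A.Normal] [Fintype A]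

/-- Averaging a function over the cosets of a subgroup. -/
noncomputable def avgFun (Φ : N → ℂ) : N → ℂ :=
  fun g => (Nat.card A : ℂ)⁻¹ * ∑ a : A, Φ (g * a)

omit hAn in
theorem avgFun_add (Φ Ψ : N → ℂ) : avgFun A (Φ + Ψ) = avgFun A Φ + avgFun A Ψ := by
  funext g
  simp only [avgFun, Pi.add_apply, Finset.sum_add_distrib, mul_add]

omit hAn in
theorem avgFun_smul (c : ℂ) (Φ : N → ℂ) : avgFun A (c • Φ) = c • avgFun A Φ := by
  funext g
  simp only [avgFun, Pi.smul_apply, smul_eq_mul, ← Finset.mul_sum]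
  ring

omit hAn in
theorem avgFun_sum {ι : Type*} (s : Finset ι) (f : ι → N → ℂ) :
    avgFun A (∑ i ∈ s, f i) = ∑ i ∈ s, avgFun A (f i) := by
  classical
  induction s using Finset.induction_on with
  | empty =>
    funext g
    simp [avgFun]
  | insert a s ha ih => rw [Finset.sum_insert ha, Finset.sum_insert ha, avgFun_add, ih]

omit hAn in
theorem card_ne_zero_complex' : (Nat.card A : ℂ) ≠ 0 := by
  have : Nat.card A ≠ 0 := Nat.card_pos.ne'
  exact_mod_cast this

omit hAn in
theorem avgFun_idem (Φ : N → ℂ) : avgFun A (avgFun A Φ) = avgFun A Φ := by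
  funext g
  have h0 := card_ne_zero_complex' A
  simp only [avgFun]
  have h1 : ∀ a : A, ∑ a' : A, Φ (g * a * a') = ∑ a'' : A, Φ (g * a'') := by
    intro a
    rw [← Equiv.sum_comp (Equiv.mulLeft a) (fun a'' : A => Φ (g * a''))]
    apply Finset.sum_congr rfl
    intro a' _
    simp [mul_assoc]
  simp_rw [h1]
  rw [Finset.sum_const, Finset.card_univ, nsmul_eq_mul, ← Nat.card_eq_fintype_card]
  field_simp

/-- For an irreducible character `ξ` and a normal subgroup `A`, the sum of `ξ` over a coset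
`g A` is `ξ g` times a constant. -/
theorem sum_mul_normal_irr {ξ : N → ℂ} (hξ : IsIrrCharacter N ξ) (g : N) :
    ∑ a : A, ξ (g * a) = ξ g * (∑ a : A, ξ a) / ξ 1 := by
  have hcf : IsClassFunction N ξ := Cfsg.Agent.Helper81.isClassFunction_of_isCharacter
    (Cfsg.Agent.Helper81.IsIrrCharacter.isCharacter hξ)
  have hN0 : (Nat.card N : ℂ) ≠ 0 := by
    have : Nat.card N ≠ 0 := Nat.card_pos.ne'
    exact_mod_cast this
  have key : ∀ a : A, ∑ x : N, ξ (x * a * x⁻¹ * g) = (Nat.card N : ℂ) * ξ a * ξ g / ξ 1 :=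
    fun a => Cfsg.Agent.Helper78.sum_irr_conj_mul hξ (a : N) g
  have h1 : ∑ a : A, ∑ x : N, ξ (x * a * x⁻¹ * g) = (Nat.card N : ℂ) * ∑ a : A, ξ (g * a) := by
    rw [Finset.sum_comm]
    have h2 : ∀ x : N, ∑ a : A, ξ (x * a * x⁻¹ * g) = ∑ a : A, ξ (g * a) := by
      intro x
      rw [← Equiv.sum_comp (MulAut.conjNormal x : A ≃* A).toEquiv (fun a : A => ξ (g * a))]
      apply Finset.sum_congr rfl
      intro a _
      simp only [MulEquiv.toEquiv_eq_coe, MulEquiv.coe_toEquiv, MulAut.conjNormal_apply]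
      have := hcf (x * a * x⁻¹ * g) g
      rw [← this]
      congr 1
      group
    simp_rw [h2]
    rw [Finset.sum_const, Finset.card_univ, nsmul_eq_mul, ← Nat.card_eq_fintype_card]
  simp_rw [key] at h1
  rw [← Finset.sum_div, ← Finset.sum_mul, ← Finset.mul_sum] at h1
  have h3 : (Nat.card N : ℂ) * (ξ g * (∑ a : A, ξ a) / ξ 1) = (Nat.card N : ℂ) * ∑ a : A, ξ (g * a) := by
    rw [← h1]; ring
  exact (mul_left_cancel₀ hN0 h3).symm

/-- On an irreducible character, averaging over a normal subgroup is multiplication by `0`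
or `1`. -/
theorem avgFun_irr {ξ : N → ℂ} (hξ : IsIrrCharacter N ξ) :
    ∃ κ : ℂ, (κ = 0 ∨ κ = 1) ∧ avgFun A ξ = κ • ξ := by
  have h10 : ξ 1 ≠ 0 := Cfsg.Agent.Helper78.irr_apply_one_ne_zero hξ
  set κ : ℂ := (Nat.card A : ℂ)⁻¹ * (∑ a : A, ξ a) / ξ 1 with hκ
  have h1 : avgFun A ξ = κ • ξ := by
    funext g
    simp only [avgFun, Pi.smul_apply, smul_eq_mul, hκ]
    rw [sum_mul_normal_irr A hξ g]
    ring
  refine ⟨κ, ?_, h1⟩
  have h2 := avgFun_idem A ξ
  rw [h1, avgFun_smul, h1] at h2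
  have h3 := congrFun h2 1
  simp only [Pi.smul_apply, smul_eq_mul] at h3
  have h4 : κ * (κ - 1) * ξ 1 = 0 := by
    have : κ * (κ * ξ 1) - κ * ξ 1 = 0 := sub_eq_zero.2 h3
    rw [← this]; ring
  rcases mul_eq_zero.1 h4 with h5 | h5
  · rcases mul_eq_zero.1 h5 with h6 | h6
    · exact Or.inl h6
    · exact Or.inr (sub_eq_zero.1 h6)
  · exact absurd h5 h10

/-- If a character `Φ` of `N` is not invariant under averaging over the normal subgroup `A`,
its norm exceeds the norm of its average by at least one. -/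
theorem classInner_avgFun_add_one_le {Φ : N → ℂ} (hΦ : IsCharacter N Φ)
    (hne : Φ ≠ avgFun A Φ) :
    (classInner (avgFun A Φ) (avgFun A Φ)).re + 1 ≤ (classInner Φ Φ).re := by
  classical
  have hfin : Finite (IrrCharacter N) := Cfsg.Agent.Helper81.irr_finite
  have hdec := Cfsg.Agent.Helper3.isCharacter_eq_sum_irrMult hΦ
  set m : IrrCharacter N → ℕ := fun ψ => Cfsg.Agent.Helper3.irrMult Φ ψ with hm
  have hκ : ∀ ψ : IrrCharacter N, ∃ κ : ℂ, (κ = 0 ∨ κ = 1) ∧
      avgFun A (ψ : N → ℂ) = κ • (ψ : N → ℂ) := fun ψ => avgFun_irr A ψ.2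
  choose κ hκ01 hκeq using hκ
  have havg : avgFun A Φ = ∑ ψ : IrrCharacter N, ((m ψ : ℂ) * κ ψ) • (ψ : N → ℂ) := by
    conv_lhs => rw [hdec]
    rw [avgFun_sum]
    apply Finset.sum_congr rfl
    intro ψ _
    rw [avgFun_smul, hκeq, smul_smul]
  have hn1 : classInner Φ Φ = ∑ ψ : IrrCharacter N, (m ψ : ℂ) * conj (m ψ : ℂ) := by
    conv_lhs => rw [hdec]
    exact Cfsg.Agent.Helper3.classInner_sum_irr _ _
  have hn2 : classInner (avgFun A Φ) (avgFun A Φ)
      = ∑ ψ : IrrCharacter N, ((m ψ : ℂ) * κ ψ) * conj ((m ψ : ℂ) * κ ψ) := by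
    rw [havg]
    exact Cfsg.Agent.Helper3.classInner_sum_irr _ _
  -- there is a constituent with `κ = 0`
  have hex : ∃ ψ₀ : IrrCharacter N, m ψ₀ ≠ 0 ∧ κ ψ₀ = 0 := by
    by_contra hcon
    push Not at hcon
    apply hne
    rw [havg]
    conv_lhs => rw [hdec]
    apply Finset.sum_congr rfl
    intro ψ _
    by_cases h0 : m ψ = 0
    · simp [hm] at h0 ⊢
      simp [h0]
    · have h1 : κ ψ = 1 := (hκ01 ψ).resolve_left (hcon ψ h0)
      rw [h1, mul_one]
  obtain ⟨ψ₀, hm0, hκ0⟩ := hex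
  rw [hn1, hn2, Complex.re_sum, Complex.re_sum]
  have hterm : ∀ ψ : IrrCharacter N,
      (((m ψ : ℂ) * κ ψ) * conj ((m ψ : ℂ) * κ ψ)).re ≤ ((m ψ : ℂ) * conj (m ψ : ℂ)).re := by
    intro ψ
    rcases hκ01 ψ with h | h
    · rw [h]
      simp only [mul_zero, map_zero, Complex.zero_re]
      rw [Complex.conj_natCast, ← Nat.cast_mul, Complex.natCast_re]
      positivity
    · rw [h, mul_one]
  have hterm0 : (((m ψ₀ : ℂ) * κ ψ₀) * conj ((m ψ₀ : ℂ) * κ ψ₀)).re + 1
      ≤ ((m ψ₀ : ℂ) * conj (m ψ₀ : ℂ)).re := by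
    rw [hκ0]
    simp only [mul_zero, map_zero, Complex.zero_re, zero_add]
    rw [Complex.conj_natCast, ← Nat.cast_mul, Complex.natCast_re]
    have : 1 ≤ m ψ₀ * m ψ₀ := Nat.mul_pos (Nat.pos_of_ne_zero hm0) (Nat.pos_of_ne_zero hm0)
    exact_mod_cast this
  rw [← Finset.add_sum_erase Finset.univ _ (Finset.mem_univ ψ₀),
    ← Finset.add_sum_erase Finset.univ (fun ψ => ((m ψ : ℂ) * conj (m ψ : ℂ)).re)
      (Finset.mem_univ ψ₀)]
  have hrest := Finset.sum_le_sum (s := Finset.univ.erase ψ₀) (fun ψ _ => hterm ψ)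
  linarith

end AvgNormal


section Meets

variable {G : Type u} [Group G] (H : Subgroup G)

/-- The centralizer of `g` meets the conjugate `x H x⁻¹` nontrivially. -/
def MeetsConj (x g : G) : Prop :=
  Subgroup.centralizer ({g} : Set G) ⊓ H.map (MulAut.conj x).toMonoidHom ≠ ⊥

theorem meetsConj_iff (x g : G) :
    MeetsConj H x g ↔ ∃ h ∈ H, h ≠ 1 ∧ (x * h * x⁻¹) * g = g * (x * h * x⁻¹) := by
  unfold MeetsConj
  rw [Subgroup.ne_bot_iff_exists_ne_one]
  constructor
  · rintro ⟨⟨y, hy⟩, hy1⟩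
    rw [Subgroup.mem_inf] at hy
    obtain ⟨hy2, h, hh, rfl⟩ := hy
    refine ⟨h, hh, ?_, ?_⟩
    · rintro rfl
      apply hy1
      apply Subtype.ext
      simp
    · have := Subgroup.mem_centralizer_iff.1 hy2 g rfl
      simpa using this.symm
  · rintro ⟨h, hh, h1, hc⟩
    refine ⟨⟨x * h * x⁻¹, ?_⟩, ?_⟩
    · rw [Subgroup.mem_inf]
      refine ⟨?_, h, hh, by simp⟩
      rw [Subgroup.mem_centralizer_iff]
      intro y hy
      rw [Set.mem_singleton_iff] at hy
      subst hy
      exact hc.symm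
    · intro h2
      apply h1
      have h3 : x * h * x⁻¹ = 1 := congrArg Subtype.val h2
      have : h = x⁻¹ * (x * h * x⁻¹) * x := by group
      rw [this, h3]; group

theorem meetsConj_conj (x g : G) : MeetsConj H x g ↔ MeetsConj H 1 (x⁻¹ * g * x) := by
  rw [meetsConj_iff, meetsConj_iff]
  constructor
  · rintro ⟨h, hh, h1, hc⟩
    refine ⟨h, hh, h1, ?_⟩
    have : 1 * h * (1 : G)⁻¹ * (x⁻¹ * g * x) = x⁻¹ * ((x * h * x⁻¹) * g) * x := by group
    rw [this, hc]; group
  · rintro ⟨h, hh, h1, hc⟩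
    refine ⟨h, hh, h1, ?_⟩
    have : x * h * x⁻¹ * g = x * ((1 * h * (1 : G)⁻¹) * (x⁻¹ * g * x)) * x⁻¹ := by group
    rw [this, hc]; group

variable {H}

theorem map_conj_eq_iff_mem_normalizer (x : G) :
    H.map (MulAut.conj x).toMonoidHom = H ↔ x ∈ Subgroup.normalizer (H : Set G) := by
  constructor
  · intro h
    rw [Subgroup.mem_normalizer_iff]
    intro y
    constructor
    · intro hy
      rw [← h]
      exact ⟨y, hy, by simp⟩
    · intro hy
      rw [← h] at hy
      obtain ⟨w, hw, hwy⟩ := hy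
      have : w = y := by
        have h2 : x * w * x⁻¹ = x * y * x⁻¹ := by simpa using hwy
        have : w = x⁻¹ * (x * w * x⁻¹) * x := by group
        rw [this, h2]; group
      rwa [← this]
  · intro hx
    rw [Subgroup.mem_normalizer_iff] at hx
    ext y
    constructor
    · rintro ⟨w, hw, rfl⟩
      simpa using (hx w).1 hw
    · intro hy
      refine ⟨x⁻¹ * y * x, ?_, by simp [mul_assoc]⟩
      have := (hx (x⁻¹ * y * x)).2
      apply this
      have h2 : x * (x⁻¹ * y * x) * x⁻¹ = y := by group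
      rw [h2]; exact hy

/-- The hypothesis that centralizers of non-central elements meet at most one conjugate. -/
def AtMostOneConj (H : Subgroup G) : Prop :=
  ∀ g : G, g ∉ Subgroup.center G → ∀ a b : G,
    Subgroup.centralizer ({g} : Set G) ⊓ H.map (MulAut.conj a).toMonoidHom ≠ ⊥ →
    Subgroup.centralizer ({g} : Set G) ⊓ H.map (MulAut.conj b).toMonoidHom ≠ ⊥ →
    H.map (MulAut.conj a).toMonoidHom = H.map (MulAut.conj b).toMonoidHom

theorem map_conj_one : H.map (MulAut.conj (1 : G)).toMonoidHom = H := by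
  ext y
  constructor
  · rintro ⟨w, hw, rfl⟩
    simpa using hw
  · intro hy
    exact ⟨y, hy, by simp⟩

theorem mem_normalizer_of_meetsConj (hone : AtMostOneConj H) {g : G} (hg : MeetsConj H 1 g) :
    g ∈ Subgroup.normalizer (H : Set G) := by
  by_cases hz : g ∈ Subgroup.center G
  · rw [Subgroup.mem_normalizer_iff]
    intro y
    have : g * y * g⁻¹ = y := by
      have := Subgroup.mem_center_iff.1 hz y
      rw [← this]; group
    rw [this]
  · have h2 : MeetsConj H g g := by
      rw [meetsConj_conj]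
      have : g⁻¹ * g * g = g := by group
      rw [this]
      exact hg
    have := hone g hz 1 g hg h2
    rw [map_conj_one] at this
    exact (map_conj_eq_iff_mem_normalizer g).1 this.symm

/-- Elements of the normalizer whose centralizer meets `H` trivially: all the elements of
the coset `g H` are conjugate to `g`. -/
theorem exists_conj_of_not_meetsConj [Finite H] {g : G} (hgN : g ∈ Subgroup.normalizer (H : Set G))
    (hg : ¬ MeetsConj H 1 g) (h : H) : ∃ k : G, k⁻¹ * g * k = g * h := by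
  have hmem : ∀ k : H, g⁻¹ * (k : G)⁻¹ * g * k ∈ H := by
    intro k
    have h1 : g⁻¹ * (k : G)⁻¹ * g ∈ H := by
      have h2 : g⁻¹ ∈ Subgroup.normalizer (H : Set G) := inv_mem hgN
      have := (Subgroup.mem_normalizer_iff.1 h2 ((k : G)⁻¹)).1 (inv_mem k.2)
      simpa using this
    exact mul_mem h1 k.2
  let φ : H → H := fun k => ⟨g⁻¹ * (k : G)⁻¹ * g * k, hmem k⟩
  have hinj : Function.Injective φ := by
    intro k k' hkk
    have h1 : g⁻¹ * (k : G)⁻¹ * g * k = g⁻¹ * (k' : G)⁻¹ * g * k' := congrArg Subtype.val hkk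
    by_contra hne
    apply hg
    rw [meetsConj_iff]
    refine ⟨(k' : G) * (k : G)⁻¹, mul_mem k'.2 (inv_mem k.2), ?_, ?_⟩
    · intro h2
      apply hne
      apply Subtype.ext
      have : (k' : G) = (k' : G) * (k : G)⁻¹ * k := by group
      rw [this, h2, one_mul]
    · have h3 : (k : G)⁻¹ * g * k = (k' : G)⁻¹ * g * k' := by
        have h4 : g * (g⁻¹ * (k : G)⁻¹ * g * k) = g * (g⁻¹ * (k' : G)⁻¹ * g * k') := by rw [h1]
        have e1 : g * (g⁻¹ * (k : G)⁻¹ * g * k) = (k : G)⁻¹ * g * k := by group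
        have e2 : g * (g⁻¹ * (k' : G)⁻¹ * g * k') = (k' : G)⁻¹ * g * k' := by group
        rw [e1, e2] at h4
        exact h4
      have h5 : 1 * ((k' : G) * (k : G)⁻¹) * (1 : G)⁻¹ * g
          = (k' : G) * ((k : G)⁻¹ * g * k) * (k : G)⁻¹ := by group
      rw [h5, h3]; group
  have hsurj : Function.Surjective φ := Finite.injective_iff_surjective.1 hinj
  obtain ⟨k, hk⟩ := hsurj h
  refine ⟨(k : G), ?_⟩
  have h1 : g⁻¹ * (k : G)⁻¹ * g * k = h := congrArg Subtype.val hk
  rw [← h1]; group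

theorem card_meetsConj_le [Finite G] (hone : AtMostOneConj H) {g : G}
    (hg : g ∉ Subgroup.center G) :
    Nat.card {x : G // MeetsConj H x g} ≤ Nat.card (Subgroup.normalizer (H : Set G)) := by
  by_cases hemp : IsEmpty {x : G // MeetsConj H x g}
  · rw [Nat.card_of_isEmpty]
    exact Nat.zero_le _
  · rw [not_isEmpty_iff] at hemp
    obtain ⟨⟨x₀, hx₀⟩⟩ := hemp
    have hmem : ∀ x : {x : G // MeetsConj H x g},
        x₀⁻¹ * (x : G) ∈ Subgroup.normalizer (H : Set G) := by
      rintro ⟨x, hx⟩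
      have heq := hone g hg x₀ x hx₀ hx
      rw [Subgroup.mem_normalizer_iff]
      intro y
      constructor
      · intro hy
        have h1 : x * y * x⁻¹ ∈ H.map (MulAut.conj x).toMonoidHom := ⟨y, hy, by simp⟩
        rw [← heq] at h1
        obtain ⟨w, hw, hwy⟩ := h1
        have h2 : x₀ * w * x₀⁻¹ = x * y * x⁻¹ := by simpa using hwy
        have h3 : x₀⁻¹ * x * y * (x₀⁻¹ * x)⁻¹ = x₀⁻¹ * (x * y * x⁻¹) * x₀ := by group
        rw [h3, ← h2]
        have h4 : x₀⁻¹ * (x₀ * w * x₀⁻¹) * x₀ = w := by group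
        rw [h4]; exact hw
      · intro hy
        have h1 : x₀ * (x₀⁻¹ * x * y * (x₀⁻¹ * x)⁻¹) * x₀⁻¹
            ∈ H.map (MulAut.conj x₀).toMonoidHom := ⟨_, hy, by simp⟩
        rw [heq] at h1
        obtain ⟨w, hw, hwy⟩ := h1
        have h2 : x * w * x⁻¹ = x₀ * (x₀⁻¹ * x * y * (x₀⁻¹ * x)⁻¹) * x₀⁻¹ := by simpa using hwy
        have h3 : x₀ * (x₀⁻¹ * x * y * (x₀⁻¹ * x)⁻¹) * x₀⁻¹ = x * y * x⁻¹ := by group
        rw [h3] at h2
        have h4 : w = y := by
          have : w = x⁻¹ * (x * w * x⁻¹) * x := by group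
          rw [this, h2]; group
        rwa [← h4]
    apply Nat.card_le_card_of_injective
      (fun x : {x : G // MeetsConj H x g} =>
        (⟨x₀⁻¹ * (x : G), hmem x⟩ : Subgroup.normalizer (H : Set G)))
    intro x x' hxx
    have h1 : x₀⁻¹ * (x : G) = x₀⁻¹ * (x' : G) := congrArg Subtype.val hxx
    exact Subtype.ext (mul_left_cancel h1)

end Meets

section DoubleCount

variable {G : Type u} [Group G] [Fintype G] (H : Subgroup G)

open scoped Classical in
/-- Double counting over the conjugates of `H`. -/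
theorem doubleCount_le (hone : AtMostOneConj H) (f : G → ℝ) (hf0 : ∀ g, 0 ≤ f g)
    (hfc : ∀ g x : G, f (x * g * x⁻¹) = f g) :
    (Nat.card G : ℝ) * ∑ g : G, (if MeetsConj H 1 g then f g else 0)
      ≤ (Nat.card G : ℝ) * ∑ g : G, (if g ∈ Subgroup.center G then f g else 0)
        + (Nat.card (Subgroup.normalizer (H : Set G)) : ℝ)
          * ∑ g : G, (if g ∈ Subgroup.center G then 0 else f g) := by
  have h1 : ∀ x : G, ∑ g : G, (if MeetsConj H x g then f g else 0)
      = ∑ g : G, (if MeetsConj H 1 g then f g else 0) := by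
    intro x
    rw [← Equiv.sum_comp (MulAut.conj x).toEquiv
      (fun g => if MeetsConj H x g then f g else 0)]
    apply Finset.sum_congr rfl
    intro g _
    simp only [MulEquiv.toEquiv_eq_coe, MulEquiv.coe_toEquiv, MulAut.conj_apply]
    have h2 : MeetsConj H x (x * g * x⁻¹) ↔ MeetsConj H 1 g := by
      rw [meetsConj_conj]
      have : x⁻¹ * (x * g * x⁻¹) * x = g := by group
      rw [this]
    simp only [h2, hfc]
  have h3 : (Nat.card G : ℝ) * ∑ g : G, (if MeetsConj H 1 g then f g else 0)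
      = ∑ g : G, ∑ x : G, (if MeetsConj H x g then f g else 0) := by
    rw [Finset.sum_comm]
    simp_rw [h1]
    rw [Finset.sum_const, Finset.card_univ, nsmul_eq_mul, Nat.card_eq_fintype_card]
  rw [h3, Finset.mul_sum, Finset.mul_sum, ← Finset.sum_add_distrib]
  apply Finset.sum_le_sum
  intro g _
  have h4 : ∑ x : G, (if MeetsConj H x g then f g else 0)
      = (Nat.card {x : G // MeetsConj H x g} : ℝ) * f g := by
    rw [← Finset.sum_filter, Finset.sum_const, nsmul_eq_mul, Nat.card_eq_fintype_card,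
      Fintype.card_subtype]
  rw [h4]
  by_cases hz : g ∈ Subgroup.center G
  · rw [if_pos hz, if_pos hz, mul_zero, add_zero]
    apply mul_le_mul_of_nonneg_right _ (hf0 g)
    have : Nat.card {x : G // MeetsConj H x g} ≤ Nat.card G :=
      Nat.card_le_card_of_injective (fun x => (x : G)) Subtype.val_injective
    exact_mod_cast this
  · rw [if_neg hz, if_neg hz, mul_zero, zero_add]
    apply mul_le_mul_of_nonneg_right _ (hf0 g)
    have := card_meetsConj_le hone hz
    exact_mod_cast this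

end DoubleCount


section Main

variable {G : Type u} [Group G] [Fintype G] (H : Subgroup G) [Fintype H]

/-- Sum over a subgroup as a sum over the group with an indicator. -/
theorem sum_subgroup_eq_sum_ite (K : Subgroup G) [Fintype K] [DecidablePred (· ∈ K)]
    (F : G → ℝ) : ∑ g : K, F g = ∑ g : G, (if g ∈ K then F g else 0) := by
  rw [← Finset.sum_filter]
  symm
  exact Finset.sum_subtype (Finset.univ.filter (· ∈ K)) (by simp) F

/-- The coset average of `χ` over `H`. -/
noncomputable def cosetAvg (χ : G → ℂ) : G → ℂ :=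
  fun g => (Nat.card H : ℂ)⁻¹ * ∑ h : H, χ (g * h)

theorem cosetAvg_mul_mem (χ : G → ℂ) (g : G) (h : H) :
    cosetAvg H χ (g * h) = cosetAvg H χ g := by
  unfold cosetAvg
  congr 1
  rw [← Equiv.sum_comp (Equiv.mulLeft h) (fun h' : H => χ (g * h'))]
  apply Finset.sum_congr rfl
  intro h' _
  simp [mul_assoc]

theorem cosetAvg_one (χ : G → ℂ) :
    cosetAvg H χ 1 = classInner (fun h : H => χ h) (fun _ => (1 : ℂ)) := by
  unfold cosetAvg classInner
  congr 1
  apply Finset.sum_congr rfl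
  intro h _
  rw [one_mul, map_one, mul_one]

theorem classInner_self_re {N : Type*} [Group N] [Fintype N] (Ψ : N → ℂ) :
    (classInner Ψ Ψ).re = (Nat.card N : ℝ)⁻¹ * ∑ g : N, Complex.normSq (Ψ g) := by
  unfold classInner
  have h1 : ∑ g : N, Ψ g * conj (Ψ g) = ((∑ g : N, Complex.normSq (Ψ g) : ℝ) : ℂ) := by
    push_cast
    apply Finset.sum_congr rfl
    intro g _
    exact Complex.mul_conj (Ψ g)
  rw [h1]
  have h2 : ((Nat.card N : ℂ))⁻¹ = (((Nat.card N : ℝ)⁻¹ : ℝ) : ℂ) := by push_cast; rfl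
  rw [h2, ← Complex.ofReal_mul, Complex.ofReal_re]

open scoped Classical in
/-- The `N_G(H)`-part of the estimate. -/
theorem sum_normalizer_ge {χ : G → ℂ} (hχ : IsCharacter G χ) (hker : ∃ h ∈ H, χ h ≠ χ 1) :
    ∑ g : G, (if g ∈ Subgroup.normalizer (H : Set G) then Complex.normSq (cosetAvg H χ g) else 0)
      + (Nat.card (Subgroup.normalizer (H : Set G)) : ℝ)
    ≤ ∑ g : G, (if g ∈ Subgroup.normalizer (H : Set G) then Complex.normSq (χ g) else 0) := by
  set N : Subgroup G := Subgroup.normalizer (H : Set G) with hN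
  haveI : Fintype N := Fintype.ofFinite _
  have hAn : (H.subgroupOf N).Normal := Subgroup.normal_in_normalizer
  haveI : Fintype (H.subgroupOf N) := Fintype.ofFinite _
  set Φ : N → ℂ := fun g => χ g with hΦ
  have hΦc : IsCharacter N Φ := Cfsg.Agent.Helper81.isCharacter_restrict N hχ
  have hle : H ≤ N := Subgroup.le_normalizer
  have hcard : Nat.card (H.subgroupOf N) = Nat.card H :=
    Nat.card_congr (Subgroup.subgroupOfEquivOfLe hle).toEquiv
  have havg : avgFun (H.subgroupOf N) Φ = fun g : N => cosetAvg H χ (g : G) := by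
    funext g
    unfold avgFun cosetAvg
    rw [hcard]
    congr 1
    apply Fintype.sum_equiv (Subgroup.subgroupOfEquivOfLe hle).toEquiv
    intro a
    rfl
  have hne : Φ ≠ avgFun (H.subgroupOf N) Φ := by
    intro heq
    obtain ⟨h, hh, hne⟩ := hker
    apply hne
    rw [havg] at heq
    have h1 := congrFun heq ⟨h, hle hh⟩
    have h2 := congrFun heq 1
    simp only [hΦ] at h1 h2
    have h3 : cosetAvg H χ h = cosetAvg H χ 1 := by
      have := cosetAvg_mul_mem H χ 1 ⟨h, hh⟩
      rw [one_mul] at this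
      exact this
    change χ h = cosetAvg H χ h at h1
    change χ ((1 : N) : G) = cosetAvg H χ ((1 : N) : G) at h2
    rw [Subgroup.coe_one] at h2
    rw [h1, h3, ← h2]
  have hmain := classInner_avgFun_add_one_le (H.subgroupOf N) hΦc hne
  rw [classInner_self_re, classInner_self_re, havg] at hmain
  have hN0 : (0 : ℝ) < (Nat.card N : ℝ) := by exact_mod_cast Nat.card_pos
  rw [← sum_subgroup_eq_sum_ite N (fun g => Complex.normSq (cosetAvg H χ g)),
    ← sum_subgroup_eq_sum_ite N (fun g => Complex.normSq (χ g))]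
  have h4 := mul_le_mul_of_nonneg_left hmain hN0.le
  rw [mul_add, mul_one, ← mul_assoc, ← mul_assoc, mul_inv_cancel₀ hN0.ne', one_mul, one_mul] at h4
  exact h4

open scoped Classical in
theorem sum_meets_cosetAvg_ge (hab : ∀ a ∈ H, ∀ b ∈ H, a * b = b * a)
    (hZ : H ⊓ Subgroup.center G = ⊥) (χ : IrrCharacter G) (hH1 : ∃ h ∈ H, h ≠ 1) :
    (Nat.card H : ℝ) * (Nat.card (Subgroup.center G) : ℝ)
        * Complex.normSq (cosetAvg H (χ : G → ℂ) 1)
      ≤ ∑ g : G, (if MeetsConj H 1 g then Complex.normSq (cosetAvg H (χ : G → ℂ) g) else 0) := by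
  haveI : Fintype (Subgroup.center G) := Fintype.ofFinite _
  let ι : H × Subgroup.center G → G := fun p => (p.1 : G) * (p.2 : G)
  have hι : Function.Injective ι := by
    rintro ⟨h, z⟩ ⟨h', z'⟩ heq
    have h1 : (h : G) * (z : G) = (h' : G) * (z' : G) := heq
    have h2 : (h' : G)⁻¹ * (h : G) = (z' : G) * (z : G)⁻¹ := by
      have : (h' : G)⁻¹ * ((h : G) * (z : G)) * (z : G)⁻¹ = (h' : G)⁻¹ * (h : G) := by group
      rw [← this, h1]; group
    have h3 : (h' : G)⁻¹ * (h : G) ∈ H ⊓ Subgroup.center G := by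
      rw [Subgroup.mem_inf]
      refine ⟨mul_mem (inv_mem h'.2) h.2, ?_⟩
      rw [h2]
      exact mul_mem z'.2 (inv_mem z.2)
    rw [hZ, Subgroup.mem_bot] at h3
    have h4 : (h : G) = (h' : G) := by
      have : (h : G) = (h' : G) * ((h' : G)⁻¹ * (h : G)) := by group
      rw [this, h3, mul_one]
    have h5 : (z : G) = (z' : G) := by
      rw [h4] at h1
      exact mul_left_cancel h1
    exact Prod.ext (Subtype.ext h4) (Subtype.ext h5)
  obtain ⟨h₀, hh₀, hh₀1⟩ := hH1
  have hmeets : ∀ p : H × Subgroup.center G, MeetsConj H 1 (ι p) := by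
    rintro ⟨h, z⟩
    rw [meetsConj_iff]
    refine ⟨h₀, hh₀, hh₀1, ?_⟩
    have hz := Subgroup.mem_center_iff.1 z.2
    change 1 * h₀ * (1 : G)⁻¹ * ((h : G) * (z : G)) = (h : G) * (z : G) * (1 * h₀ * (1 : G)⁻¹)
    rw [one_mul, inv_one, mul_one, ← mul_assoc, hab h₀ hh₀ h h.2, mul_assoc, hz h₀, ← mul_assoc]
  have hval : ∀ p : H × Subgroup.center G,
      Complex.normSq (cosetAvg H (χ : G → ℂ) (ι p)) = Complex.normSq (cosetAvg H (χ : G → ℂ) 1) := by
    rintro ⟨h, z⟩
    obtain ⟨c, hc, hck⟩ := irr_central_scalar χ (z : G) z.2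
    have hcn : ‖c‖ = 1 :=
      Complex.norm_eq_one_of_pow_eq_one (hck (orderOf (z : G)) (pow_orderOf_eq_one _))
        (orderOf_pos (z : G)).ne'
    have h1 : cosetAvg H (χ : G → ℂ) (ι (h, z)) = c * cosetAvg H (χ : G → ℂ) 1 := by
      have hz := Subgroup.mem_center_iff.1 z.2
      unfold cosetAvg
      have hsum : ∑ h' : H, (χ : G → ℂ) (ι (h, z) * (h' : G))
          = c * ∑ h' : H, (χ : G → ℂ) (1 * (h' : G)) := by
        rw [Finset.mul_sum]
        rw [← Equiv.sum_comp (Equiv.mulLeft h) (fun h' : H => c * (χ : G → ℂ) (1 * (h' : G)))]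
        apply Finset.sum_congr rfl
        intro h' _
        simp only [Equiv.coe_mulLeft, Subgroup.coe_mul, one_mul]
        rw [← hc]
        have : ι (h, z) * (h' : G) = (h : G) * (h' : G) * (z : G) := by
          change (h : G) * (z : G) * (h' : G) = (h : G) * (h' : G) * (z : G)
          rw [mul_assoc, ← hz (h' : G), mul_assoc]
        rw [this]
      rw [hsum]
      ring
    rw [h1, map_mul, Complex.normSq_eq_norm_sq c, hcn]
    ring
  have h1 : ∑ g ∈ Finset.univ.image ι,
      (if MeetsConj H 1 g then Complex.normSq (cosetAvg H (χ : G → ℂ) g) else 0)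
      ≤ ∑ g : G, (if MeetsConj H 1 g then Complex.normSq (cosetAvg H (χ : G → ℂ) g) else 0) := by
    apply Finset.sum_le_sum_of_subset_of_nonneg (Finset.subset_univ _)
    intro g _ _
    split_ifs
    · exact Complex.normSq_nonneg _
    · exact le_refl _
  refine le_trans ?_ h1
  rw [Finset.sum_image (fun p _ q _ hpq => hι hpq)]
  have h2 : ∀ p : H × Subgroup.center G,
      (if MeetsConj H 1 (ι p) then Complex.normSq (cosetAvg H (χ : G → ℂ) (ι p)) else 0)
        = Complex.normSq (cosetAvg H (χ : G → ℂ) 1) := by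
    intro p
    rw [if_pos (hmeets p), hval p]
  simp_rw [h2]
  rw [Finset.sum_const, Finset.card_univ, Fintype.card_prod, nsmul_eq_mul,
    Nat.card_eq_fintype_card, Nat.card_eq_fintype_card]
  push_cast
  exact le_refl _

open scoped Classical in
/-- The main inequality `χ(1)² > |H| c²`. -/
theorem ti_bound_first (hab : ∀ a ∈ H, ∀ b ∈ H, a * b = b * a)
    (hZ : H ⊓ Subgroup.center G = ⊥) (hone : AtMostOneConj H) (χ : G → ℂ)
    (hχ : IsIrrCharacter G χ) (hker : ∃ h ∈ H, χ h ≠ χ 1) :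
    (χ 1).re ^ 2 > (Nat.card H : ℝ) *
      (classInner (fun h : H => χ h) (fun _ => (1 : ℂ))).re ^ 2 := by
  have hχc : IsCharacter G χ := Cfsg.Agent.Helper81.IsIrrCharacter.isCharacter hχ
  have hcf : IsClassFunction G χ := Cfsg.Agent.Helper81.isClassFunction_of_isCharacter hχc
  haveI : Fintype (Subgroup.center G) := Fintype.ofFinite _
  set N : Subgroup G := Subgroup.normalizer (H : Set G) with hN
  set f : G → ℝ := fun g => Complex.normSq (χ g) with hf
  set fa : G → ℝ := fun g => Complex.normSq (cosetAvg H χ g) with hfa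
  have hf0 : ∀ g, 0 ≤ f g := fun g => Complex.normSq_nonneg _
  have hfc : ∀ g x : G, f (x * g * x⁻¹) = f g := by
    intro g x
    simp only [hf]
    rw [hcf g x]
  -- (S1)
  have hS1 : ∑ g : G, f g = (Nat.card G : ℝ) := by
    have h1 := Cfsg.Agent.Helper81.irr_orthonormal hχ hχ
    rw [if_pos rfl] at h1
    have h2 := classInner_self_re χ
    rw [h1, Complex.one_re] at h2
    have hG0 : (0 : ℝ) < (Nat.card G : ℝ) := by exact_mod_cast Nat.card_pos
    have h3 : (Nat.card G : ℝ) * 1 = (Nat.card G : ℝ) * ((Nat.card G : ℝ)⁻¹ * ∑ g : G, f g) := by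
      rw [h2]
    rw [mul_one, ← mul_assoc, mul_inv_cancel₀ hG0.ne', one_mul] at h3
    exact h3.symm
  -- (S2)
  have hS2 : ∀ z ∈ Subgroup.center G, f z = f 1 := by
    intro z hz
    obtain ⟨c, hc, hck⟩ := irr_central_scalar ⟨χ, hχ⟩ z hz
    have hcn : ‖c‖ = 1 :=
      Complex.norm_eq_one_of_pow_eq_one (hck (orderOf z) (pow_orderOf_eq_one _))
        (orderOf_pos z).ne'
    simp only [hf]
    have h1 : χ z = c * χ 1 := by
      have := hc 1
      rwa [one_mul] at this
    rw [h1, map_mul, Complex.normSq_eq_norm_sq c, hcn]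
    ring
  have hZsum : ∑ g : G, (if g ∈ Subgroup.center G then f g else 0)
      = (Nat.card (Subgroup.center G) : ℝ) * f 1 := by
    rw [← sum_subgroup_eq_sum_ite (Subgroup.center G) f]
    have : ∀ z : Subgroup.center G, f z = f 1 := fun z => hS2 z z.2
    simp_rw [this]
    rw [Finset.sum_const, Finset.card_univ, nsmul_eq_mul, Nat.card_eq_fintype_card]
  have hnZsum : ∑ g : G, (if g ∈ Subgroup.center G then 0 else f g)
      = (Nat.card G : ℝ) - (Nat.card (Subgroup.center G) : ℝ) * f 1 := by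
    rw [← hZsum, ← hS1, eq_sub_iff_add_eq, ← Finset.sum_add_distrib]
    apply Finset.sum_congr rfl
    intro g _
    split_ifs <;> simp
  have hupper := doubleCount_le H hone f hf0 hfc
  rw [hZsum, hnZsum] at hupper
  -- lower bound
  have hL3 : ∀ g : G, MeetsConj H 1 g → g ∈ N := fun g hg => mem_normalizer_of_meetsConj hone hg
  have hL2 : ∀ g : G, g ∈ N → ¬ MeetsConj H 1 g → f g = fa g := by
    intro g hgN hg
    simp only [hf, hfa]
    congr 1
    unfold cosetAvg
    have h1 : ∀ h : H, χ (g * h) = χ g := by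
      intro h
      obtain ⟨k, hk⟩ := exists_conj_of_not_meetsConj hgN hg h
      rw [← hk]
      have := hcf g k⁻¹
      rw [inv_inv] at this
      exact this
    simp_rw [h1]
    rw [Finset.sum_const, Finset.card_univ, nsmul_eq_mul, ← Nat.card_eq_fintype_card]
    have : (Nat.card H : ℂ) ≠ 0 := card_ne_zero_complex' H
    field_simp
  have hsplit : ∀ F : G → ℝ, ∑ g : G, (if g ∈ N then F g else 0)
      = ∑ g : G, (if MeetsConj H 1 g then F g else 0)
        + ∑ g : G, (if g ∈ N ∧ ¬ MeetsConj H 1 g then F g else 0) := by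
    intro F
    rw [← Finset.sum_add_distrib]
    apply Finset.sum_congr rfl
    intro g _
    by_cases hm : MeetsConj H 1 g
    · have hgN := hL3 g hm
      rw [if_pos hgN, if_pos hm, if_neg (fun h => h.2 hm), add_zero]
    · by_cases hgN : g ∈ N
      · rw [if_pos hgN, if_neg hm, if_pos ⟨hgN, hm⟩, zero_add]
      · rw [if_neg hgN, if_neg hm, if_neg (fun h => hgN h.1), zero_add]
  have hrest : ∑ g : G, (if g ∈ N ∧ ¬ MeetsConj H 1 g then f g else 0)
      = ∑ g : G, (if g ∈ N ∧ ¬ MeetsConj H 1 g then fa g else 0) := by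
    apply Finset.sum_congr rfl
    intro g _
    by_cases h : g ∈ N ∧ ¬ MeetsConj H 1 g
    · rw [if_pos h, if_pos h, hL2 g h.1 h.2]
    · rw [if_neg h, if_neg h]
  have hNge := sum_normalizer_ge H hχc hker
  rw [hsplit f, hsplit fa, hrest] at hNge
  have hH1 : ∃ h ∈ H, h ≠ 1 := by
    obtain ⟨h, hh, hne⟩ := hker
    exact ⟨h, hh, fun h1 => hne (by rw [h1])⟩
  have hL4 := sum_meets_cosetAvg_ge H hab hZ ⟨χ, hχ⟩ hH1
  -- arithmetic
  set S := ∑ g : G, (if MeetsConj H 1 g then f g else 0) with hS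
  set Sa := ∑ g : G, (if MeetsConj H 1 g then fa g else 0) with hSa
  have hlow : Sa + (Nat.card N : ℝ) ≤ S := by linarith
  have hG0 : (0 : ℝ) < (Nat.card G : ℝ) := by exact_mod_cast Nat.card_pos
  have hN0 : (0 : ℝ) < (Nat.card N : ℝ) := by exact_mod_cast Nat.card_pos
  have hZ0 : (0 : ℝ) < (Nat.card (Subgroup.center G) : ℝ) := by exact_mod_cast Nat.card_pos
  have hH0 : (0 : ℝ) < (Nat.card H : ℝ) := by exact_mod_cast Nat.card_pos
  obtain ⟨d, hd, hd1⟩ := Cfsg.Agent.Helper78.irr_apply_one hχ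
  have hf1 : f 1 = (χ 1).re ^ 2 := by
    simp only [hf]
    rw [hd1, Complex.normSq_natCast, Complex.natCast_re]
    ring
  have hf1pos : 0 < f 1 := by
    rw [hf1, hd1, Complex.natCast_re]
    have : (0 : ℝ) < (d : ℝ) := by exact_mod_cast hd
    positivity
  have hc2 : (classInner (fun h : H => χ h) (fun _ => (1 : ℂ))).re ^ 2
      ≤ Complex.normSq (cosetAvg H χ 1) := by
    rw [cosetAvg_one, Complex.normSq_apply]
    nlinarith [mul_self_nonneg (classInner (fun h : H => χ h) (fun _ => (1 : ℂ))).im]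
  set c2 := (classInner (fun h : H => χ h) (fun _ => (1 : ℂ))).re ^ 2 with hc2def
  set A1 := Complex.normSq (cosetAvg H χ 1) with hA1
  rw [← hf1]
  -- from the inequalities
  have hfa1 : Complex.normSq (cosetAvg H (χ : G → ℂ) 1) = A1 := rfl
  have key : (Nat.card G : ℝ) * ((Nat.card H : ℝ) * (Nat.card (Subgroup.center G) : ℝ) * A1
      + (Nat.card N : ℝ))
      ≤ (Nat.card G : ℝ) * ((Nat.card (Subgroup.center G) : ℝ) * f 1)
        + (Nat.card N : ℝ) * ((Nat.card G : ℝ) - (Nat.card (Subgroup.center G) : ℝ) * f 1) := by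
    have h1 : (Nat.card H : ℝ) * (Nat.card (Subgroup.center G) : ℝ) * A1 + (Nat.card N : ℝ) ≤ S := by
      linarith
    calc (Nat.card G : ℝ) * ((Nat.card H : ℝ) * (Nat.card (Subgroup.center G) : ℝ) * A1
          + (Nat.card N : ℝ)) ≤ (Nat.card G : ℝ) * S := mul_le_mul_of_nonneg_left h1 hG0.le
      _ ≤ _ := hupper
  -- |G||H||Z| A1 ≤ |Z| f1 (|G| - |N|)
  have key2 : (Nat.card G : ℝ) * (Nat.card H : ℝ) * A1 ≤ f 1 * ((Nat.card G : ℝ) - (Nat.card N : ℝ)) := by
    have h2 : (Nat.card (Subgroup.center G) : ℝ) * ((Nat.card G : ℝ) * (Nat.card H : ℝ) * A1)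
        ≤ (Nat.card (Subgroup.center G) : ℝ) * (f 1 * ((Nat.card G : ℝ) - (Nat.card N : ℝ))) := by
      nlinarith [key]
    exact le_of_mul_le_mul_left h2 hZ0
  have key3 : (Nat.card G : ℝ) * ((Nat.card H : ℝ) * c2) < (Nat.card G : ℝ) * f 1 := by
    have h3 : (Nat.card G : ℝ) * ((Nat.card H : ℝ) * c2) ≤ (Nat.card G : ℝ) * (Nat.card H : ℝ) * A1 := by
      rw [mul_assoc]
      apply mul_le_mul_of_nonneg_left _ hG0.le
      exact mul_le_mul_of_nonneg_left hc2 hH0.le
    have h4 : f 1 * ((Nat.card G : ℝ) - (Nat.card N : ℝ)) < (Nat.card G : ℝ) * f 1 := by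
      nlinarith
    linarith
  exact lt_of_mul_lt_mul_left key3 hG0.le

end Main

end Cfsg.Agent.Helper15
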