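import Mathlib
import Cfsg.Prelude.Def_Characters
import Cfsg.Agent.Lib.Helper15.TIBound
import Cfsg.Agent.Lib.Helper81.CharProd
import Cfsg.Agent.Lib.Helper96.FrobeniusThm
import Cfsg.Agent.Lib.Helper3.CharArtin

set_option autoImplicit false
set_option linter.style.haveILetI false
set_option linter.unusedSectionVars false

namespace Cfsg.Agent.Helper15

open Cfsg
open scoped ComplexConjugate

universe u

section Second

variable {G : Type u} [Group G] [Fintype G] (H : Subgroup G) [Fintype H]

/-- For a character of an abelian group, the norm is at least the degree. -/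
theorem abelian_norm_ge_degree {A : Type u} [Group A] [Fintype A]
    (hcomm : ∀ a b : A, a * b = b * a) {φ : A → ℂ} (hφ : IsCharacter A φ) :
    (φ 1).re ≤ (classInner φ φ).re := by
  classical
  have hfin : Finite (IrrCharacter A) := Cfsg.Agent.Helper81.irr_finite
  have hdec := Cfsg.Agent.Helper3.isCharacter_eq_sum_irrMult hφ
  set m : IrrCharacter A → ℕ := fun ψ => Cfsg.Agent.Helper3.irrMult φ ψ with hm
  have h1 : classInner φ φ = ∑ ψ : IrrCharacter A, (m ψ : ℂ) * conj (m ψ : ℂ) := by
    conv_lhs => rw [hdec]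
    exact Cfsg.Agent.Helper3.classInner_sum_irr _ _
  have h2 : φ 1 = ∑ ψ : IrrCharacter A, (m ψ : ℂ) := by
    have := congrFun hdec 1
    rw [this, Finset.sum_apply]
    apply Finset.sum_congr rfl
    intro ψ _
    obtain ⟨lam, hlam⟩ := Cfsg.Agent.Helper3.irr_abelian_hom hcomm ψ.1 ψ.2
    simp only [Pi.smul_apply, smul_eq_mul]
    rw [hlam]
    simp [hm]
  rw [h1, h2, Complex.re_sum, Complex.re_sum]
  apply Finset.sum_le_sum
  intro ψ _
  rw [Complex.conj_natCast, ← Nat.cast_mul, Complex.natCast_re, Complex.natCast_re]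
  have : m ψ ≤ m ψ * m ψ := Nat.le_mul_self _
  exact_mod_cast this

/-- The second inequality `(1 + χ(1))² > |H|`. -/
theorem ti_bound_second (hab : ∀ a ∈ H, ∀ b ∈ H, a * b = b * a)
    (hZ : H ⊓ Subgroup.center G = ⊥) (hone : AtMostOneConj H) (χ : G → ℂ)
    (hχ : IsIrrCharacter G χ) (hχ1 : χ 1 ≠ 1)
    (hnc : ∀ M : Subgroup G, M.Normal → H ≤ M → M = ⊤) :
    (1 + (χ 1).re) ^ 2 > (Nat.card H : ℝ) := by
  classical
  by_contra hcon
  rw [gt_iff_lt, not_lt] at hcon
  have hχc : IsCharacter G χ := Cfsg.Agent.Helper81.IsIrrCharacter.isCharacter hχ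
  obtain ⟨d, hd, hd1⟩ := Cfsg.Agent.Helper78.irr_apply_one hχ
  have hdre : (χ 1).re = (d : ℝ) := by rw [hd1, Complex.natCast_re]
  rw [hdre] at hcon
  have hd2 : d ≠ 1 := by
    intro h
    apply hχ1
    rw [hd1, h, Nat.cast_one]
  have hfin : Finite (IrrCharacter G) := Cfsg.Agent.Helper81.irr_finite
  set ψ : G → ℂ := χ * (fun g => conj (χ g)) with hψ
  have hψc : IsCharacter G ψ :=
    Cfsg.Agent.Helper81.isCharacter_mul hχc (Cfsg.Agent.Helper3.isCharacter_conj hχc)
  have hdec := Cfsg.Agent.Helper3.isCharacter_eq_sum_irrMult hψc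
  set a : IrrCharacter G → ℕ := fun j => Cfsg.Agent.Helper3.irrMult ψ j with ha
  let triv : IrrCharacter G := ⟨fun _ => 1, Cfsg.Agent.Helper3.isIrrCharacter_one⟩
  -- (i)
  have hatriv : a triv = 1 := by
    have h1 := Cfsg.Agent.Helper3.irrMult_spec hψc triv
    have h2 : classInner ψ (triv : G → ℂ) = classInner χ χ := by
      unfold classInner
      congr 1
      apply Finset.sum_congr rfl
      intro g _
      simp [hψ, triv]
    rw [h2, Cfsg.Agent.Helper81.irr_orthonormal hχ hχ, if_pos rfl] at h1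
    have : ((a triv : ℕ) : ℂ) = 1 := h1.symm
    exact_mod_cast this
  -- restricted multiplicities
  set c : IrrCharacter G → ℝ :=
    fun j => (classInner (fun h : H => (j : G → ℂ) h) (fun _ => (1 : ℂ))).re with hc
  -- (iii)
  have hstrict : ∀ j : IrrCharacter G, j ≠ triv →
      (1 + (d : ℝ)) * c j < ((j : G → ℂ) 1).re := by
    intro j hj
    have hkerj : ∃ h ∈ H, (j : G → ℂ) h ≠ (j : G → ℂ) 1 := by
      by_contra hno
      push Not at hno
      obtain ⟨M, hMn, hM⟩ := Cfsg.Agent.Helper96.exists_normal_ker_of_isCharacter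
        (Cfsg.Agent.Helper81.IsIrrCharacter.isCharacter j.2)
      have hHM : H ≤ M := fun h hh => (hM h).2 (hno h hh)
      have hMtop := hnc M hMn hHM
      have hconst : ∀ g : G, (j : G → ℂ) g = (j : G → ℂ) 1 := by
        intro g
        apply (hM g).1
        rw [hMtop]
        exact Subgroup.mem_top g
      apply hj
      have h10 : (j : G → ℂ) 1 ≠ 0 := Cfsg.Agent.Helper78.irr_apply_one_ne_zero j.2
      have h1 := Cfsg.Agent.Helper81.irr_orthonormal j.2 triv.2
      by_cases heq : (j : G → ℂ) = (triv : G → ℂ)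
      · exact Subtype.ext heq
      · exfalso
        rw [if_neg heq] at h1
        unfold classInner at h1
        have hG0 : (Nat.card G : ℂ) ≠ 0 := by
          have : Nat.card G ≠ 0 := Nat.card_pos.ne'
          exact_mod_cast this
        have h2 : ∑ g : G, (j : G → ℂ) g * conj ((triv : G → ℂ) g)
            = (Nat.card G : ℂ) * (j : G → ℂ) 1 := by
          simp_rw [hconst]
          simp [triv, Nat.card_eq_fintype_card]
        rw [h2] at h1
        rcases mul_eq_zero.1 h1 with h3 | h3
        · exact inv_ne_zero hG0 h3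
        · rcases mul_eq_zero.1 h3 with h4 | h4
          · exact hG0 h4
          · exact h10 h4
    have hfirst := ti_bound_first H hab hZ hone (j : G → ℂ) j.2 hkerj
    obtain ⟨dj, hdj, hdj1⟩ := Cfsg.Agent.Helper78.irr_apply_one j.2
    have hjre : 0 ≤ ((j : G → ℂ) 1).re := by
      rw [hdj1, Complex.natCast_re]; positivity
    have h1 : ((1 + (d : ℝ)) * c j) ^ 2 < ((j : G → ℂ) 1).re ^ 2 := by
      have h2 : ((1 + (d : ℝ)) * c j) ^ 2 ≤ (Nat.card H : ℝ) * c j ^ 2 := by
        rw [mul_pow]
        exact mul_le_mul_of_nonneg_right hcon (sq_nonneg _)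
      exact lt_of_le_of_lt h2 hfirst
    exact lt_of_pow_lt_pow_left₀ 2 hjre h1
  -- (iv)
  have hdeg : ((d : ℝ)) ^ 2 = ∑ j : IrrCharacter G, (a j : ℝ) * ((j : G → ℂ) 1).re := by
    have h1 := congrFun hdec 1
    rw [Finset.sum_apply] at h1
    have h2 : ψ 1 = ((d : ℂ)) ^ 2 := by
      simp only [hψ, Pi.mul_apply]
      rw [hd1, Complex.conj_natCast]
      ring
    rw [h2] at h1
    have h3 := congrArg Complex.re h1
    rw [Complex.re_sum] at h3
    have h4 : (((d : ℂ)) ^ 2).re = (d : ℝ) ^ 2 := by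
      rw [← Nat.cast_pow, Complex.natCast_re]
      push_cast; ring
    rw [h4] at h3
    rw [h3]
    apply Finset.sum_congr rfl
    intro j _
    simp only [Pi.smul_apply, smul_eq_mul]
    rw [Complex.mul_re, Complex.natCast_re, Complex.natCast_im, zero_mul, sub_zero]
  -- (v)
  have hres : (classInner (fun h : H => ψ h) (fun _ => (1 : ℂ))).re
      = ∑ j : IrrCharacter G, (a j : ℝ) * c j := by
    have h1 : (fun h : H => ψ h)
        = ∑ j : IrrCharacter G, ((a j : ℕ) : ℂ) • (fun h : H => (j : G → ℂ) h) := by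
      funext h
      have := congrFun hdec h
      rw [this, Finset.sum_apply, Finset.sum_apply]
      rfl
    rw [h1, Cfsg.Agent.Helper81.classInner_sum_left, Complex.re_sum]
    apply Finset.sum_congr rfl
    intro j _
    rw [Cfsg.Agent.Helper81.classInner_smul_left, Complex.mul_re, Complex.natCast_re,
      Complex.natCast_im, zero_mul, sub_zero]
  -- (vi)
  have hsge : (d : ℝ) ≤ (classInner (fun h : H => ψ h) (fun _ => (1 : ℂ))).re := by
    have hcomm : ∀ x y : H, x * y = y * x := by
      intro x y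
      exact Subtype.ext (hab x x.2 y y.2)
    have h1 := abelian_norm_ge_degree hcomm (Cfsg.Agent.Helper81.isCharacter_restrict H hχc)
    have h2 : classInner (fun h : H => ψ h) (fun _ => (1 : ℂ))
        = classInner (fun h : H => χ h) (fun h : H => χ h) := by
      unfold classInner
      congr 1
      apply Finset.sum_congr rfl
      intro h _
      simp [hψ]
    rw [h2]
    refine le_trans ?_ h1
    change (d : ℝ) ≤ (χ ((1 : H) : G)).re
    rw [Subgroup.coe_one, hdre]
  rw [hres] at hsge
  -- (vii)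
  have hctriv : c triv = 1 := by
    simp only [hc, triv]
    have := Cfsg.Agent.Helper96.classInner_one_one (G := H)
    rw [this, Complex.one_re]
  have htriv1 : ((triv : G → ℂ) 1).re = 1 := by simp [triv]
  have hsum : ∑ j : IrrCharacter G, (a j : ℝ) * (((j : G → ℂ) 1).re - (1 + (d : ℝ)) * c j)
      = (d : ℝ) ^ 2 - (1 + (d : ℝ)) * ∑ j : IrrCharacter G, (a j : ℝ) * c j := by
    rw [hdeg, Finset.mul_sum, ← Finset.sum_sub_distrib]
    apply Finset.sum_congr rfl
    intro j _
    ring
  have hsplit := Finset.add_sum_erase Finset.univ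
    (fun j : IrrCharacter G => (a j : ℝ) * (((j : G → ℂ) 1).re - (1 + (d : ℝ)) * c j))
    (Finset.mem_univ triv)
  simp only [hatriv, hctriv, htriv1, Nat.cast_one] at hsplit
  have hnonneg : ∀ j ∈ Finset.univ.erase triv,
      0 ≤ (a j : ℝ) * (((j : G → ℂ) 1).re - (1 + (d : ℝ)) * c j) := by
    intro j hj
    have hj' : j ≠ triv := (Finset.mem_erase.1 hj).1
    have := hstrict j hj'
    apply mul_nonneg (Nat.cast_nonneg _)
    linarith
  have hrest0 : ∑ j ∈ Finset.univ.erase triv,
      (a j : ℝ) * (((j : G → ℂ) 1).re - (1 + (d : ℝ)) * c j) ≤ 0 := by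
    have hd0 : (0 : ℝ) < (d : ℝ) := by exact_mod_cast hd
    nlinarith [hsplit, hsum, hsge]
  have hrest_eq : ∑ j ∈ Finset.univ.erase triv,
      (a j : ℝ) * (((j : G → ℂ) 1).re - (1 + (d : ℝ)) * c j) = 0 :=
    le_antisymm hrest0 (Finset.sum_nonneg hnonneg)
  have hall := (Finset.sum_eq_zero_iff_of_nonneg hnonneg).1 hrest_eq
  have ha0 : ∀ j : IrrCharacter G, j ≠ triv → a j = 0 := by
    intro j hj
    have h1 := hall j (Finset.mem_erase.2 ⟨hj, Finset.mem_univ j⟩)
    have h2 := hstrict j hj
    rcases mul_eq_zero.1 h1 with h3 | h3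
    · exact_mod_cast h3
    · linarith
  have hd1' : (d : ℝ) ^ 2 = 1 := by
    rw [hdeg, ← Finset.add_sum_erase Finset.univ _ (Finset.mem_univ triv)]
    rw [hatriv, htriv1, Finset.sum_eq_zero, add_zero]
    · simp
    · intro j hj
      rw [ha0 j (Finset.mem_erase.1 hj).1]
      simp
  have : d = 1 := by
    have h1 : ((d ^ 2 : ℕ) : ℝ) = ((1 : ℕ) : ℝ) := by push_cast; exact hd1'
    have h2 : d ^ 2 = 1 := by exact_mod_cast h1
    exact Nat.pow_eq_one.1 h2 |>.resolve_right (by norm_num)
  exact hd2 this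

end Second

end Cfsg.Agent.Helper15
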