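import Mathlib
import Cfsg.Prelude.Def_Characters
import Cfsg.Prelude.Def_Blocks
import Cfsg.Agent.Lib.Helper15.PiSection
import Cfsg.Agent.Lib.Helper16.PIndex
import Cfsg.Agent.Lib.Helper77.LocalRing
import Cfsg.Agent.Lib.Helper3.CharArtin

set_option autoImplicit false
set_option linter.style.haveILetI false

namespace Cfsg.Agent.Helper15

open Cfsg
open scoped ComplexConjugate

/-- Multiplying the argument of a character by a commuting element of `p`-power order does not
change the value modulo the local ideal at a `p`-modular `M`. -/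
theorem char_mul_ppart_sub {G : Type*} [Group G] [Finite G] {p : ℕ} {M : Ideal AlgInt}
    (hM : IsPModular p M) {χ : G → ℂ} (hχ : IsCharacter G χ) {a x' : G} (hcomm : Commute a x')
    {k : ℕ} (ha : a ^ (p ^ k) = 1) : MemLocalIdeal M (χ (a * x') - χ x') := by
  classical
  have hMtop : M ≠ ⊤ := Cfsg.Agent.Helper77.ne_top_of_isPModular hM
  have hMprime : M.IsPrime := Cfsg.Agent.Helper77.isPrime_of_isPModular hM
  set C : Subgroup G := Subgroup.closure {a, x'} with hC
  have hCc : IsMulCommutative C := by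
    apply Subgroup.isMulCommutative_closure
    intro u hu v hv
    simp only [Set.mem_insert_iff, Set.mem_singleton_iff] at hu hv
    rcases hu with rfl | rfl <;> rcases hv with rfl | rfl
    · rfl
    · exact hcomm
    · exact hcomm.symm
    · rfl
  have hcommC : ∀ u v : C, u * v = v * u := fun u v => mul_comm' u v
  let a' : C := ⟨a, Subgroup.subset_closure (by simp)⟩
  let x'' : C := ⟨x', Subgroup.subset_closure (by simp)⟩
  haveI : Fintype C := Fintype.ofFinite _
  have hfin : Finite (IrrCharacter C) := Cfsg.Agent.Helper81.irr_finite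
  haveI : Fintype (IrrCharacter C) := Fintype.ofFinite _
  have hψ : IsCharacter C (fun c : C => χ c) := Cfsg.Agent.Helper81.isCharacter_restrict C hχ
  obtain ⟨mult, hmult⟩ := Cfsg.Agent.Helper81.exists_nat_decomp hψ
  have h1 : χ (a * x') = ∑ θ : IrrCharacter C, (mult θ : ℂ) * (θ : C → ℂ) (a' * x'') := by
    have := congrFun hmult (a' * x'')
    simpa [Finset.sum_apply] using this
  have h2 : χ x' = ∑ θ : IrrCharacter C, (mult θ : ℂ) * (θ : C → ℂ) x'' := by
    have := congrFun hmult x''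
    simpa [Finset.sum_apply] using this
  rw [h1, h2, ← Finset.sum_sub_distrib]
  apply Cfsg.Agent.Helper77.memLocalIdeal_sum
  intro θ _
  obtain ⟨lam, hlam⟩ := Cfsg.Agent.Helper3.irr_abelian_hom hcommC θ.1 θ.2
  rw [hlam]
  simp only
  rw [map_mul, Units.val_mul, ← mul_sub]
  apply Cfsg.Agent.Helper77.memLocalIdeal_mul_left (Cfsg.Agent.Helper77.memLocalRing_natCast _)
  have h3 : ((lam a' : ℂˣ) : ℂ) * ((lam x'' : ℂˣ) : ℂ) - ((lam x'' : ℂˣ) : ℂ)
      = (((lam a' : ℂˣ) : ℂ) - 1) * ((lam x'' : ℂˣ) : ℂ) := by ring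
  rw [h3]
  apply Cfsg.Agent.Helper77.memLocalIdeal_mul_right
  · apply Cfsg.Agent.Helper16.memLocalIdeal_sub_one_of_pow_eq_one hM _ k
    rw [← Units.val_pow_eq_pow_val, ← map_pow]
    have : a' ^ (p ^ k) = 1 := Subtype.ext (by simpa using ha)
    rw [this, map_one, Units.val_one]
  · exact Cfsg.Agent.Helper77.memLocalRing_algInt hMtop ⟨_, hom_val_mem_algInt lam x''⟩


/-- The `p`-regular part as a power: if `|G| = p ^ e * n` with `p ∤ n`, `p ^ e ∣ k` and
`k ≡ 1 [MOD n]`, then `x ^ k` is the `p`-regular part of `x`. -/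
theorem ppart_pow_eq {G : Type*} [Group G] [Finite G] {p e n k : ℕ} (hp : p.Prime)
    (hmn : Nat.card G = p ^ e * n) (hpn : ¬ p ∣ n) (hk0 : p ^ e ∣ k) (hk1 : k ≡ 1 [MOD n])
    {x a : G} (ha : IsPPart p x a) : x ^ k = a⁻¹ * x := by
  obtain ⟨yx, rfl, hc, ⟨j, hj⟩, hyx⟩ := ha
  have hord : ∀ y : G, orderOf y ∣ p ^ e * n := fun y => hmn ▸ orderOf_dvd_natCard y
  have hpn' : Nat.Coprime p n := (Nat.Prime.coprime_iff_not_dvd hp).2 hpn
  have h1 : a ^ k = 1 := by
    apply orderOf_dvd_iff_pow_eq_one.1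
    refine dvd_trans ?_ hk0
    apply Nat.Coprime.dvd_of_dvd_mul_right _ (hord a)
    rw [hj]
    exact Nat.Coprime.pow_left _ hpn'
  have h2 : yx ^ k = yx := by
    have hcop : Nat.Coprime (orderOf yx) (p ^ e) :=
      Nat.Coprime.pow_right _ ((Nat.Prime.coprime_iff_not_dvd hp).2 hyx).symm
    have hvn : orderOf yx ∣ n := Nat.Coprime.dvd_of_dvd_mul_left hcop (hord yx)
    have : yx ^ k = yx ^ 1 := pow_eq_pow_iff_modEq.2 (hk1.of_dvd hvn)
    rw [this, pow_one]
  rw [hc.mul_pow, h1, h2, one_mul, inv_mul_cancel_left]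

end Cfsg.Agent.Helper15
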