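import Mathlib
import Cfsg.Agent.Lib.Helper76.RuZDefs
import Cfsg.Agent.Lib.Helper17.Order8Dihedral

/-!
# RUZ server (helper76, S3174): piece (D8) `quotient_iso_d8`.
-/

set_option autoImplicit false

namespace Cfsg.Agent.Helper15.RuZ

open Cfsg.Agent.Helper76.RuZ

variable {T : Type*} [Group T] [Finite T]

/-- (D8) `T / W` is dihedral of order 8. -/
theorem quotient_iso_d8 (W F Z2 : Subgroup T) [W.Normal] (x y z : T) (hg : Gens W F Z2 x y z)
    (hidx : W.index = 8) : Nonempty (T ⧸ W ≃* DihedralGroup 4) := by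
  have hcard : Nat.card (T ⧸ W) = 8 := by rw [← hidx]; rfl
  have mk1 : ∀ a : T, ((a : T) : T ⧸ W) = 1 ↔ a ∈ W := fun a => QuotientGroup.eq_one_iff a
  have hz1 : ((z : T) : T ⧸ W) ≠ 1 := fun h => hg.zW ((mk1 z).mp h)
  have hx1 : ((x : T) : T ⧸ W) ≠ 1 := fun h => hg.xW ((mk1 x).mp h)
  have hzz : ((z : T) : T ⧸ W) * ((z : T) : T ⧸ W) = 1 := by
    rw [← QuotientGroup.mk_mul]; exact (mk1 _).mpr hg.zsq
  have hxx : ((x : T) : T ⧸ W) * ((x : T) : T ⧸ W) = 1 := by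
    rw [← QuotientGroup.mk_mul]; exact (mk1 _).mpr hg.xsq
  have hyx : ((y : T) : T ⧸ W) * ((x : T) : T ⧸ W) * ((y : T) : T ⧸ W)⁻¹ =
      ((x : T) : T ⧸ W) * ((z : T) : T ⧸ W) := by
    have h := (mk1 _).mpr hg.yx
    simp only [QuotientGroup.mk_mul, QuotientGroup.mk_inv] at h
    rw [mul_inv_eq_one] at h
    exact h
  have hna : ¬ ∀ a b : T ⧸ W, a * b = b * a := by
    intro hab
    apply hz1
    have h1 : ((y : T) : T ⧸ W) * ((x : T) : T ⧸ W) * ((y : T) : T ⧸ W)⁻¹ = ((x : T) : T ⧸ W) := by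
      rw [hab ((y : T) : T ⧸ W) ((x : T) : T ⧸ W)]; group
    rw [h1] at hyx
    exact (mul_left_cancel (a := ((x : T) : T ⧸ W)) (b := 1) (c := ((z : T) : T ⧸ W))
      (by rw [mul_one]; exact hyx)).symm
  rcases Cfsg.Agent.Helper17.order8_dihedral_or_unique_involution hcard hna with h | ⟨u, hu, huniq⟩
  · exact h
  · exfalso
    have oz : orderOf ((z : T) : T ⧸ W) = 2 :=
      orderOf_eq_prime (by rw [pow_two]; exact hzz) hz1
    have ox : orderOf ((x : T) : T ⧸ W) = 2 :=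
      orderOf_eq_prime (by rw [pow_two]; exact hxx) hx1
    have e1 := huniq _ oz
    have e2 := huniq _ ox
    apply hg.xzW
    rw [← mk1, QuotientGroup.mk_mul, e1, e2, ← e1]
    exact hzz

end Cfsg.Agent.Helper15.RuZ
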