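import Mathlib
import Cfsg.Agent.Lib.Helper76.RuZDefs
import Cfsg.Agent.Lib.Helper2.Nilpotent

/-!
# RUZ server (helper76, S3174): piece (FIX) `exists_central_mod`.
-/

set_option autoImplicit false

namespace Cfsg.Agent.Helper15.RuZ

open Cfsg.Agent.Helper76.RuZ

variable {T : Type*} [Group T] [Finite T]

/-- (FIX) a normal subgroup `C` properly containing the normal subgroup `F` of a finite 2-group contains an element
`s ∉ F` that is central mod `F`. -/
theorem exists_central_mod (hT : IsPGroup 2 T) (F C : Subgroup T) [F.Normal] [C.Normal] (hFC : F ≤ C) (hne : ¬ C ≤ F) :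
    ∃ s ∈ C, s ∉ F ∧ ∀ t : T, t * s * t⁻¹ * s⁻¹ ∈ F := by
  haveI : Fact (Nat.Prime 2) := ⟨Nat.prime_two⟩
  have hQ : IsPGroup 2 (T ⧸ F) := hT.to_quotient F
  haveI : Group.IsNilpotent (T ⧸ F) := hQ.isNilpotent
  let K : Subgroup (T ⧸ F) := C.map (QuotientGroup.mk' F)
  haveI : K.Normal := Subgroup.Normal.map inferInstance _ (QuotientGroup.mk'_surjective F)
  have hK : K ≠ ⊥ := by
    intro h
    apply hne
    intro c hc
    have h1 : (QuotientGroup.mk' F c) ∈ K := Subgroup.mem_map_of_mem _ hc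
    rw [h, Subgroup.mem_bot] at h1
    exact (QuotientGroup.eq_one_iff c).mp h1
  have h2 := Cfsg.Agent.Helper2.normal_inf_center_ne_bot K hK
  obtain ⟨⟨q, hq⟩, hq1⟩ := (Subgroup.ne_bot_iff_exists_ne_one).mp h2
  have hq1' : q ≠ 1 := fun h => hq1 (Subtype.ext h)
  obtain ⟨hqK, hqZ⟩ := Subgroup.mem_inf.mp hq
  obtain ⟨s, hsC, hsq⟩ := Subgroup.mem_map.mp hqK
  refine ⟨s, hsC, ?_, ?_⟩
  · intro hsF
    apply hq1'
    rw [← hsq]
    exact (QuotientGroup.eq_one_iff s).mpr hsF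
  · intro t
    rw [← QuotientGroup.eq_one_iff]
    have hc := Subgroup.mem_center_iff.mp hqZ (QuotientGroup.mk' F t)
    have hs' : (QuotientGroup.mk' F s) = q := hsq
    show ((t * s * t⁻¹ * s⁻¹ : T) : T ⧸ F) = 1
    have e : ((t * s * t⁻¹ * s⁻¹ : T) : T ⧸ F) =
        QuotientGroup.mk' F t * QuotientGroup.mk' F s * (QuotientGroup.mk' F t)⁻¹ * (QuotientGroup.mk' F s)⁻¹ := by
      simp
    rw [e, hs', hc]
    group

end Cfsg.Agent.Helper15.RuZ
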