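import Cfsg.Agent.Lib.Helper39.StbDefs
import Cfsg.Agent.Lib.Helper59.WeylGlue
import Cfsg.Prelude.Def_ParabolicCharacters

/-!
# STB server (helper39, S2327): piece (GL) `psi_mem_W` + `exists_lift_W`.
-/

set_option autoImplicit false
set_option linter.unusedSectionVars false

namespace Cfsg.Agent.Helper15.Stb

open Cfsg Cfsg.Agent.Helper6 Cfsg.Agent.Helper6.Weyl Cfsg.Agent.Helper59.Poincare Cfsg.Agent.Helper39.Stb Matrix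

section Group

variable {G : Type*} [Group G] (P : Cfsg.BNPair G) {l : ℕ} (V : VDatum l)
  (ψ : P.N →* V.Wf)
  (hker : ∀ n : P.N, ψ n = 1 ↔ (n : G) ∈ P.B)
  (hS : ∀ s (hs : s ∈ P.S), ∃ i, ψ ⟨s, P.subset hs⟩ = V.σ i)
  (hS' : ∀ i, ∃ s, ∃ hs : s ∈ P.S, ψ ⟨s, P.subset hs⟩ = V.σ i)
variable (J : Fin l → Prop) [DecidablePred J] (T : Set G) (hT : T ⊆ P.S)

/-- (GL1) `ψ` maps `⟨T⟩` into `W_J` (closure induction) -/
theorem psi_mem_W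
    (hT1 : ∀ s (hs : s ∈ T), ∃ i, J i ∧ ψ ⟨s, P.subset (hT hs)⟩ = V.σ i)
    {n : G} (hn : n ∈ Subgroup.closure T) :
    ((ψ ⟨n, closure_le_N P hT hn⟩ : V.Wf) : (Mat l)ˣ) ∈ V.W J := by
  induction hn using Subgroup.closure_induction with
  | mem s hs =>
    obtain ⟨i, hi, h⟩ := hT1 s hs
    show ((ψ ⟨s, P.subset (hT hs)⟩ : V.Wf) : (Mat l)ˣ) ∈ V.W J
    rw [h]
    exact V.s_mem_W J hi
  | one =>
    show ((ψ (1 : P.N) : V.Wf) : (Mat l)ˣ) ∈ V.W J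
    rw [map_one]
    exact Subgroup.one_mem _
  | mul a b ha hb iha ihb =>
    show ((ψ ((⟨a, closure_le_N P hT ha⟩ : P.N) * ⟨b, closure_le_N P hT hb⟩) : V.Wf) : (Mat l)ˣ) ∈ V.W J
    rw [map_mul, Subgroup.coe_mul]
    exact Subgroup.mul_mem _ iha ihb
  | inv a ha iha =>
    show ((ψ ((⟨a, closure_le_N P hT ha⟩ : P.N)⁻¹) : V.Wf) : (Mat l)ˣ) ∈ V.W J
    rw [map_inv, Subgroup.coe_inv]
    exact Subgroup.inv_mem _ iha

/-- (GL2) every element of `W_J` lifts to `⟨T⟩` -/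
theorem exists_lift_W
    (hT2 : ∀ i, J i → ∃ s, ∃ hs : s ∈ T, ψ ⟨s, P.subset (hT hs)⟩ = V.σ i)
    {w : (Mat l)ˣ} (hw : w ∈ V.W J) :
    ∃ n, ∃ hn : n ∈ Subgroup.closure T,
      ((ψ ⟨n, closure_le_N P hT hn⟩ : V.Wf) : (Mat l)ˣ) = w := by
  induction hw using Subgroup.closure_induction with
  | mem x hx =>
    obtain ⟨i, hi, rfl⟩ := hx
    obtain ⟨s, hs, h⟩ := hT2 i hi
    refine ⟨s, Subgroup.subset_closure hs, ?_⟩
    show ((ψ ⟨s, P.subset (hT hs)⟩ : V.Wf) : (Mat l)ˣ) = V.s i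
    rw [h]
    rfl
  | one =>
    refine ⟨1, Subgroup.one_mem _, ?_⟩
    show ((ψ (1 : P.N) : V.Wf) : (Mat l)ˣ) = 1
    rw [map_one]
    rfl
  | mul a b _ _ iha ihb =>
    obtain ⟨na, hna, ea⟩ := iha
    obtain ⟨nb, hnb, eb⟩ := ihb
    refine ⟨na * nb, Subgroup.mul_mem _ hna hnb, ?_⟩
    show ((ψ ((⟨na, closure_le_N P hT hna⟩ : P.N) * ⟨nb, closure_le_N P hT hnb⟩) : V.Wf) : (Mat l)ˣ) = a * b
    rw [map_mul, Subgroup.coe_mul, ea, eb]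
  | inv a _ iha =>
    obtain ⟨na, hna, ea⟩ := iha
    refine ⟨na⁻¹, Subgroup.inv_mem _ hna, ?_⟩
    show ((ψ ((⟨na, closure_le_N P hT hna⟩ : P.N)⁻¹) : V.Wf) : (Mat l)ˣ) = a⁻¹
    rw [map_inv, Subgroup.coe_inv, ea]

end Group

end Cfsg.Agent.Helper15.Stb
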