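import Mathlib
import Cfsg.Prelude.Def_Local
import Cfsg.Agent.Lib.Helper89.TH1Defs

/-!
# TH1 server (helper89, S3797): piece (CW) `cent_dichotomy`.
-/

set_option autoImplicit false

namespace Cfsg.Agent.Helper15.TH1

open Cfsg Subgroup Cfsg.Agent.Helper89.TH1
open scoped commutatorElement

universe u

variable {G : Type u} [Group G] [Finite G]

/-- (CW) `C_W(K)` is `1` or `W`. -/
theorem cent_dichotomy {W K : Subgroup G} (hB : Base G W) (hK : KData G K) :
    (∀ w ∈ W, (∀ k ∈ K, k * w = w * k) → w = 1) ∨ (∀ w ∈ W, ∀ k ∈ K, k * w = w * k) := by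
  by_cases h : ∃ c ∈ W, c ≠ 1 ∧ ∀ k ∈ K, k * c = c * k
  · right
    obtain ⟨c, hcW, hc1, hcK⟩ := h
    -- `c` centralizes `R = Q ⊔ K`
    have hR : pCore 2 G ⊔ K ≤ centralizer ({c} : Set G) := by
      apply sup_le
      · intro q hq
        rw [mem_centralizer_iff]
        intro x hx
        rw [Set.mem_singleton_iff] at hx
        subst hx
        exact hB.W_central x hcW q hq
      · intro k hk
        rw [mem_centralizer_iff]
        intro x hx
        rw [Set.mem_singleton_iff] at hx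
        subst hx
        exact (hcK k hk).symm
    have hRn := hK.R_normal
    intro w hw k hk
    by_cases hw1 : w = 1
    · subst hw1; simp
    · obtain ⟨g, hg⟩ := hB.W_trans c hcW w hw hc1 hw1
      have hkR : k ∈ pCore 2 G ⊔ K := (le_sup_right : K ≤ pCore 2 G ⊔ K) hk
      have hconj : g⁻¹ * k * g⁻¹⁻¹ ∈ pCore 2 G ⊔ K := hRn.conj_mem k hkR g⁻¹
      have hcomm := mem_centralizer_iff.mp (hR hconj) c (Set.mem_singleton c)
      -- hcomm : c * (g⁻¹ * k * g⁻¹⁻¹) = (g⁻¹ * k * g⁻¹⁻¹) * c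
      rw [inv_inv] at hcomm
      rw [← hg]
      calc k * (g * c * g⁻¹) = g * ((g⁻¹ * k * g) * c) * g⁻¹ := by group
        _ = g * (c * (g⁻¹ * k * g)) * g⁻¹ := by rw [hcomm]
        _ = g * c * g⁻¹ * k := by group
  · left
    intro w hw hwK
    by_contra hw1
    exact h ⟨w, hw, hw1, hwK⟩

end Cfsg.Agent.Helper15.TH1
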