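import Mathlib
import Cfsg.Prelude.Def_Local
import Cfsg.Agent.Lib.Helper89.TH1Defs

/-!
# TH1 server (helper89, S3797): piece (YM1) `exists_minimal_Y`.
-/

set_option autoImplicit false

namespace Cfsg.Agent.Helper15.TH1

open Cfsg Subgroup Cfsg.Agent.Helper89.TH1
open scoped commutatorElement

universe u

variable {G : Type u} [Group G] [Finite G]

private theorem h15_pCore_normal : (pCore 2 G).Normal := Subgroup.sSup_normal _ (fun _ h => h.1)

private theorem h15_isPGroup_pCore : IsPGroup 2 (pCore 2 G) := by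
  haveI : Fact (Nat.Prime 2) := ⟨Nat.prime_two⟩
  have P : Sylow 2 G := Classical.arbitrary _
  refine P.isPGroup'.to_le ?_
  apply sSup_le
  rintro N ⟨hN, hp⟩
  have := hN
  exact hp.le_sylow_of_normal P

/-- (YM1) a minimal `N`-, `K`-invariant subgroup `Y ≤ Q` with `⁅Y, K₁⁆ ≠ ⊥`. -/
theorem exists_minimal_Y {W K N E K₁ Q₀ : Subgroup G} (hB : Base G W) (hK : KData G K)
    (hH : HData G W K N E K₁ Q₀) :
    ∃ Y : Subgroup G, Y ≤ pCore 2 G ∧ Nzes N Y ∧ Nzes K Y ∧ ⁅Y, K₁⁆ ≠ ⊥ ∧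
      ∀ Z : Subgroup G, Z < Y → Nzes N Z → Nzes K Z → ⁅Z, K₁⁆ = ⊥ := by
  classical
  have hQn : (pCore 2 G).Normal := h15_pCore_normal
  let S : Set (Subgroup G) :=
    {Y | Y ≤ pCore 2 G ∧ Nzes N Y ∧ Nzes K Y ∧ ⁅Y, K₁⁆ ≠ ⊥}
  have hQS : pCore 2 G ∈ S := by
    refine ⟨le_rfl, fun g _ y hy => hQn.conj_mem y hy g, fun g _ y hy => hQn.conj_mem y hy g, ?_⟩
    intro hbot
    apply hH.K₁_ne
    -- `K₁ ≤ C(Q) ≤ Q`
    have h1 : K₁ ≤ centralizer (pCore 2 G : Set G) := by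
      intro k hk
      rw [mem_centralizer_iff]
      intro q hq
      have hc : ⁅q, k⁆ ∈ ⁅pCore 2 G, K₁⁆ := Subgroup.commutator_mem_commutator hq hk
      rw [hbot, Subgroup.mem_bot, commutatorElement_eq_one_iff_mul_comm] at hc
      exact hc
    have h2 : K₁ ≤ pCore 2 G := h1.trans hB.cent
    -- `K₁` is a 2-group of odd order
    have h2g : IsPGroup 2 K₁ := h15_isPGroup_pCore.to_le h2
    obtain ⟨n, hn⟩ := IsPGroup.iff_card.mp h2g
    have hodd : Odd (Nat.card K₁) := by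
      have hdvd : Nat.card K₁ ∣ Nat.card K := Subgroup.card_dvd_of_le hH.K₁_le
      exact Odd.of_dvd_nat hK.K_odd hdvd
    have hn0 : n = 0 := by
      by_contra hne
      rw [hn] at hodd
      exact (Nat.not_even_iff_odd.mpr hodd) (Nat.even_pow.mpr ⟨even_two, hne⟩)
    rw [hn0, pow_zero] at hn
    exact (Subgroup.card_eq_one).mp hn
  obtain ⟨Y, hYS, hmin⟩ :=
    WellFounded.has_min (measure (fun Y : Subgroup G => Nat.card Y)).wf S ⟨_, hQS⟩
  refine ⟨Y, hYS.1, hYS.2.1, hYS.2.2.1, hYS.2.2.2, ?_⟩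
  intro Z hZY hZN hZK
  by_contra hne
  have hZS : Z ∈ S := ⟨hZY.le.trans hYS.1, hZN, hZK, hne⟩
  apply hmin Z hZS
  show Nat.card Z < Nat.card Y
  have h1 : (Z : Set G) ⊂ (Y : Set G) := SetLike.coe_ssubset_coe.mpr hZY
  have h2 := Set.ncard_lt_ncard h1 (Set.toFinite _)
  rwa [← Nat.card_coe_set_eq, ← Nat.card_coe_set_eq] at h2

end Cfsg.Agent.Helper15.TH1
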